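import Cfsg.Agent.H670.PSolv
import Cfsg.Agent.H681.DegBasic
import Cfsg.Agent.S0867
import Cfsg.Agent.H671.H5Facts

/-!
# Character degrees of split extensions, for Palfy's three primes theorem (helper748)

* `little` : Clifford + Gallagher for a character extending to its inertia group;
* `degree_linear`, `degree_coprime` : the same with a complement, for linear characters, and for a normal Hall subgroup.
-/

set_option autoImplicit false

namespace Cfsg.Agent.H748.Palfy

open Cfsg Cfsg.Agent.Characters.Core Cfsg.Agent.OddOrderCharacters.IndRes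
  Cfsg.Agent.OddOrderCharacters.NormalInduced Cfsg.Agent.OddOrderCharacters.PF9.CliffGen
  Cfsg.Agent.H681.DegBasic

universe u

section general

variable {G : Type u} [Group G] [Finite G]

theorem gallagher_irr {Q : Type*} [Group Q] (π : G →* Q)
    (hπ : Function.Surjective π) (K : Subgroup G) [hK : K.Normal] (hKπ : ∀ k ∈ K, π k = 1)
    {χ : G → ℂ} (hχ : IsIrrCharacter G χ) (hχK : IsIrrCharacter K (fun k : K => χ k))
    {β : Q → ℂ} (hβ : IsIrrCharacter Q β) : IsIrrCharacter G (fun g => β (π g) * χ g) := by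
  classical
  have := Fintype.ofFinite G
  have := Fintype.ofFinite K
  obtain ⟨b, -, hb⟩ := isIrr_apply_one hβ
  have hχc : IsClassFunction G χ := isIrr_isClassFunction hχ
  have hone : ((fun _ => 1) * (fun k : K => χ k) : K → ℂ) = fun k : K => χ k := by
    funext k; simp
  have key := S0856.result K (fun _ => 1) (fun k : K => χ k) isIrr_one hχK
    (fun g n => rfl) (fun g n => hχc n g) (by rw [hone]; exact hχK) χ hχ (fun n => rfl)
  have hmem : (β ∘ π) ∈ {β : G → ℂ | IsIrrCharacter G β ∧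
      classInner (indFun K (fun _ => 1)) β ≠ 0} := by
    refine ⟨isIrr_comp π hπ hβ, ?_⟩
    rw [Cfsg.Agent.CharactersDeep.NormalInd.classInner_indFun K (fun _ => 1) _
      (isIrr_isClassFunction (isIrr_comp π hπ hβ))]
    have h1 : (fun k : K => (β ∘ π) (k : G)) = (b : ℂ) • (fun _ => 1 : K → ℂ) := by
      funext k
      simp [hKπ k k.2, hb]
    rw [h1, classInner_smul_right]
    have h2 : classInner (fun _ => 1 : K → ℂ) (fun _ => 1 : K → ℂ) = 1 :=
      classInner_irr_self isIrr_one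
    rw [h2, mul_one]
    simp only [Complex.conj_natCast, ne_eq, Nat.cast_eq_zero]
    rintro rfl
    exact isIrr_apply_one_ne_zero hβ (by simpa using hb)
  exact (key.mapsTo hmem).1

/-- Clifford and Gallagher: `θ` extends to its inertia group `T`, `Q` is a quotient of `T / M`. -/
theorem little (M : Subgroup G) [hM : M.Normal] {θ : M → ℂ} (hθ : IsIrrCharacter M θ) {d : ℕ} (hd : θ 1 = d)
    (T : Subgroup G) (hT : ∀ g, g ∈ T ↔ conjFn M θ g = θ) (hMT : M ≤ T)
    {Ψ : T → ℂ} (hΨ : IsIrrCharacter T Ψ) (hres : resTo hMT Ψ = θ)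
    {Q : Type*} [Group Q] (π : T →* Q) (hπ : Function.Surjective π) (hker : ∀ n : M, π ⟨n, hMT n.2⟩ = 1) {b : ℕ}
    (hb : b ∈ charDegrees Q) : T.index * (b * d) ∈ charDegrees G := by
  classical
  have := Fintype.ofFinite G
  have := Fintype.ofFinite M
  have := Fintype.ofFinite T
  obtain ⟨β, hβ, hb⟩ := mem_charDegrees.1 hb
  have hθ' : IsIrrCharacter (M.subgroupOf T) (fun k : M.subgroupOf T => Ψ k) := by
    have h1 : (fun k : M.subgroupOf T => Ψ k) = θ ∘ (Subgroup.subgroupOfEquivOfLe hMT).toMonoidHom := by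
      rw [← hres]
      rfl
    rw [h1]
    exact isIrr_comp _ (Subgroup.subgroupOfEquivOfLe hMT).surjective hθ
  have h1 := gallagher_irr π hπ (M.subgroupOf T) (fun k hk => hker ⟨k, Subgroup.mem_subgroupOf.1 hk⟩) hΨ hθ' hβ
  have h2 : resTo hMT (fun t => β (π t) * Ψ t) = (b : ℂ) • θ := by
    funext n
    change β (π ⟨n, hMT n.2⟩) * Ψ ⟨n, hMT n.2⟩ = (b : ℂ) • θ n
    rw [hker, hb, ← hres]
    rfl
  have h3 : classInner (resTo hMT (fun t => β (π t) * Ψ t)) θ ≠ 0 := by
    rw [h2, classInner_smul_left, classInner_irr_self hθ, mul_one]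
    intro h0
    rw [h0] at hb
    exact isIrr_apply_one_ne_zero hβ hb
  have h4 := irr_ind hθ hT hMT h1 h3
  refine mem_charDegrees.2 ⟨_, h4, ?_⟩
  rw [indFun_apply_one]
  have h5 : Ψ 1 = d := by
    rw [← hd, ← hres]
    rfl
  rw [map_one, hb, h5]
  push_cast
  rfl

end general

section compl

variable {G : Type u} [Group G]

/-- the projection to a complement -/
theorem exists_proj {M H T : Subgroup G} [hM : M.Normal] (hMH : M ⊓ H = ⊥) (hMH' : M ⊔ H = ⊤) (hMT : M ≤ T) :
    ∃ π : T →* ↥(T ⊓ H), Function.Surjective π ∧ (∀ n : M, π ⟨n, hMT n.2⟩ = 1) ∧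
      ∀ x : ↥(T ⊓ H), π ⟨x, x.2.1⟩ = x := by
  have hM' : (M.subgroupOf T).Normal := hM.subgroupOf T
  let f : ↥(T ⊓ H) →* T ⧸ (M.subgroupOf T) :=
    (QuotientGroup.mk' (M.subgroupOf T)).comp (Subgroup.inclusion (inf_le_left : T ⊓ H ≤ T))
  have hinj : Function.Injective f := by
    rw [injective_iff_map_eq_one]
    intro x hx
    have h1 : (Subgroup.inclusion (inf_le_left : T ⊓ H ≤ T)) x ∈ M.subgroupOf T :=
      (QuotientGroup.eq_one_iff _).1 hx
    have h2 : (x : G) ∈ M ⊓ H := ⟨Subgroup.mem_subgroupOf.1 h1, x.2.2⟩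
    rw [hMH, Subgroup.mem_bot] at h2
    exact Subtype.ext h2
  have hsurj : Function.Surjective f := by
    intro y
    obtain ⟨t, rfl⟩ := QuotientGroup.mk_surjective y
    have h1 : (t : G) ∈ M ⊔ H := hMH' ▸ Subgroup.mem_top _
    obtain ⟨a, ha, b, hb, hab⟩ := Subgroup.mem_sup_of_normal_left.1 h1
    have hbT : b ∈ T := by
      have : b = a⁻¹ * t := by rw [← hab]; group
      rw [this]
      exact T.mul_mem (T.inv_mem (hMT ha)) t.2
    refine ⟨⟨b, hbT, hb⟩, ?_⟩
    change ((⟨b, hbT⟩ : T) : T ⧸ (M.subgroupOf T)) = _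
    rw [eq_comm, QuotientGroup.eq]
    rw [Subgroup.mem_subgroupOf]
    change (t : G)⁻¹ * b ∈ M
    have : (t : G)⁻¹ * b = b⁻¹ * a⁻¹ * b := by rw [← hab]; group
    rw [this]
    have := hM.conj_mem a⁻¹ (M.inv_mem ha) b⁻¹
    rwa [inv_inv] at this
  let e : ↥(T ⊓ H) ≃* T ⧸ (M.subgroupOf T) := MulEquiv.ofBijective f ⟨hinj, hsurj⟩
  refine ⟨e.symm.toMonoidHom.comp (QuotientGroup.mk' (M.subgroupOf T)), ?_, ?_, ?_⟩
  · exact e.symm.surjective.comp (QuotientGroup.mk'_surjective _)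
  · intro n
    change e.symm (QuotientGroup.mk' (M.subgroupOf T) ⟨n, hMT n.2⟩) = 1
    have : QuotientGroup.mk' (M.subgroupOf T) ⟨n, hMT n.2⟩ = 1 :=
      (QuotientGroup.eq_one_iff _).2 (Subgroup.mem_subgroupOf.2 n.2)
    rw [this, map_one]
  · intro x
    change e.symm (f x) = x
    exact e.symm_apply_apply x

theorem relIndex_eq_card {M H : Subgroup G} (h : M ⊓ H = ⊥) : M.relIndex H = Nat.card H := by
  rw [← Subgroup.inf_relIndex_right, h, Subgroup.relIndex_bot_left]

theorem sup_inf_eq {M H T : Subgroup G} [hM : M.Normal] (hMH' : M ⊔ H = ⊤) (hMT : M ≤ T) : M ⊔ (T ⊓ H) = T := by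
  apply le_antisymm (sup_le hMT inf_le_left)
  intro t ht
  have h1 : t ∈ M ⊔ H := hMH' ▸ Subgroup.mem_top _
  obtain ⟨a, ha, b, hb, hab⟩ := Subgroup.mem_sup_of_normal_left.1 h1
  have hbT : b ∈ T := by
    have : b = a⁻¹ * t := by rw [← hab]; group
    rw [this]
    exact T.mul_mem (T.inv_mem (hMT ha)) ht
  rw [← hab]
  exact Subgroup.mul_mem_sup ha ⟨hbT, hb⟩

theorem index_eq [Finite G] {M H T : Subgroup G} [hM : M.Normal] (hMH : M ⊓ H = ⊥) (hMH' : M ⊔ H = ⊤) (hMT : M ≤ T) :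
    T.index = (T ⊓ H).relIndex H := by
  have h1 : M.relIndex T = Nat.card ↥(T ⊓ H) := by
    conv_lhs => rw [← sup_inf_eq hMH' hMT]
    rw [Subgroup.relIndex_sup_left]
    apply relIndex_eq_card
    rw [eq_bot_iff, ← hMH]
    exact inf_le_inf le_rfl inf_le_right
  have h2 : M.index = Nat.card H := by
    rw [← Subgroup.relIndex_top_right, ← hMH', Subgroup.relIndex_sup_left, relIndex_eq_card hMH]
  have h3 := Subgroup.relIndex_mul_index hMT
  have h4 : Nat.card ↥(T ⊓ H) * (T ⊓ H).relIndex H = Nat.card H := by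
    have := Subgroup.card_mul_index ((T ⊓ H).subgroupOf H)
    rw [← this]
    congr 1
    exact (Nat.card_congr (Subgroup.subgroupOfEquivOfLe inf_le_right).toEquiv).symm
  rw [h1, h2, ← h4] at h3
  exact Nat.eq_of_mul_eq_mul_left Nat.card_pos h3

/-- The inertia group in `H` of a linear character of the normal subgroup `M`. -/
def stab (M H : Subgroup G) [M.Normal] (θ : M → ℂ) : Subgroup G := inertia M θ ⊓ H

theorem stab_le (M H : Subgroup G) [M.Normal] (θ : M → ℂ) : stab M H θ ≤ H := inf_le_right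

theorem mem_stab {M H : Subgroup G} [hM : M.Normal] {θ : M → ℂ} {g : G} :
    g ∈ stab M H θ ↔ g ∈ H ∧ ∀ h : M, θ ⟨g * h * g⁻¹, hM.conj_mem h h.2 g⟩ = θ h := by
  rw [stab, Subgroup.mem_inf, mem_inertia', and_comm]

theorem degree_ext [Finite G] {M H : Subgroup G} [hM : M.Normal] (hMH : M ⊓ H = ⊥) (hMH' : M ⊔ H = ⊤) {θ : M → ℂ}
    (hθ : IsIrrCharacter M θ) {d : ℕ} (hd : θ 1 = d)
    {Ψ : inertia M θ → ℂ} (hΨ : IsIrrCharacter _ Ψ)
    (hres : resTo (le_inertia (isIrr_isClassFunction hθ)) Ψ = θ) {b : ℕ} (hb : b ∈ charDegrees (stab M H θ)) :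
    (stab M H θ).relIndex H * (b * d) ∈ charDegrees G := by
  obtain ⟨π, hπ, hker, -⟩ := exists_proj (T := inertia M θ) hMH hMH' (le_inertia (isIrr_isClassFunction hθ))
  have h1 := little M hθ hd (inertia M θ) (fun g => Iff.rfl) (le_inertia (isIrr_isClassFunction hθ)) hΨ hres π hπ hker hb
  rw [index_eq hMH hMH' (le_inertia (isIrr_isClassFunction hθ))] at h1
  exact h1

/-- linear characters of a normal subgroup with a complement -/
theorem degree_linear [Finite G] {M H : Subgroup G} [hM : M.Normal] (hMH : M ⊓ H = ⊥) (hMH' : M ⊔ H = ⊤)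
    (lam : M →* ℂˣ) {b : ℕ} (hb : b ∈ charDegrees (stab M H (fun n => (lam n : ℂ)))) :
    (stab M H (fun n => (lam n : ℂ))).relIndex H * b ∈ charDegrees G := by
  have hirr := Characters.Linear.isIrrCharacter_hom lam
  have hle := le_inertia (isIrr_isClassFunction hirr)
  obtain ⟨F, hF, -⟩ := Cfsg.Agent.OddOrderCharacters.PF9.CliffGen.exists_extension (T := inertia M (fun n => (lam n : ℂ))) hMH hMH' hle (lam := lam)
    (fun g hg => hg) 1
  have h1 := degree_ext hMH hMH' hirr (d := 1) (by simp) (Ψ := fun t => (F t : ℂ))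
    (Characters.Linear.isIrrCharacter_hom F) (by
      funext n
      change ((F ⟨n, _⟩ : ℂˣ) : ℂ) = _
      rw [hF]) hb
  rwa [mul_one] at h1

theorem detOrder_dvd {X : Type u} [Group X] [Finite X] {χ : X → ℂ} (hχ : IsIrrCharacter X χ) :
    detOrder χ ∣ Nat.card X := by
  unfold detOrder
  obtain ⟨δ, hδ⟩ := CharactersDeep.ExtUnique.exists_hom_detChar hχ
  apply orderOf_dvd_of_pow_eq_one
  funext g
  rw [Pi.pow_apply, hδ, Pi.one_apply, ← Units.val_pow_eq_pow_val, ← map_pow, pow_card_eq_one']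
  simp

/-- characters of a normal Hall subgroup -/
theorem degree_coprime [Finite G] {M H : Subgroup G} [hM : M.Normal] (hMH : M ⊓ H = ⊥) (hMH' : M ⊔ H = ⊤)
    (hcop : (Nat.card M).Coprime (Nat.card H)) {θ : M → ℂ}
    (hθ : IsIrrCharacter M θ) {d : ℕ} (hd : θ 1 = d) {b : ℕ} (hb : b ∈ charDegrees (stab M H θ)) :
    (stab M H θ).relIndex H * (b * d) ∈ charDegrees G := by
  set T := inertia M θ with hT
  have hMT : M ≤ T := le_inertia (isIrr_isClassFunction hθ)
  have hM' : (M.subgroupOf T).Normal := hM.subgroupOf T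
  have hirr : IsIrrCharacter (M.subgroupOf T) (down M T θ) :=
    isIrr_comp (Subgroup.subgroupOfEquivOfLe hMT).toMonoidHom (Subgroup.subgroupOfEquivOfLe hMT).surjective hθ
  have hcard : Nat.card ↥(M.subgroupOf T) = Nat.card M :=
    Nat.card_congr (Subgroup.subgroupOfEquivOfLe hMT).toEquiv
  have hidx : (M.subgroupOf T).index = Nat.card ↥(T ⊓ H) := by
    change M.relIndex T = _
    conv_lhs => rw [← sup_inf_eq hMH' hMT]
    rw [Subgroup.relIndex_sup_left]
    apply relIndex_eq_card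
    rw [eq_bot_iff, ← hMH]
    exact inf_le_inf le_rfl inf_le_right
  have hcop' : (M.subgroupOf T).index.Coprime (Nat.card M) := by
    rw [hidx]
    exact (hcop.symm).coprime_dvd_left (Subgroup.card_dvd_of_le inf_le_right)
  have hd' : d ∣ Nat.card M := dvd_card (mem_charDegrees.2 ⟨θ, hθ, hd⟩)
  have ho : detOrder (down M T θ) ∣ Nat.card M := hcard ▸ detOrder_dvd hirr
  obtain ⟨Ψ, ⟨hΨ, hΨr, -⟩, -⟩ := S0867.result (M.subgroupOf T) (down M T θ) hirr (by
    intro g n
    have h1 := mem_inertia'.1 g.2 ⟨n, Subgroup.mem_subgroupOf.1 n.2⟩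
    exact h1) d (by rw [← hd]; rfl)
    (Nat.Coprime.mul_right (hcop'.coprime_dvd_right ho) (hcop'.coprime_dvd_right hd'))
  refine degree_ext hMH hMH' hθ hd hΨ ?_ hb
  funext n
  exact hΨr ⟨⟨n, hMT n.2⟩, Subgroup.mem_subgroupOf.2 n.2⟩

/-- the degrees of a complement are degrees -/
theorem degree_compl [Finite G] {M H : Subgroup G} [hM : M.Normal] (hMH : M ⊓ H = ⊥) (hMH' : M ⊔ H = ⊤)
    {b : ℕ} (hb : b ∈ charDegrees H) : b ∈ charDegrees G := by
  obtain ⟨π, hπ, -, -⟩ := exists_proj (T := ⊤) hMH hMH' le_top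
  let e : ↥((⊤ : Subgroup G) ⊓ H) ≃* H := MulEquiv.subgroupCongr (top_inf_eq H)
  let f : G →* H := (e.toMonoidHom.comp π).comp Subgroup.topEquiv.symm.toMonoidHom
  exact charDegrees_comp f ((e.surjective.comp hπ).comp Subgroup.topEquiv.symm.surjective) hb

/-- Itô-Michler for solvable groups -/
theorem ito_michler {X : Type u} [Group X] [Finite X] (hX : Group.IsSolvable X) {p : ℕ} [Fact p.Prime]
    (h : ∀ d ∈ charDegrees X, ¬ p ∣ d) (P : Sylow p X) :
    (P : Subgroup X).Normal ∧ ∀ a ∈ (P : Subgroup X), ∀ b ∈ (P : Subgroup X), a * b = b * a := by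
  have := hX
  refine H670.PSing.IM_of_pSolvable (Lib.PSolvable.IsPSolvable_of_solvable p) (fun β hβ => ?_) P
  exact h _ ⟨⟨β, hβ⟩, rfl⟩

end compl

end Cfsg.Agent.H748.Palfy
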