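import Cfsg.Agent.H255.RankTools

/-!
# `PSL₂(2^n)` has the property `ZP` (helper748; task 111 of helper255)
-/

set_option autoImplicit false

namespace Cfsg.Agent.H748.RoPSL

open Cfsg.Agent.LieRecognition.RankOneAbstract Cfsg.Agent.H255 Cfsg.Agent.H255.RankOne Cfsg.Agent.H255.RankTools
open Matrix

variable {F : Type*} [Field F]

local notation "SL2" => Matrix.SpecialLinearGroup (Fin 2)

/-- upper unitriangular -/
def up (x : F) : SL2 F := ⟨!![1, x; 0, 1], by simp⟩

/-- diagonal -/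
def dg (a : Fˣ) : SL2 F := ⟨!![(a : F), 0; 0, ((a⁻¹ : Fˣ) : F)], by simp⟩

/-- Weyl element -/
def wl : SL2 F := ⟨!![0, 1; -1, 0], by simp⟩

theorem ext2 {g h : SL2 F} (h00 : g.1 0 0 = h.1 0 0) (h01 : g.1 0 1 = h.1 0 1) (h10 : g.1 1 0 = h.1 1 0)
    (h11 : g.1 1 1 = h.1 1 1) : g = h := by
  apply Subtype.ext
  ext i j
  fin_cases i <;> fin_cases j <;> assumption

theorem mul00 (g h : SL2 F) : (g * h).1 0 0 = g.1 0 0 * h.1 0 0 + g.1 0 1 * h.1 1 0 := by
  change (g.1 * h.1) 0 0 = _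
  rw [Matrix.mul_apply, Fin.sum_univ_two]

theorem mul01 (g h : SL2 F) : (g * h).1 0 1 = g.1 0 0 * h.1 0 1 + g.1 0 1 * h.1 1 1 := by
  change (g.1 * h.1) 0 1 = _
  rw [Matrix.mul_apply, Fin.sum_univ_two]

theorem mul10 (g h : SL2 F) : (g * h).1 1 0 = g.1 1 0 * h.1 0 0 + g.1 1 1 * h.1 1 0 := by
  change (g.1 * h.1) 1 0 = _
  rw [Matrix.mul_apply, Fin.sum_univ_two]

theorem mul11 (g h : SL2 F) : (g * h).1 1 1 = g.1 1 0 * h.1 0 1 + g.1 1 1 * h.1 1 1 := by
  change (g.1 * h.1) 1 1 = _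
  rw [Matrix.mul_apply, Fin.sum_univ_two]

theorem inv00 (g : SL2 F) : (g⁻¹).1 0 0 = g.1 1 1 := by
  change (Matrix.adjugate g.1) 0 0 = _
  rw [Matrix.adjugate_fin_two]; rfl

theorem inv01 (g : SL2 F) : (g⁻¹).1 0 1 = - g.1 0 1 := by
  change (Matrix.adjugate g.1) 0 1 = _
  rw [Matrix.adjugate_fin_two]; rfl

theorem inv10 (g : SL2 F) : (g⁻¹).1 1 0 = - g.1 1 0 := by
  change (Matrix.adjugate g.1) 1 0 = _
  rw [Matrix.adjugate_fin_two]; rfl

theorem inv11 (g : SL2 F) : (g⁻¹).1 1 1 = g.1 0 0 := by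
  change (Matrix.adjugate g.1) 1 1 = _
  rw [Matrix.adjugate_fin_two]; rfl

theorem det2 (g : SL2 F) : g.1 0 0 * g.1 1 1 - g.1 0 1 * g.1 1 0 = 1 := by
  have := g.2
  rwa [Matrix.det_fin_two] at this

theorem up00 (x : F) : (up x).1 0 0 = 1 := rfl
theorem up01 (x : F) : (up x).1 0 1 = x := rfl
theorem up10 (x : F) : (up x).1 1 0 = 0 := rfl
theorem up11 (x : F) : (up x).1 1 1 = 1 := rfl
theorem dg00 (a : Fˣ) : (dg a).1 0 0 = a := rfl
theorem dg01 (a : Fˣ) : (dg a).1 0 1 = 0 := rfl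
theorem dg10 (a : Fˣ) : (dg a).1 1 0 = 0 := rfl
theorem dg11 (a : Fˣ) : (dg a).1 1 1 = ((a⁻¹ : Fˣ) : F) := rfl
theorem wl00 : (wl : SL2 F).1 0 0 = 0 := rfl
theorem wl01 : (wl : SL2 F).1 0 1 = 1 := rfl
theorem wl10 : (wl : SL2 F).1 1 0 = -1 := rfl
theorem wl11 : (wl : SL2 F).1 1 1 = 0 := rfl

/-- the upper triangular matrices -/
def borel (F : Type*) [Field F] : Subgroup (SL2 F) where
  carrier := {g | g.1 1 0 = 0}
  one_mem' := rfl
  mul_mem' := by
    intro g h (hg : g.1 1 0 = 0) (hh : h.1 1 0 = 0)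
    change (g * h).1 1 0 = 0
    rw [mul10, hg, hh]; ring
  inv_mem' := by
    intro g (hg : g.1 1 0 = 0)
    change (g⁻¹).1 1 0 = 0
    rw [inv10, hg, neg_zero]

theorem mem_borel {g : SL2 F} : g ∈ borel F ↔ g.1 1 0 = 0 := Iff.rfl

theorem up_add (x y : F) : up x * up y = up (x + y) := by
  apply ext2
  · rw [mul00]; simp [up00, up10, up01]
  · rw [mul01]; simp [up00, up11, up01]; ring
  · rw [mul10]; simp [up00, up10, up11]
  · rw [mul11]; simp [up01, up10, up11]

theorem up_zero : up (0 : F) = 1 := by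
  apply ext2 <;> rfl

theorem up_inv (x : F) : (up x)⁻¹ = up (-x) := by
  rw [inv_eq_iff_mul_eq_one, up_add, add_neg_cancel, up_zero]

theorem up_inj {x y : F} (h : up x = up y) : x = y := by
  have := congrArg (fun g : SL2 F => g.1 0 1) h
  exact this

/-- the upper unitriangular matrices -/
def unip (F : Type*) [Field F] : Subgroup (SL2 F) where
  carrier := {g | ∃ x, g = up x}
  one_mem' := ⟨0, up_zero.symm⟩
  mul_mem' := by
    rintro _ _ ⟨x, rfl⟩ ⟨y, rfl⟩
    exact ⟨x + y, up_add x y⟩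
  inv_mem' := by
    rintro _ ⟨x, rfl⟩
    exact ⟨-x, up_inv x⟩

theorem conj_up {g : SL2 F} (hg : g ∈ borel F) (x : F) : g * up x * g⁻¹ = up (g.1 0 0 * g.1 0 0 * x) := by
  rw [mem_borel] at hg
  have hd := det2 g
  rw [hg, mul_zero, sub_zero] at hd
  rw [mul_inv_eq_iff_eq_mul]
  apply ext2
  · rw [mul00, mul00, up00, up10, hg, up00, up01]; ring
  · rw [mul01, mul01, up00, up11, up01, up01]
    linear_combination (-(g.1 0 0 * x)) * hd
  · rw [mul10, mul10, up00, up10, hg, up10, up11]; ring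
  · rw [mul11, mul11, up01, up11, hg, up10, up11]; ring

theorem data (F : Type*) [Field F] : Data (borel F) (unip F) wl where
  w_not_mem h := by
    rw [mem_borel, wl10] at h
    exact one_ne_zero (neg_eq_zero.1 h)
  le := by
    rintro _ ⟨x, rfl⟩
    exact up10 x
  norm := by
    rintro h hh _ ⟨x, rfl⟩
    exact ⟨_, conj_up hh x⟩
  bruhat g hg := by
    rw [mem_borel] at hg
    refine ⟨up (g.1 0 0 / g.1 1 0), ⟨_, rfl⟩, ?_⟩
    rw [mem_borel, mul10, inv10, inv11, mul10, mul00, wl00, wl10, up10, up11, up00, up01]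
    field_simp
    ring
  inter := by
    rintro _ ⟨x, rfl⟩ h
    rw [mem_borel, mul10, mul10, mul11, inv10, inv11] at h
    simp only [wl00, wl10, up00, up01, up10, up11] at h
    have : x = 0 := by linear_combination -h
    rw [this, up_zero]

theorem two_iff {g : SL2 F} : g ∈ two (borel F) wl ↔ ∃ a, g = dg a := by
  constructor
  · rintro ⟨h1, h2⟩
    rw [mem_borel] at h1
    rw [mem_borel, mul10, mul10, mul11, inv10, inv11] at h2
    simp only [wl00, wl10] at h2
    have h3 : g.1 0 1 = 0 := by linear_combination -h2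
    have hd := det2 g
    rw [h1, mul_zero, sub_zero] at hd
    refine ⟨⟨g.1 0 0, g.1 1 1, hd, by rw [mul_comm]; exact hd⟩, ?_⟩
    exact ext2 rfl h3 h1 rfl
  · rintro ⟨a, rfl⟩
    refine ⟨dg10 a, ?_⟩
    rw [mem_borel, mul10, mul10, mul11, inv10, inv11]
    simp only [wl00, wl10, dg00, dg01, dg10, dg11]
    ring

theorem dg_mem_two (a : Fˣ) : dg a ∈ two (borel F) wl := two_iff.2 ⟨a, rfl⟩

theorem dg_inj {a b : Fˣ} (h : dg a = dg b) : a = b := by
  have := congrArg (fun g : SL2 F => g.1 0 0) h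
  exact Units.ext this

theorem card_unip : Nat.card (unip F) = Nat.card F := by
  symm
  refine Nat.card_congr (Equiv.ofBijective (fun x : F => (⟨up x, x, rfl⟩ : unip F))
    ⟨fun x y h => up_inj (congrArg Subtype.val h), ?_⟩)
  rintro ⟨_, x, rfl⟩
  exact ⟨x, rfl⟩

theorem card_two : Nat.card (two (borel F) wl) = Nat.card Fˣ := by
  symm
  refine Nat.card_congr (Equiv.ofBijective (fun a : Fˣ => (⟨dg a, dg_mem_two a⟩ : two (borel F) wl))
    ⟨fun x y h => dg_inj (congrArg Subtype.val h), ?_⟩)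
  rintro ⟨g, hg⟩
  obtain ⟨a, rfl⟩ := two_iff.1 hg
  exact ⟨a, rfl⟩

theorem ro [Finite F] {n : ℕ} (hn : 1 ≤ n) (hF : Nat.card F = 2 ^ n) : RO 2 (borel F) (unip F) ⊥ wl where
  data := data F
  pr := Nat.prime_two
  syl := by
    refine exists_syl (data F) Nat.prime_two (IsPGroup.of_card (n := n) (by rw [card_unip, hF])) ?_ ?_
    · intro h
      have h1 : up (1 : F) ∈ unip F := ⟨1, rfl⟩
      rw [h, Subgroup.mem_bot, ← up_zero] at h1
      exact one_ne_zero (up_inj h1)
    · rw [card_two, Nat.card_units, hF]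
      intro h
      have h2 : 2 ∣ 2 ^ n := dvd_pow_self 2 (by omega)
      have h3 : 0 < 2 ^ n := by positivity
      omega
  ab s hs t ht hs' ht' := by
    obtain ⟨a, rfl⟩ := two_iff.1 ⟨hs, hs'⟩
    obtain ⟨b, rfl⟩ := two_iff.1 ⟨ht, ht'⟩
    apply ext2
    · rw [mul00, mul00]; simp only [dg00, dg01, dg10]; ring
    · rw [mul01, mul01]; simp only [dg00, dg01, dg11]; ring
    · rw [mul10, mul10]; simp only [dg00, dg11, dg10]; ring
    · rw [mul11, mul11]; simp only [dg11, dg01, dg10]; ring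
  le := bot_le
  char α _ v hv := by
    rw [Subgroup.mem_bot] at hv ⊢
    rw [hv, map_one]
  quot := by
    rintro _ ⟨x, rfl⟩ _ ⟨y, rfl⟩
    rw [Subgroup.mem_bot, up_inv, up_inv, up_add, up_add, up_add, ← up_zero]
    congr 1
    ring
  irr := irr_of_trans fun x hx hxV y hy hyV => by
    obtain ⟨a, rfl⟩ := hx
    obtain ⟨b, rfl⟩ := hy
    have ha : a ≠ 0 := fun h => hxV (by rw [h, up_zero]; exact one_mem _)
    have hb : b ≠ 0 := fun h => hyV (by rw [h, up_zero]; exact one_mem _)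
    -- squaring is surjective
    have hodd : ¬ 2 ∣ Nat.card Fˣ := by
      rw [Nat.card_units, hF]
      intro h
      have h2 : 2 ∣ 2 ^ n := dvd_pow_self 2 (by omega)
      have h3 : 0 < 2 ^ n := by positivity
      omega
    have hcop : (Nat.card Fˣ).Coprime 2 := ((Nat.Prime.coprime_iff_not_dvd Nat.prime_two).2 hodd).symm
    let c : Fˣ := Units.mk0 (b / a) (div_ne_zero hb ha)
    obtain ⟨d, hd⟩ : ∃ d : Fˣ, d ^ 2 = c := ⟨(powCoprime hcop).symm c, (powCoprime hcop).apply_symm_apply c⟩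
    obtain ⟨h1, h2⟩ := dg_mem_two d
    refine ⟨dg d, h1, h2, ?_⟩
    have h3 : (d : F) * (d : F) * a = b := by
      have := congrArg (fun u : Fˣ => (u : F)) hd
      simp only [Units.val_pow_eq_pow_val, c, Units.val_mk0] at this
      rw [← sq, this]
      field_simp
    rw [conj_up h1, dg00, h3, inv_mul_cancel]
    exact one_mem _
  fr X hX h := by
    refine le_antisymm hX fun u hu => ?_
    obtain ⟨x, hx, hxu⟩ := h u hu
    rw [Subgroup.mem_bot, inv_mul_eq_one] at hxu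
    rwa [← hxu]
  faith t ht ht' h := by
    obtain ⟨a, rfl⟩ := two_iff.1 ⟨ht, ht'⟩
    have h1 := h (up 1) ⟨1, rfl⟩
    rw [conj_up ht, Subgroup.mem_bot, mul_inv_eq_one] at h1
    have h2 := up_inj h1
    rw [dg00, mul_one] at h2
    have h3 : a ^ 2 = 1 := by
      apply Units.ext
      rw [Units.val_pow_eq_pow_val, Units.val_one, sq]
      exact h2
    have h4 : orderOf a ∣ 2 := orderOf_dvd_of_pow_eq_one h3
    have h5 : orderOf a = 1 := by
      rcases (Nat.dvd_prime Nat.prime_two).1 h4 with h | h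
      · exact h
      · exfalso
        have h6 : 2 ∣ Nat.card Fˣ := by rw [← h]; exact orderOf_dvd_natCard a
        rw [Nat.card_units, hF] at h6
        have h2 : 2 ∣ 2 ^ n := dvd_pow_self 2 (by omega)
        have h3 : 0 < 2 ^ n := by positivity
        omega
    rw [orderOf_eq_one_iff] at h5
    rw [h5]
    apply ext2 <;> simp [dg00, dg01, dg10, dg11]
  cnt r hr hrM := by
    rw [Subgroup.relIndex_bot_left, card_unip, ← Nat.card_units, ← card_two]
    exact fun h => hrM (h.trans (Subgroup.card_subgroup_dvd_card _))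

/-- **`PSL₂(2^n)`.** -/
theorem l2 {G : Type*} [Group G] [IsSimpleGroup G] {F : Type*} [Field F] [Finite F] {n : ℕ} (hn : 2 ≤ n)
    (hF : Nat.card F = 2 ^ n) (e : G ≃* Matrix.ProjectiveSpecialLinearGroup (Fin 2) F) : ZP G := by
  classical
  have hc : Subgroup.center (SL2 F) = ⊥ := by
    rw [Subgroup.eq_bot_iff_forall]
    intro g hg
    -- `g` commutes with `up 1` and `wl`
    have h1 := (Subgroup.mem_center_iff.1 hg) (up 1)
    have h2 := (Subgroup.mem_center_iff.1 hg) wl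
    have hd := det2 g
    have e1 := congrArg (fun x : SL2 F => x.1 0 0) h1
    have e2 := congrArg (fun x : SL2 F => x.1 0 1) h1
    have e3 := congrArg (fun x : SL2 F => x.1 0 0) h2
    simp only [mul00, mul01, up00, up01, up10, up11, wl00, wl01, wl10] at e1 e2 e3
    have e4 : g.1 1 0 = 0 := by linear_combination e1
    have e5 : g.1 1 1 = g.1 0 0 := by linear_combination e2
    have e6 : g.1 0 1 = 0 := by linear_combination e3 - e4
    rw [e4, e5, mul_zero, sub_zero] at hd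
    have hb : g ∈ borel F := e4
    have hR := ro (F := F) (n := n) (by omega) hF
    refine hR.faith g hb ?_ ?_
    · obtain ⟨a, ha⟩ : ∃ a, g = dg a :=
        ⟨⟨g.1 0 0, g.1 0 0, hd, hd⟩, ext2 rfl e6 e4 (by rw [e5]; rfl)⟩
      rw [ha]
      exact (dg_mem_two a).2
    · rintro _ ⟨x, rfl⟩
      rw [conj_up hb, hd, one_mul, mul_inv_cancel]
      exact one_mem _
  let π : SL2 F ≃* Matrix.ProjectiveSpecialLinearGroup (Fin 2) F :=
    (QuotientGroup.quotientBot).symm.trans (QuotientGroup.quotientMulEquivOfEq hc.symm)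
  have hs : IsSimpleGroup (SL2 F) := (e.trans π.symm).symm.isSimpleGroup
  exact (ZP.of_ro (ro (F := F) (n := n) (by omega) hF)).of_equiv (e.trans π.symm).symm

end Cfsg.Agent.H748.RoPSL
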