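import Mathlib

/-!
# Subgroups of alternating groups of 2-power index (helper748)

`no_two_power_perm`: a proper subgroup `H` of the alternating group of degree `n ≥ 5` whose index is a power `2 ^ b`
fixes a point, is the stabilizer of it, and `n = 2 ^ b`.
-/

set_option autoImplicit false

open Equiv.Perm MulAction

namespace Cfsg.Agent.H748.JordanTwoPower

/-- a transitive permutation group that contains a long cycle of prime length and a 3-cycle contains the alternating
group. -/
theorem alt_le {α : Type*} [Fintype α] [DecidableEq α] {H : Subgroup (Equiv.Perm α)} [IsPretransitive H α]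
    {g c : Equiv.Perm α} (hg : g ∈ H) (hgc : g.IsCycle) (hgp : (orderOf g).Prime)
    (hcard : Fintype.card α < 2 * orderOf g) (hc : c.IsThreeCycle) (hcH : c ∈ H) : alternatingGroup α ≤ H := by
  obtain ⟨a, ha, hac⟩ := hgc
  have hgc : g.IsCycle := ⟨a, ha, hac⟩
  have hle : Subgroup.zpowers g ≤ H := by rwa [Subgroup.zpowers_le]
  let f : orbit (Subgroup.zpowers g) a →ₑ[Subgroup.inclusion hle] α :=
    { toFun := fun x => x.1
      map_smul' := fun m x => rfl }
  have horb : (orbit (Subgroup.zpowers g) a) = (g.support : Set α) := by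
    ext x
    constructor
    · rintro ⟨⟨h, hh⟩, rfl⟩
      obtain ⟨i, rfl⟩ := Subgroup.mem_zpowers_iff.1 hh
      show (g ^ i) a ∈ (g.support : Set α)
      simp only [Finset.mem_coe]
      exact (Equiv.Perm.zpow_apply_mem_support).2 (Equiv.Perm.mem_support.2 ha)
    · intro hx
      obtain ⟨i, hi⟩ := hac (Equiv.Perm.mem_support.1 (by simpa using hx))
      exact ⟨⟨g ^ i, Subgroup.zpow_mem_zpowers g i⟩, hi⟩
  have hn : (orbit (Subgroup.zpowers g) a).ncard = orderOf g := by
    rw [horb, Set.ncard_coe_finset, hgc.orderOf]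
  have hpre : IsPreprimitive (Subgroup.zpowers g) (orbit (Subgroup.zpowers g) a) := by
    apply IsPreprimitive.of_prime_card
    rw [Nat.card_coe_set_eq, hn]
    exact hgp
  have hpre' : IsPreprimitive H α := by
    apply IsPreprimitive.of_card_lt (f := f)
    have : Set.range f = orbit (Subgroup.zpowers g) a := by
      show Set.range (fun x : orbit (Subgroup.zpowers g) a => x.1) = _
      exact Subtype.range_coe
    rw [this, hn, Nat.card_eq_fintype_card]
    exact hcard
  exact alternatingGroup_le_of_isPreprimitive_of_isThreeCycle_mem hpre' hc hcH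

/-- an element of prime power order is conjugate into a subgroup of index prime to `p`. -/
theorem exists_conj_mem {G : Type*} [Group G] [Finite G] {p : ℕ} [Fact p.Prime] {H : Subgroup G}
    (hH : ¬ p ∣ H.index) {x : G} (hx : IsPGroup p (Subgroup.zpowers x)) : ∃ g : G, g⁻¹ * x * g ∈ H := by
  have hfin : Finite (G ⧸ H) := inferInstance
  obtain ⟨y, hy⟩ := hx.nonempty_fixed_point_of_prime_not_dvd_card (α := G ⧸ H) (by
    rw [← Subgroup.index_eq_card]; exact hH)
  obtain ⟨g, rfl⟩ := QuotientGroup.mk_surjective y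
  have h1 : (⟨x, Subgroup.mem_zpowers x⟩ : Subgroup.zpowers x) • (g : G ⧸ H) = (g : G ⧸ H) := hy _
  have h2 : ((x * g : G) : G ⧸ H) = (g : G ⧸ H) := h1
  refine ⟨g, ?_⟩
  have h3 := QuotientGroup.eq.1 h2.symm
  rwa [← mul_assoc] at h3

open scoped Pointwise

theorem choose_dvd_index {n : ℕ} {H : Subgroup (Equiv.Perm (Fin n))} (s : Finset (Fin n))
    (hs : ∀ h ∈ H, ∀ x ∈ s, h x ∈ s) : n.choose s.card ∣ H.index := by
  have htr := Set.powersetCard.isPretransitive (α := Fin n) (n := s.card)
  let t : Set.powersetCard (Fin n) s.card := ⟨s, rfl⟩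
  have h1 := index_stabilizer_of_transitive (Equiv.Perm (Fin n)) t
  rw [Set.powersetCard.card, Nat.card_eq_fintype_card, Fintype.card_fin] at h1
  rw [← h1]
  apply Subgroup.index_dvd_of_le
  intro h hh
  rw [mem_stabilizer_iff]
  apply Subtype.ext
  rw [Set.powersetCard.coe_smul]
  show h • s = s
  apply Finset.eq_of_subset_of_card_le
  · intro x hx
    obtain ⟨y, hy, rfl⟩ := Finset.mem_smul_finset.1 hx
    exact hs h hh y hy
  · rw [Finset.card_smul_finset]

theorem choose_gt {n k : ℕ} (h2 : 2 ≤ k) (hk : k + 2 ≤ n) (h5 : 5 ≤ n) : n < n.choose k := by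
  -- choose n 2 ≤ choose n k 
  have key : ∀ j, 2 ≤ j → 2 * j ≤ n → n.choose 2 ≤ n.choose j := by
    intro j hj
    induction j, hj using Nat.le_induction with
    | base => intro _; exact le_rfl
    | succ j hj ih =>
      intro hjn
      refine (ih (by omega)).trans ?_
      exact Nat.choose_le_succ_of_lt_half_left (by omega)
  have h3 : n.choose 2 ≤ n.choose k := by
    rcases Nat.le_total (2 * k) n with h | h
    · exact key k h2 h
    · rw [← Nat.choose_symm (show k ≤ n by omega)]
      exact key (n - k) (by omega) (by omega)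
  refine lt_of_lt_of_le ?_ h3
  rw [Nat.choose_two_right, Nat.lt_div_iff_mul_lt' (by
    have := Nat.even_mul_pred_self n
    exact this.two_dvd)]
  obtain ⟨m, rfl⟩ : ∃ m, n = m + 1 := ⟨n - 1, by omega⟩
  simp only [Nat.add_sub_cancel]
  nlinarith

theorem card_eq_of_dvd_two_pow {n k b : ℕ} (h5 : 5 ≤ n) (h1 : 1 ≤ k) (hk : k + 1 ≤ n) (h : n.choose k ∣ 2 ^ b) :
    k = 1 ∨ k + 1 = n := by
  by_contra hcon
  push Not at hcon
  have h2 : n < n.choose k := choose_gt (by omega) (by omega) h5
  obtain ⟨c, hc, hc'⟩ := (Nat.dvd_prime_pow Nat.prime_two).1 h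
  have h3 := Nat.pow_factorization_choose_le (p := 2) (n := n) (k := k) (by omega)
  rw [hc', Nat.Prime.factorization_pow Nat.prime_two, Finsupp.single_eq_same] at h3
  omega

theorem exists_prime_mid {n : ℕ} (hn : 4 ≤ n) : ∃ r : ℕ, r.Prime ∧ 2 < r ∧ r ≤ n ∧ n < 2 * r := by
  obtain ⟨p, hp, h1, h2⟩ := Nat.exists_prime_lt_and_le_two_mul (n / 2) (by omega)
  exact ⟨p, hp, by omega, by omega, by omega⟩

theorem index_eq {n : ℕ} (hn : 5 ≤ n) {H : Subgroup (Equiv.Perm (Fin n))} (hle : H ≤ alternatingGroup (Fin n))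
    (hne : H ≠ alternatingGroup (Fin n)) {b : ℕ} (hb : H.index = 2 ^ b) : H.index = 2 * n := by
  classical
  have : Fact (Nat.Prime 3) := ⟨Nat.prime_three⟩
  have hodd : ∀ p : ℕ, p.Prime → 2 < p → ¬ p ∣ H.index := by
    intro p hp h2 hd
    rw [hb] at hd
    have := (Nat.prime_dvd_prime_iff_eq hp Nat.prime_two).1 (hp.dvd_of_dvd_pow hd)
    omega
  -- a 3-cycle
  obtain ⟨c, hc, hcH⟩ : ∃ c : Equiv.Perm (Fin n), c.IsThreeCycle ∧ c ∈ H := by
    let a0 : Fin n := ⟨0, by omega⟩
    let a1 : Fin n := ⟨1, by omega⟩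
    let a2 : Fin n := ⟨2, by omega⟩
    have h3 : (Equiv.swap a0 a1 * Equiv.swap a0 a2).IsThreeCycle := by
      apply Equiv.Perm.isThreeCycle_swap_mul_swap_same <;> simp [a0, a1, a2, Fin.ext_iff]
    have hp : IsPGroup 3 (Subgroup.zpowers (Equiv.swap a0 a1 * Equiv.swap a0 a2)) := by
      apply IsPGroup.of_card (n := 1)
      rw [Nat.card_zpowers, h3.orderOf, pow_one]
    obtain ⟨g, hg⟩ := exists_conj_mem (hodd 3 Nat.prime_three (by norm_num)) hp
    refine ⟨_, ?_, hg⟩
    rw [Equiv.Perm.IsThreeCycle] at h3 ⊢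
    rw [← h3]
    have := Equiv.Perm.cycleType_conj (σ := Equiv.swap a0 a1 * Equiv.swap a0 a2) (τ := g⁻¹)
    rw [inv_inv] at this
    exact this
  -- long prime cycles
  have hcyc : ∀ r : ℕ, r.Prime → 2 < r → r ≤ n → ∃ h : Equiv.Perm (Fin n), h ∈ H ∧ orderOf h = r := by
    intro r hr h2 hrn
    have h1 : r ∣ H.index * Nat.card H := by
      rw [Subgroup.index_mul_card, Nat.card_perm, Nat.card_eq_fintype_card, Fintype.card_fin]
      exact hr.dvd_factorial.2 hrn
    have h3 : r ∣ Nat.card H := ((Nat.Prime.dvd_mul hr).1 h1).resolve_left (hodd r hr h2)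
    have : Fact r.Prime := ⟨hr⟩
    obtain ⟨x, hx⟩ := exists_prime_orderOf_dvd_card' r h3
    exact ⟨x.1, x.2, by rw [Subgroup.orderOf_coe, hx]⟩
  -- `H` is not transitive
  have hntr : ¬ IsPretransitive H (Fin n) := by
    intro htr
    obtain ⟨r, hr, h2, hrn, hn2⟩ := exists_prime_mid (show 4 ≤ n by omega)
    obtain ⟨h, hh, ho⟩ := hcyc r hr h2 hrn
    have hcy : h.IsCycle := isCycle_of_prime_order' (by rw [ho]; exact hr) (by
      rw [ho, Fintype.card_fin, mul_comm]; omega)
    exact hne (le_antisymm hle (alt_le hh hcy (by rw [ho]; exact hr) (by rw [ho, Fintype.card_fin]; exact hn2) hc hcH))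
  -- invariant sets
  have hinv : ∀ s : Finset (Fin n), (∀ h ∈ H, ∀ x ∈ s, h x ∈ s) → s.Nonempty → s ≠ Finset.univ →
      s.card = 1 ∨ s.card + 1 = n := by
    intro s hs h1 h2
    have h3 : s.card < n := by
      have := Finset.card_lt_card (Finset.ssubset_univ_iff.2 h2)
      rwa [Finset.card_univ, Fintype.card_fin] at this
    have h4 := choose_dvd_index s hs
    rw [hb] at h4
    exact card_eq_of_dvd_two_pow hn (Finset.card_pos.2 h1) h3 h4
  -- a fixed point
  obtain ⟨y, hy⟩ : ∃ y : Fin n, ∀ h ∈ H, h y = y := by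
    rw [MulAction.isPretransitive_iff] at hntr
    push Not at hntr
    obtain ⟨u, v, huv⟩ := hntr
    let s : Finset (Fin n) := Finset.univ.filter (fun x => ∃ h ∈ H, h u = x)
    have hs : ∀ h ∈ H, ∀ x ∈ s, h x ∈ s := by
      intro h hh x hx
      obtain ⟨k, hk, rfl⟩ := (Finset.mem_filter.1 hx).2
      exact Finset.mem_filter.2 ⟨Finset.mem_univ _, h * k, H.mul_mem hh hk, rfl⟩
    have hus : u ∈ s := Finset.mem_filter.2 ⟨Finset.mem_univ _, 1, H.one_mem, rfl⟩
    have hvs : v ∉ s := by
      intro hv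
      obtain ⟨k, hk, hkv⟩ := (Finset.mem_filter.1 hv).2
      exact huv ⟨k, hk⟩ hkv
    have hsu : s ≠ Finset.univ := fun h => hvs (h ▸ Finset.mem_univ v)
    rcases hinv s hs ⟨u, hus⟩ hsu with h1 | h1
    · obtain ⟨w, hw⟩ := Finset.card_eq_one.1 h1
      refine ⟨w, fun h hh => ?_⟩
      have := hs h hh w (by rw [hw]; exact Finset.mem_singleton_self w)
      rw [hw] at this
      exact Finset.mem_singleton.1 this
    · have h2 : (sᶜ).card = 1 := by
        rw [Finset.card_compl, Fintype.card_fin]; omega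
      obtain ⟨w, hw⟩ := Finset.card_eq_one.1 h2
      refine ⟨w, fun h hh => ?_⟩
      have h3 : h w ∈ sᶜ := by
        rw [Finset.mem_compl]
        intro h4
        have h5 := hs h⁻¹ (H.inv_mem hh) _ h4
        rw [show h⁻¹ (h w) = w from h.symm_apply_apply w] at h5
        have h6 : w ∈ sᶜ := by rw [hw]; exact Finset.mem_singleton_self w
        exact (Finset.mem_compl.1 h6) h5
      rw [hw] at h3
      exact Finset.mem_singleton.1 h3
  -- transitive off `y`
  have htr : ∀ u v : Fin n, u ≠ y → v ≠ y → ∃ h ∈ H, h u = v := by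
    intro u v hu hv
    let s : Finset (Fin n) := Finset.univ.filter (fun x => ∃ h ∈ H, h u = x)
    have hs : ∀ h ∈ H, ∀ x ∈ s, h x ∈ s := by
      intro h hh x hx
      obtain ⟨k, hk, rfl⟩ := (Finset.mem_filter.1 hx).2
      exact Finset.mem_filter.2 ⟨Finset.mem_univ _, h * k, H.mul_mem hh hk, rfl⟩
    have hus : u ∈ s := Finset.mem_filter.2 ⟨Finset.mem_univ _, 1, H.one_mem, rfl⟩
    have hys : y ∉ s := by
      intro hy'
      obtain ⟨k, hk, hky⟩ := (Finset.mem_filter.1 hy').2
      have := hy k hk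
      exact hu (k.injective (hky.trans this.symm))
    have hsu : s ≠ Finset.univ := fun h => hys (h ▸ Finset.mem_univ y)
    rcases hinv s hs ⟨u, hus⟩ hsu with h1 | h1
    · exfalso
      have h2 : (insert y s).card = 2 := by rw [Finset.card_insert_of_notMem hys, h1]
      have h3 : ∀ h ∈ H, ∀ x ∈ insert y s, h x ∈ insert y s := by
        intro h hh x hx
        rcases Finset.mem_insert.1 hx with rfl | hx
        · rw [hy h hh]; exact Finset.mem_insert_self _ _
        · exact Finset.mem_insert_of_mem (hs h hh x hx)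
      rcases hinv (insert y s) h3 ⟨y, Finset.mem_insert_self _ _⟩ (by
        intro h4
        rw [h4, Finset.card_univ, Fintype.card_fin] at h2
        omega) with h4 | h4 <;> omega
    · have h2 : (sᶜ).card = 1 := by
        rw [Finset.card_compl, Fintype.card_fin]; omega
      obtain ⟨w, hw⟩ := Finset.card_eq_one.1 h2
      have h3 : y = w := by
        have : y ∈ sᶜ := Finset.mem_compl.2 hys
        rw [hw] at this; exact Finset.mem_singleton.1 this
      have h4 : v ∈ s := by
        by_contra h4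
        have : v ∈ sᶜ := Finset.mem_compl.2 h4
        rw [hw] at this
        exact hv ((Finset.mem_singleton.1 this).trans h3.symm)
      exact (Finset.mem_filter.1 h4).2
  -- pass to the permutations of the complement of `y`
  let H' : Subgroup (Equiv.Perm {x : Fin n // x ≠ y}) := H.comap Equiv.Perm.ofSubtype
  have hlift : ∀ h ∈ H, ∃ h' : Equiv.Perm {x : Fin n // x ≠ y}, Equiv.Perm.ofSubtype h' = h := by
    intro h hh
    have h1 : ∀ x, h x ≠ y ↔ x ≠ y := by
      intro x
      rw [not_iff_not]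
      constructor
      · intro hx
        exact h.injective (hx.trans (hy h hh).symm)
      · rintro rfl; exact hy h hh
    exact ⟨h.subtypePerm h1, Equiv.Perm.ofSubtype_subtypePerm h1 (by
      intro x hx hxy
      subst hxy
      exact hx (hy h hh))⟩
  have hcard : Nat.card H' = Nat.card H := by
    have : H = H'.map Equiv.Perm.ofSubtype := by
      rw [Subgroup.map_comap_eq]
      refine (inf_eq_right.2 ?_).symm
      intro h hh
      obtain ⟨h', hh'⟩ := hlift h hh
      exact ⟨h', hh'⟩
    rw [this]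
    exact (Nat.card_congr (H'.equivMapOfInjective _ Equiv.Perm.ofSubtype_injective).toEquiv)
  have hcα : Fintype.card {x : Fin n // x ≠ y} = n - 1 := by
    rw [Fintype.card_subtype_compl]; simp
  have : IsPretransitive H' {x : Fin n // x ≠ y} := by
    rw [MulAction.isPretransitive_iff]
    intro u v
    obtain ⟨h, hh, hhv⟩ := htr u v u.2 v.2
    obtain ⟨h', hh'⟩ := hlift h hh
    refine ⟨⟨h', by show Equiv.Perm.ofSubtype h' ∈ H; rw [hh']; exact hh⟩, ?_⟩
    apply Subtype.ext
    show ((h' u : {x : Fin n // x ≠ y}) : Fin n) = v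
    rw [← hhv, ← hh', Equiv.Perm.ofSubtype_apply_coe]
  obtain ⟨r, hr, h2, hrn, hn2⟩ := exists_prime_mid (show 4 ≤ n - 1 by omega)
  obtain ⟨h, hh, ho⟩ := hcyc r hr h2 (by omega)
  obtain ⟨h', hh'⟩ := hlift h hh
  obtain ⟨c', hc'⟩ := hlift c hcH
  have ho' : orderOf h' = r := by
    rw [← ho, ← hh', orderOf_injective _ Equiv.Perm.ofSubtype_injective]
  have hcy : h'.IsCycle := isCycle_of_prime_order' (by rw [ho']; exact hr) (by
      rw [ho', hcα, mul_comm]; omega)
  have hc3 : c'.IsThreeCycle := by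
    rw [Equiv.Perm.IsThreeCycle] at hc ⊢
    rw [← hc, ← hc', Equiv.Perm.cycleType_ofSubtype]
  have hfin : alternatingGroup {x : Fin n // x ≠ y} ≤ H' :=
    alt_le (H := H') (by show Equiv.Perm.ofSubtype h' ∈ H; rw [hh']; exact hh) hcy (by rw [ho']; exact hr)
      (by rw [ho', hcα]; exact hn2) hc3 (by show Equiv.Perm.ofSubtype c' ∈ H; rw [hc']; exact hcH)
  have hfin2 : H' ≤ alternatingGroup {x : Fin n // x ≠ y} := by
    intro x hx
    have h1 : Equiv.Perm.ofSubtype x ∈ alternatingGroup (Fin n) := hle hx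
    rw [Equiv.Perm.mem_alternatingGroup, Equiv.Perm.sign_ofSubtype] at h1
    exact Equiv.Perm.mem_alternatingGroup.2 h1
  have heq : H' = alternatingGroup {x : Fin n // x ≠ y} := le_antisymm hfin2 hfin
  have : Nontrivial {x : Fin n // x ≠ y} := by
    rw [← Fintype.one_lt_card_iff_nontrivial, hcα]; omega
  have h5 : 2 * Nat.card H = (n - 1).factorial := by
    rw [← hcard, heq, Nat.card_eq_fintype_card, two_mul_card_alternatingGroup, Fintype.card_perm, hcα]
  have h6 : H.index * Nat.card H = n.factorial := by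
    rw [Subgroup.index_mul_card, Nat.card_perm, Nat.card_eq_fintype_card, Fintype.card_fin]
  obtain ⟨m, rfl⟩ : ∃ m, n = m + 1 := ⟨n - 1, by omega⟩
  rw [Nat.factorial_succ, ← show 2 * Nat.card H = m.factorial from h5] at h6
  have h7 : 0 < Nat.card H := Nat.card_pos
  have : H.index * Nat.card H = (2 * (m + 1)) * Nat.card H := by rw [h6]; ring
  exact Nat.eq_of_mul_eq_mul_right h7 this

end Cfsg.Agent.H748.JordanTwoPower
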