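import Cfsg.Agent.H412.Tc.Defs

/-!
# The affine semilinear group of a finite field is 3-closed

Lemma T0 of the plan `tools/plans/S3621.md` (helper412).  A permutation agreeing on every
triple with some map `x ↦ α σ(x) + β` is of this form.
-/

set_option autoImplicit false

namespace Cfsg.Agent.H748.TcT0

open Equiv

section
variable {K : Type*} [Field K] [Finite K]

instance finite_aut : Finite (K ≃+* K) := Finite.of_injective (fun f => (f : K → K)) DFunLike.coe_injective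

/-- Artin's theorem, counting form. -/
theorem card_fix (H : Subgroup (K ≃+* K)) :
    Nat.card (FixedPoints.subfield H K) ^ Nat.card H = Nat.card K := by
  have : Fintype K := Fintype.ofFinite K
  have : Fintype H := Fintype.ofFinite H
  have h1 := FixedPoints.finrank_eq_card H K
  have h2 := Module.natCard_eq_pow_finrank (K := FixedPoints.subfield H K) (V := K)
  rw [h2, h1, ← Nat.card_eq_fintype_card]

/-- The fixed field of `ρ`. -/
noncomputable def fx (ρ : K ≃+* K) : ℕ := Nat.card (FixedPoints.subfield (Subgroup.zpowers ρ) K)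

omit [Finite K] in
theorem mem_fix (ρ : K ≃+* K) (x : K) : x ∈ FixedPoints.subfield (Subgroup.zpowers ρ) K ↔ ρ x = x := by
  constructor
  · intro h
    exact h ⟨ρ, Subgroup.mem_zpowers ρ⟩
  · rintro h ⟨g, hg⟩
    obtain ⟨k, rfl⟩ := Subgroup.mem_zpowers_iff.1 hg
    have h1 : ρ ∈ MulAction.stabilizer (K ≃+* K) x := h
    exact (MulAction.stabilizer (K ≃+* K) x).zpow_mem h1 k

theorem fx_pow (ρ : K ≃+* K) : fx ρ ^ orderOf ρ = Nat.card K := by
  rw [← Nat.card_zpowers]
  exact card_fix _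

theorem two_le_fx (ρ : K ≃+* K) : 2 ≤ fx ρ := by
  have : Nontrivial (FixedPoints.subfield (Subgroup.zpowers ρ) K) := inferInstance
  exact Finite.one_lt_card

theorem mem_zpowers_of_fix {ρ τ : K ≃+* K} (h : ∀ x, ρ x = x → τ x = x) : τ ∈ Subgroup.zpowers ρ := by
  let H : Subgroup (K ≃+* K) := Subgroup.zpowers ρ ⊔ Subgroup.zpowers τ
  have h1 : Nat.card (FixedPoints.subfield H K) = fx ρ := by
    refine Nat.card_congr (Equiv.subtypeEquivRight fun x => ?_)
    rw [mem_fix]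
    constructor
    · intro hx
      exact hx ⟨ρ, Subgroup.mem_sup_left (Subgroup.mem_zpowers ρ)⟩
    · rintro hx ⟨g, hg⟩
      have h2 : H ≤ MulAction.stabilizer (K ≃+* K) x := by
        refine sup_le ?_ ?_
        · rw [Subgroup.zpowers_le]; exact hx
        · rw [Subgroup.zpowers_le]; exact h x hx
      exact h2 hg
  have h2 := card_fix H
  rw [h1, ← card_fix (Subgroup.zpowers ρ)] at h2
  have h3 : Nat.card H = Nat.card (Subgroup.zpowers ρ) := Nat.pow_right_injective (two_le_fx ρ) h2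
  have h4 : Subgroup.zpowers ρ = H := Subgroup.eq_of_le_of_card_ge le_sup_left h3.le
  rw [h4]
  exact Subgroup.mem_sup_right (Subgroup.mem_zpowers τ)

end

/-- Numerical estimate. -/
theorem num (o f : ℕ) (ho : 2 ≤ o) (hf : 2 ≤ f) : ((o - 1) * (f - 1)) ^ 2 ≤ f ^ o := by
  obtain ⟨g, rfl⟩ : ∃ g, f = g + 1 := ⟨f - 1, by omega⟩
  obtain ⟨k, rfl⟩ : ∃ k, o = k + 2 := ⟨o - 2, by omega⟩
  have hg : 1 ≤ g := by omega
  simp only [Nat.add_sub_cancel, show k + 2 - 1 = k + 1 by omega]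
  clear ho hf
  induction k with
  | zero =>
    refine Nat.pow_le_pow_left ?_ 2
    omega
  | succ k ih =>
    have e : (g + 1) ^ (k + 1 + 2) = (g + 1) ^ (k + 2) * (g + 1) := pow_succ _ _
    rw [e]
    rcases Nat.lt_or_ge k 2 with hk | hk
    · interval_cases k
      · have e1 : ((0 + 1 + 1) * g) ^ 2 = 4 * (g * g) := by ring
        have e2 : (g + 1) ^ (0 + 2) * (g + 1) = g * g * g + 3 * (g * g) + 3 * g + 1 := by ring
        rw [e1, e2]
        nlinarith [Nat.mul_le_mul_left (g * g) hg]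
      · have e1 : ((1 + 1 + 1) * g) ^ 2 = 9 * (g * g) := by ring
        have e2 : (g + 1) ^ (1 + 2) * (g + 1) = g * g * (g * g) + 4 * (g * g * g) + 6 * (g * g) + 4 * g + 1 := by ring
        rw [e1, e2]
        nlinarith [Nat.mul_le_mul_left (g * g) hg, Nat.mul_le_mul_left (g * g * g) hg]
    · have h1 : ((k + 1 + 1) * g) ^ 2 ≤ ((k + 1) * g) ^ 2 * (g + 1) := by
        have : (k + 1 + 1) ^ 2 ≤ (k + 1) ^ 2 * 2 := by nlinarith
        calc ((k + 1 + 1) * g) ^ 2 = (k + 1 + 1) ^ 2 * g ^ 2 := by ring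
          _ ≤ (k + 1) ^ 2 * 2 * g ^ 2 := Nat.mul_le_mul_right _ this
          _ = ((k + 1) * g) ^ 2 * 2 := by ring
          _ ≤ _ := Nat.mul_le_mul_left _ (by omega)
      exact h1.trans (Nat.mul_le_mul_right _ ih)


section
variable {K : Type*} [Field K] [Fintype K] [DecidableEq K]

/-- The solutions of `ρ x = c x`. -/
def sol (ρ : K ≃+* K) (c : K) : Finset K := Finset.univ.filter fun x => x ≠ 0 ∧ ρ x = c * x

theorem card_sol (ρ : K ≃+* K) (c : K) : (sol ρ c).card ≤ fx ρ - 1 := by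
  rcases (sol ρ c).eq_empty_or_nonempty with he | ⟨x0, hx0⟩
  · rw [he]; simp
  obtain ⟨h1, h2⟩ := (Finset.mem_filter.1 hx0).2
  have hc : c ≠ 0 := by
    rintro rfl
    rw [zero_mul] at h2
    exact h1 ((map_eq_zero_iff ρ ρ.injective).1 h2)
  have hfx : fx ρ = (Finset.univ.filter fun x : K => ρ x = x).card := by
    rw [fx, ← Fintype.card_coe, ← Nat.card_eq_fintype_card]
    refine Nat.card_congr (Equiv.subtypeEquivRight fun x => ?_)
    rw [mem_fix]
    simp
  have h3 : (Finset.univ.filter fun x : K => ρ x = x).erase 0 = (Finset.univ.filter fun x : K => ρ x = x).erase 0 := rfl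
  have h4 : ((Finset.univ.filter fun x : K => ρ x = x).erase 0).card = fx ρ - 1 := by
    rw [Finset.card_erase_of_mem, hfx]
    simp
  rw [← h4]
  refine Finset.card_le_card_of_injOn (fun x => x / x0) ?_ ?_
  · intro x hx
    obtain ⟨h5, h6⟩ := (Finset.mem_filter.1 hx).2
    simp only [Finset.coe_erase, Finset.coe_filter, Finset.mem_univ, true_and, Set.mem_sdiff, Set.mem_ofPred_eq,
      Set.mem_singleton_iff]
    refine ⟨?_, div_ne_zero h5 h1⟩
    rw [map_div₀, h6, h2, mul_div_mul_left _ _ hc]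
  · intro x _ y _ hxy
    exact (div_left_inj' h1).1 hxy

theorem card_units : (Finset.univ.filter fun x : K => x ≠ 0).card = Fintype.card K - 1 := by
  rw [Finset.filter_ne', Finset.card_erase_of_mem (Finset.mem_univ _), Finset.card_univ]

variable [Fintype (K ≃+* K)]

open Classical in
/-- **Fixed points**. -/
theorem card_good (h : Perm K)
    (hagr : ∀ a b c : K, ∃ (α : Kˣ) (σ : K ≃+* K) (β : K),
      h a = α * σ a + β ∧ h b = α * σ b + β ∧ h c = α * σ c + β)
    (h0 : h 0 = 0) {x : K} (hx : h x ≠ x) :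
    (Finset.univ.filter fun b : K => b ≠ 0 ∧ h b = b).card ≤
      ∑ ρ ∈ (Finset.univ : Finset (K ≃+* K)).erase 1, (fx ρ - 1) := by
  have hx0 : x ≠ 0 := by rintro rfl; exact hx h0
  have hx1 : h x ≠ 0 := by rw [← h0]; exact fun h1 => hx0 (h.injective h1)
  have hsub : (Finset.univ.filter fun b : K => b ≠ 0 ∧ h b = b) ⊆
      ((Finset.univ : Finset (K ≃+* K)).erase 1).biUnion fun ρ => sol ρ (ρ x / h x) := by
    intro b hb
    obtain ⟨hb0, hb1⟩ := (Finset.mem_filter.1 hb).2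
    obtain ⟨α, σ, β, e0, eb, ex⟩ := hagr 0 b x
    rw [h0, map_zero, mul_zero, zero_add] at e0
    subst e0
    rw [add_zero] at eb ex
    have hσb : σ b ≠ 0 := fun h1 => hb0 ((map_eq_zero_iff σ σ.injective).1 h1)
    refine Finset.mem_biUnion.2 ⟨σ, Finset.mem_erase.2 ⟨?_, Finset.mem_univ _⟩, Finset.mem_filter.2
      ⟨Finset.mem_univ _, hb0, ?_⟩⟩
    · rintro rfl
      have h2 : (α : K) = 1 := by
        have h3 : (α : K) * b = b := by rw [← hb1]; conv_rhs => rw [eb]
                                        rw [hb1]; rfl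
        exact mul_right_cancel₀ hb0 (by rw [h3, one_mul])
      apply hx
      rw [ex, h2, one_mul]
      rfl
    · rw [hb1] at eb
      rw [div_mul_eq_mul_div, eq_div_iff hx1, ex]
      nth_rewrite 2 [eb]
      ring
  refine (Finset.card_le_card hsub).trans (Finset.card_biUnion_le.trans (Finset.sum_le_sum fun ρ _ => card_sol ρ _))

open Classical in
/-- **Non-fixed points**. -/
theorem card_bad (h : Perm K)
    (hagr : ∀ a b c : K, ∃ (α : Kˣ) (σ : K ≃+* K) (β : K),
      h a = α * σ a + β ∧ h b = α * σ b + β ∧ h c = α * σ c + β)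
    (h0 : h 0 = 0) (h1 : h 1 = 1) (ζ : Kˣ) (hζ : ∀ x : Kˣ, x ∈ Subgroup.zpowers ζ) (hζ1 : h ζ = ζ) :
    (Finset.univ.filter fun x : K => x ≠ 0 ∧ h x ≠ x).card ≤
      ∑ ρ ∈ (Finset.univ : Finset (K ≃+* K)).erase 1, (orderOf ρ - 2) * (fx ρ - 1) := by
  have hsub : (Finset.univ.filter fun x : K => x ≠ 0 ∧ h x ≠ x) ⊆
      ((Finset.univ : Finset (K ≃+* K)).erase 1).biUnion fun ρ =>
        (Finset.univ.filter fun τ : K ≃+* K => τ ∈ Subgroup.zpowers ρ ∧ τ ≠ 1 ∧ τ ≠ ρ⁻¹).biUnion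
          fun τ => sol ρ ((τ⁻¹ : K ≃+* K) ζ / ζ) := by
    intro x hx
    obtain ⟨hx0, hx1⟩ := (Finset.mem_filter.1 hx).2
    obtain ⟨α, σ, β, e0, e1, ex⟩ := hagr 0 1 x
    rw [h0, map_zero, mul_zero, zero_add] at e0
    subst e0
    rw [h1, map_one, mul_one, add_zero] at e1
    rw [← e1, one_mul, add_zero] at ex
    clear e1 α
    obtain ⟨α, τ, β, e0, eζ, ex'⟩ := hagr 0 ζ x
    rw [h0, map_zero, mul_zero, zero_add] at e0
    subst e0
    rw [hζ1, add_zero] at eζ
    rw [add_zero] at ex'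
    have hζ0 : (ζ : K) ≠ 0 := ζ.ne_zero
    have hτζ : τ (ζ : K) ≠ 0 := fun h2 => hζ0 ((map_eq_zero_iff τ τ.injective).1 h2)
    have hτx : τ x ≠ 0 := fun h2 => hx0 ((map_eq_zero_iff τ τ.injective).1 h2)
    have hα : (α : K) = ζ / τ ζ := by rw [eq_div_iff hτζ, ← eζ]
    have hσ1 : σ ≠ 1 := by
      rintro rfl
      exact hx1 ex
    have hτ1 : τ ≠ 1 := by
      rintro rfl
      apply hx1
      rw [ex', hα]
      change (ζ : K) / ζ * x = x
      rw [div_self hζ0, one_mul]
    have hfixζ : ∀ σ : K ≃+* K, σ (ζ : K) = ζ → σ = 1 := by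
      intro σ hσ
      ext y
      change σ y = y
      rcases eq_or_ne y 0 with rfl | hy
      · exact map_zero σ
      obtain ⟨k, hk⟩ := Subgroup.mem_zpowers_iff.1 (hζ (Units.mk0 y hy))
      have h2 : y = (ζ : K) ^ k := by rw [← Units.val_zpow_eq_zpow_val, hk]; rfl
      rw [h2, map_zpow₀, hσ]
    have hστ : σ x = ζ / τ ζ * τ x := by rw [← ex, ex', hα]
    have hρ : (τ⁻¹ * σ : K ≃+* K) x = (τ⁻¹ : K ≃+* K) ζ / ζ * x := by
      have h2 : (τ⁻¹ : K ≃+* K) (σ x) = (τ⁻¹ : K ≃+* K) (ζ / τ ζ * τ x) := by rw [hστ]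
      have h3 : ∀ y, (τ⁻¹ : K ≃+* K) (τ y) = y := fun y => τ.symm_apply_apply y
      rw [map_mul, map_div₀, h3, h3] at h2
      exact h2
    refine Finset.mem_biUnion.2 ⟨τ⁻¹ * σ, Finset.mem_erase.2 ⟨?_, Finset.mem_univ _⟩, Finset.mem_biUnion.2
      ⟨τ, Finset.mem_filter.2 ⟨Finset.mem_univ _, ?_, hτ1, ?_⟩, Finset.mem_filter.2 ⟨Finset.mem_univ _, hx0, hρ⟩⟩⟩
    · intro h2
      have h3 : σ = τ := (inv_mul_eq_one.1 h2).symm
      subst h3
      apply hσ1
      apply hfixζ
      have h4 : (1 : K) * σ x = ζ / σ ζ * σ x := by rw [one_mul]; exact hστ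
      have h5 := mul_right_cancel₀ hτx h4
      exact ((div_eq_one_iff_eq hτζ).1 h5.symm).symm
    · apply mem_zpowers_of_fix
      intro y hy
      rcases eq_or_ne y 0 with rfl | hy0
      · exact map_zero τ
      obtain ⟨k, hk⟩ := Subgroup.mem_zpowers_iff.1 (hζ (Units.mk0 y hy0))
      have h2 : y = (ζ : K) ^ k := by rw [← Units.val_zpow_eq_zpow_val, hk]; rfl
      obtain ⟨m, hm⟩ := Subgroup.mem_zpowers_iff.1 (hζ (Units.mk0 x hx0))
      have h3 : x = (ζ : K) ^ m := by rw [← Units.val_zpow_eq_zpow_val, hm]; rfl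
      have h4 : x ^ k = y ^ m := by rw [h2, h3, ← zpow_mul, ← zpow_mul, mul_comm]
      have h5 : (τ⁻¹ * σ : K ≃+* K) (x ^ k) = x ^ k := by rw [h4, map_zpow₀, hy]
      rw [map_zpow₀, hρ, mul_zpow, mul_eq_right₀ (zpow_ne_zero _ hx0), div_zpow, ← map_zpow₀, ← h2,
        div_eq_one_iff_eq hy0] at h5
      have h6 := congrArg τ h5
      have h7 : ∀ y, τ ((τ⁻¹ : K ≃+* K) y) = y := fun y => τ.apply_symm_apply y
      rw [h7] at h6
      exact h6.symm
    · rw [mul_inv_rev, inv_inv]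
      intro h2
      exact hσ1 (inv_eq_one.1 (mul_eq_right.1 h2.symm))
  refine (Finset.card_le_card hsub).trans (Finset.card_biUnion_le.trans (Finset.sum_le_sum fun ρ hρ => ?_))
  have hρ1 : ρ ≠ 1 := (Finset.mem_erase.1 hρ).1
  refine (Finset.card_biUnion_le.trans (Finset.sum_le_sum fun τ _ => card_sol ρ _)).trans ?_
  rw [Finset.sum_const, smul_eq_mul]
  refine Nat.mul_le_mul_right _ ?_
  have e1 : (Finset.univ.filter fun τ : K ≃+* K => τ ∈ Subgroup.zpowers ρ ∧ τ ≠ 1 ∧ τ ≠ ρ⁻¹) =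
      ((Finset.univ.filter fun τ : K ≃+* K => τ ∈ Subgroup.zpowers ρ).erase 1).erase ρ⁻¹ := by
    ext τ
    simp only [Finset.mem_filter, Finset.mem_univ, true_and, Finset.mem_erase]
    tauto
  rw [e1, Finset.card_erase_of_mem, Finset.card_erase_of_mem]
  · have e2 : (Finset.univ.filter fun τ : K ≃+* K => τ ∈ Subgroup.zpowers ρ).card = orderOf ρ := by
      rw [← Nat.card_zpowers, Nat.card_eq_fintype_card, ← Fintype.card_coe]
      refine Fintype.card_congr (Equiv.subtypeEquivRight fun τ => ?_)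
      simp
    rw [e2]
    omega
  · simp
  · simp only [Finset.mem_erase, Finset.mem_filter, Finset.mem_univ, true_and]
    exact ⟨inv_ne_one.2 hρ1, Subgroup.inv_mem _ (Subgroup.mem_zpowers ρ)⟩


open Classical in
/-- The normalized case. -/
theorem normalized (h : Perm K)
    (hagr : ∀ a b c : K, ∃ (α : Kˣ) (σ : K ≃+* K) (β : K),
      h a = α * σ a + β ∧ h b = α * σ b + β ∧ h c = α * σ c + β)
    (h0 : h 0 = 0) (h1 : h 1 = 1) (ζ : Kˣ) (hζ : ∀ x : Kˣ, x ∈ Subgroup.zpowers ζ) (hζ1 : h ζ = ζ) :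
    ∀ x, h x = x := by
  by_contra hcon
  push Not at hcon
  obtain ⟨x, hx⟩ := hcon
  have hg := card_good h hagr h0 hx
  have hb := card_bad h hagr h0 h1 ζ hζ hζ1
  have hu : (Finset.univ.filter fun x : K => x ≠ 0).card =
      (Finset.univ.filter fun x : K => x ≠ 0 ∧ h x = x).card + (Finset.univ.filter fun x : K => x ≠ 0 ∧ h x ≠ x).card := by
    rw [← Finset.card_filter_add_card_filter_not (s := Finset.univ.filter fun x : K => x ≠ 0) (fun x => h x = x),
      Finset.filter_filter, Finset.filter_filter]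
  rw [card_units] at hu
  set q := Fintype.card K with hq
  have hq' : Nat.card K = q := Nat.card_eq_fintype_card
  have ho : ∀ ρ : K ≃+* K, ρ ≠ 1 → 2 ≤ orderOf ρ := by
    intro ρ hρ
    have h2 := orderOf_pos ρ
    have h3 : orderOf ρ ≠ 1 := fun h4 => hρ (orderOf_eq_one_iff.1 h4)
    omega
  have hT : q - 1 ≤ ∑ ρ ∈ (Finset.univ : Finset (K ≃+* K)).erase 1, (orderOf ρ - 1) * (fx ρ - 1) := by
    rw [hu]
    refine (add_le_add hg hb).trans ?_
    rw [← Finset.sum_add_distrib]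
    refine Finset.sum_le_sum fun ρ hρ => ?_
    have h2 := ho ρ (Finset.mem_erase.1 hρ).1
    obtain ⟨k, hk⟩ : ∃ k, orderOf ρ = k + 2 := ⟨orderOf ρ - 2, by omega⟩
    rw [hk, Nat.add_sub_cancel, show k + 2 - 1 = k + 1 by omega]
    ring_nf
    exact le_refl _
  have hterm : ∀ ρ ∈ (Finset.univ : Finset (K ≃+* K)).erase 1, (orderOf ρ - 1) * (fx ρ - 1) ≤ Nat.sqrt q := by
    intro ρ hρ
    have h2 := num (orderOf ρ) (fx ρ) (ho ρ (Finset.mem_erase.1 hρ).1) (two_le_fx ρ)
    rw [fx_pow, hq'] at h2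
    exact Nat.le_sqrt'.2 h2
  have hS := Finset.sum_le_card_nsmul _ _ _ hterm
  rw [Finset.card_erase_of_mem (Finset.mem_univ _), Finset.card_univ, smul_eq_mul] at hS
  set n := Fintype.card (K ≃+* K) with hn
  -- Artin for the whole group
  obtain ⟨f, hf2, hf⟩ : ∃ f, 2 ≤ f ∧ f ^ n = q := by
    refine ⟨Nat.card (FixedPoints.subfield (⊤ : Subgroup (K ≃+* K)) K), ?_, ?_⟩
    · have : Nontrivial (FixedPoints.subfield (⊤ : Subgroup (K ≃+* K)) K) := inferInstance
      exact Finite.one_lt_card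
    · have h3 := card_fix (⊤ : Subgroup (K ≃+* K))
      rw [Subgroup.card_top, Nat.card_eq_fintype_card (α := K ≃+* K), hq'] at h3
      exact h3
  have hs := Nat.sqrt_le' q
  have hq2 : 2 ≤ q := Fintype.one_lt_card
  set s := Nat.sqrt q with hs'
  have hle := hT.trans hS
  have hn0 : 0 < n := Fintype.card_pos
  -- `n ≠ 1`
  rcases Nat.lt_or_ge n 2 with h2 | h2
  · have h3 : n - 1 = 0 := by omega
    rw [h3, zero_mul] at hle
    omega
  have hs1 : 2 ≤ s := by
    rw [hs', Nat.le_sqrt', ← hf]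
    exact Nat.pow_le_pow_left hf2 2 |>.trans (Nat.pow_le_pow_right (by omega) h2)
  by_cases h4 : n ≤ s
  · have h5 : (n - 1) * s ≤ (s - 1) * s := Nat.mul_le_mul_right _ (by omega)
    obtain ⟨t, ht⟩ : ∃ t, s = t + 2 := ⟨s - 2, by omega⟩
    rw [ht] at h5 hs hle
    have h6 : (t + 2 - 1) * (t + 2) + 2 ≤ (t + 2) ^ 2 := by
      rw [show t + 2 - 1 = t + 1 by omega]
      nlinarith
    omega
  · push Not at h4
    have h5 : q < n ^ 2 := by
      rw [hs', Nat.sqrt_lt'] at h4
      exact h4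
    have h6 : 2 ^ n ≤ q := by rw [← hf]; exact Nat.pow_le_pow_left hf2 n
    have h7 : n < 4 := by
      by_contra h8
      push Not at h8
      have h9 : ∀ k, 4 ≤ k → k ^ 2 ≤ 2 ^ k := by
        intro k hk
        induction k, hk using Nat.le_induction with
        | base => norm_num
        | succ k hk ih => rw [pow_succ 2 k]; nlinarith
      have := h9 n h8
      omega
    have h8 : n = 3 := by
      interval_cases n
      · norm_num at h5 h6; omega
      · rfl
    rw [h8] at h5 hf hle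
    have h9 : f = 2 := by
      by_contra h10
      have h11 : 3 ≤ f := by omega
      have h12 := Nat.pow_le_pow_left h11 3
      omega
    rw [h9] at hf
    have h10 : s = 2 := by
      rw [hs', ← hf]
      norm_num
    omega

end

/-- **Lemma T0**. -/
theorem T0.main {K : Type*} [Field K] [Finite K] (h : Perm K)
    (hagr : ∀ a b c : K, ∃ (α : Kˣ) (σ : K ≃+* K) (β : K),
      h a = α * σ a + β ∧ h b = α * σ b + β ∧ h c = α * σ c + β) :
    ∃ (α : Kˣ) (σ : K ≃+* K) (β : K), ∀ x, h x = α * σ x + β := by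
  classical
  have : Fintype K := Fintype.ofFinite K
  have : Fintype (K ≃+* K) := Fintype.ofFinite _
  obtain ⟨ζ, hζ⟩ := IsCyclic.exists_generator (α := Kˣ)
  obtain ⟨α, σ, β, e0, e1, e2⟩ := hagr 0 1 ζ
  have hinv : ∀ y, (σ⁻¹ : K ≃+* K) (σ y) = y := fun y => σ.symm_apply_apply y
  have hinv' : ∀ y, σ ((σ⁻¹ : K ≃+* K) y) = y := fun y => σ.apply_symm_apply y
  let g : Perm K := h.trans
    { toFun := fun y => (σ⁻¹ : K ≃+* K) ((y - β) / α)
      invFun := fun y => α * σ y + β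
      left_inv := fun y => by
        change α * σ ((σ⁻¹ : K ≃+* K) ((y - β) / α)) + β = y
        rw [hinv', mul_div_cancel₀ _ α.ne_zero, sub_add_cancel]
      right_inv := fun y => by
        change (σ⁻¹ : K ≃+* K) ((α * σ y + β - β) / α) = y
        rw [add_sub_cancel_right, mul_div_cancel_left₀ _ α.ne_zero, hinv] }
  have hg : ∀ x, g x = (σ⁻¹ : K ≃+* K) ((h x - β) / α) := fun x => rfl
  have key : ∀ x, g x = x := by
    refine normalized g ?_ ?_ ?_ ζ hζ ?_
    · intro a b c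
      obtain ⟨α', σ', β', ea, eb, ec⟩ := hagr a b c
      have h3 : ∀ x, h x = α' * σ' x + β' → g x =
          ((Units.map ((σ⁻¹ : K ≃+* K) : K →* K) (α' / α) : Kˣ) : K) * (σ⁻¹ * σ') x + (σ⁻¹ : K ≃+* K) ((β' - β) / α) := by
        intro x hx
        have h4 : ((Units.map ((σ⁻¹ : K ≃+* K) : K →* K) (α' / α) : Kˣ) : K) = (σ⁻¹ : K ≃+* K) (α' / α) := by
          rw [Units.coe_map, Units.val_div_eq_div_val]
          rfl
        have h5 : (σ⁻¹ * σ') x = (σ⁻¹ : K ≃+* K) (σ' x) := rfl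
        rw [hg, hx, h4, h5, ← map_mul, ← map_add]
        congr 1
        ring
      exact ⟨_, _, _, h3 a ea, h3 b eb, h3 c ec⟩
    · rw [hg, e0, add_sub_cancel_right, mul_div_cancel_left₀ _ α.ne_zero, hinv]
    · rw [hg, e1, add_sub_cancel_right, mul_div_cancel_left₀ _ α.ne_zero, hinv]
    · rw [hg, e2, add_sub_cancel_right, mul_div_cancel_left₀ _ α.ne_zero, hinv]
  refine ⟨α, σ, β, fun x => ?_⟩
  have h3 := key x
  rw [hg] at h3
  have h4 : (h x - β) / α = σ x := by rw [← hinv' ((h x - β) / α), h3]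
  rw [div_eq_iff α.ne_zero] at h4
  rw [sub_eq_iff_eq_add.1 h4]
  ring

end Cfsg.Agent.H748.TcT0
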