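import Cfsg.Agent.H748.JordanTwoPower
import Cfsg.Prelude.Def_Classification2

/-!
# No subgroup of 2-power index with `2 ^ b ≡ 1` modulo the odd primes: alternating groups (helper748)
-/

set_option autoImplicit false

open Equiv.Perm MulAction

universe u

namespace Cfsg.Agent.H748.NoTwoPower

open scoped Pointwise

/-- a subgroup containing the normalizer of a Sylow `r`-subgroup has index `≡ 1` modulo `r`. -/
theorem index_modEq_one {T : Type u} [Group T] [Finite T] {r : ℕ} (hr : r.Prime) (R : Sylow r T) {H : Subgroup T}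
    (h : Subgroup.normalizer ((R : Subgroup T) : Set T) ≤ H) : H.index ≡ 1 [MOD r] := by
  have : Fact r.Prime := ⟨hr⟩
  have h1 : (R : Subgroup T) ≤ H := Subgroup.le_normalizer.trans h
  have h2 := card_sylow_modEq_one r T
  have h3 := card_sylow_modEq_one r H
  rw [Sylow.card_eq_index_normalizer R] at h2
  rw [Sylow.card_eq_index_normalizer (R.subtype h1)] at h3
  have h4 : Subgroup.normalizer ((R.subtype h1 : Subgroup H) : Set H) =
      (Subgroup.normalizer ((R : Subgroup T) : Set T)).subgroupOf H := by
    rw [Subgroup.subgroupOf_normalizer_eq h1]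
    rfl
  have h5 : (Subgroup.normalizer ((R : Subgroup T) : Set T)).relIndex H * H.index =
      (Subgroup.normalizer ((R : Subgroup T) : Set T)).index := Subgroup.relIndex_mul_index h
  have h6 : (Subgroup.normalizer ((R : Subgroup T) : Set T)).relIndex H ≡ 1 [MOD r] := by
    have : (Subgroup.normalizer ((R.subtype h1 : Subgroup H) : Set H)).index ≡ 1 [MOD r] := h3
    rw [h4] at this
    exact this
  calc H.index = 1 * H.index := (one_mul _).symm
    _ ≡ (Subgroup.normalizer ((R : Subgroup T) : Set T)).relIndex H * H.index [MOD r] := (h6.symm).mul_right _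
    _ = (Subgroup.normalizer ((R : Subgroup T) : Set T)).index := h5
    _ ≡ 1 [MOD r] := h2

/-- alternating groups, arithmetic form of the hypothesis. -/
theorem no_two_power_alternating' {T : Type u} [Group T] [Finite T] {n : ℕ} (hn : 5 ≤ n)
    (e : T ≃* alternatingGroup (Fin n)) {H : Subgroup T} (hH : H ≠ ⊤) {b : ℕ} (hb : H.index = 2 ^ b)
    (hr : ∀ r : ℕ, r.Prime → r ≠ 2 → r ∣ Nat.card T → 2 ^ b ≡ 1 [MOD r]) : False := by
  have : Nontrivial (Fin n) := Fin.nontrivial_iff_two_le.2 (by omega)
  let K : Subgroup (Equiv.Perm (Fin n)) := (H.map e.toMonoidHom).map (alternatingGroup (Fin n)).subtype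
  have hle : K ≤ alternatingGroup (Fin n) := Subgroup.map_subtype_le _
  have hne : K ≠ alternatingGroup (Fin n) := by
    intro h
    apply hH
    have h1 : H.map e.toMonoidHom = ⊤ := by
      apply Subgroup.map_injective (alternatingGroup (Fin n)).subtype_injective
      rw [← MonoidHom.range_eq_map, Subgroup.range_subtype]
      exact h
    apply Subgroup.map_injective (f := e.toMonoidHom) e.injective
    rw [h1, ← MonoidHom.range_eq_map, eq_comm, MonoidHom.range_eq_top]
    exact e.surjective
  have hcK : Nat.card K = Nat.card H := by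
    rw [← Nat.card_congr ((H.map e.toMonoidHom).equivMapOfInjective _
      (alternatingGroup (Fin n)).subtype_injective).toEquiv,
      ← Nat.card_congr (H.equivMapOfInjective e.toMonoidHom e.injective).toEquiv]
  have hcT : 2 * Nat.card T = n.factorial := by
    rw [Nat.card_congr e.toEquiv, Nat.card_eq_fintype_card, two_mul_card_alternatingGroup, Fintype.card_perm,
      Fintype.card_fin]
  have h1 : K.index * Nat.card K = n.factorial := by
    rw [Subgroup.index_mul_card, Nat.card_perm, Nat.card_eq_fintype_card, Fintype.card_fin]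
  have h2 : H.index * Nat.card H = Nat.card T := Subgroup.index_mul_card H
  have hKi : K.index = 2 ^ (b + 1) := by
    have h3 : K.index * Nat.card H = (2 * H.index) * Nat.card H := by
      rw [mul_assoc, h2, hcT, ← hcK]; exact h1
    rw [Nat.eq_of_mul_eq_mul_right Nat.card_pos h3, hb, pow_succ]; ring
  have h4 : K.index = 2 * n := JordanTwoPower.index_eq hn hle hne hKi
  have h5 : 2 ^ b = n := by
    rw [hKi, pow_succ] at h4; omega
  -- `n` is even, at least 8
  have hb3 : 3 ≤ b := by
    by_contra hcon
    have : b ≤ 2 := by omega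
    have : 2 ^ b ≤ 2 ^ 2 := Nat.pow_le_pow_right (by norm_num) this
    omega
  have h8 : 8 ≤ n := by
    rw [← h5]; calc 8 = 2 ^ 3 := by norm_num
      _ ≤ 2 ^ b := Nat.pow_le_pow_right (by norm_num) hb3
  have hev : 2 ∣ n := by rw [← h5]; exact dvd_pow_self 2 (by omega)
  have hp : (n - 3).minFac.Prime := Nat.minFac_prime (by omega)
  have hd : (n - 3).minFac ∣ n - 3 := Nat.minFac_dvd _
  have hp2 : (n - 3).minFac ≠ 2 := by
    intro h
    rw [h] at hd
    omega
  have hle3 : (n - 3).minFac ≤ n - 3 := Nat.minFac_le (by omega)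
  have hdT : (n - 3).minFac ∣ Nat.card T := by
    have : (n - 3).minFac ∣ 2 * Nat.card T := by rw [hcT]; exact hp.dvd_factorial.2 (by omega)
    rcases (Nat.Prime.dvd_mul hp).1 this with h | h
    · exact absurd ((Nat.prime_dvd_prime_iff_eq hp Nat.prime_two).1 h) hp2
    · exact h
  have h6 := hr _ hp hp2 hdT
  rw [h5] at h6
  have h7 : (n - 3).minFac ∣ n - 1 := (Nat.modEq_iff_dvd' (by omega)).1 h6.symm
  have h9 : (n - 3).minFac ∣ 2 := by
    have := Nat.dvd_sub h7 hd
    rwa [show n - 1 - (n - 3) = 2 by omega] at this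
  exact hp2 ((Nat.prime_dvd_prime_iff_eq hp Nat.prime_two).1 h9)

theorem no_two_power_alternating {T : Type u} [Group T] [Finite T] {n : ℕ} (hn : 5 ≤ n)
    (e : T ≃* alternatingGroup (Fin n)) {H : Subgroup T} (hH : H ≠ ⊤) {b : ℕ} (hb : H.index = 2 ^ b)
    (hr : ∀ r : ℕ, r.Prime → r ≠ 2 → r ∣ Nat.card T → ∀ R : Sylow r T,
      ∃ g : T, Subgroup.normalizer ((MulAut.conj g • (R : Subgroup T) : Subgroup T) : Set T) ≤ H) : False := by
  refine no_two_power_alternating' hn e hH hb fun r hp h2 hd => ?_
  have : Fact r.Prime := ⟨hp⟩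
  obtain ⟨g, hg⟩ := hr r hp h2 hd default
  have := index_modEq_one hp (g • (default : Sylow r T)) (H := H) hg
  rwa [hb] at this

end Cfsg.Agent.H748.NoTwoPower
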