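import Cfsg.Agent.NotCT.Orders
import Cfsg.Prelude.Def_Classification2

/-!
# No proper subgroup of 2-power index `2 ^ b` with `2 ^ b ≡ 1` modulo the odd primes: sporadic groups (helper748)
-/

set_option autoImplicit false

universe u

namespace Cfsg.Agent.H748.NoTwoPower

open Cfsg

/-- the arithmetic behind the table: `2 ^ b ∣ N`, `¬ 2 ^ (k + 1) ∣ N` and `2 ^ b ≡ 1` modulo `r` and `s` force `b = 0`. -/
theorem index_one {N b : ℕ} (k r s : ℕ) (h1 : 2 ^ b ∣ N) (h2 : ¬ 2 ^ (k + 1) ∣ N)
    (hr : 2 ^ b ≡ 1 [MOD r]) (hs : 2 ^ b ≡ 1 [MOD s])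
    (hk : ∀ j : Fin (k + 1), 2 ^ (j : ℕ) % r = 1 % r → 2 ^ (j : ℕ) % s = 1 % s → (j : ℕ) = 0) : b = 0 := by
  have hb : b < k + 1 := by
    by_contra hcon
    exact h2 ((pow_dvd_pow 2 (by omega)).trans h1)
  exact hk ⟨b, hb⟩ hr hs

theorem step {T : Type u} [Group T] [Finite T] {H : Subgroup T} (hH : H ≠ ⊤) {b : ℕ} (hb : H.index = 2 ^ b)
    (hr : ∀ r : ℕ, r.Prime → r ≠ 2 → r ∣ Nat.card T → 2 ^ b ≡ 1 [MOD r]) {N : ℕ} (hN : Nat.card T = N)
    (k r s : ℕ) (hrp : r.Prime ∧ r ≠ 2 ∧ r ∣ N) (hsp : s.Prime ∧ s ≠ 2 ∧ s ∣ N) (h2 : ¬ 2 ^ (k + 1) ∣ N)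
    (hk : ∀ j : Fin (k + 1), 2 ^ (j : ℕ) % r = 1 % r → 2 ^ (j : ℕ) % s = 1 % s → (j : ℕ) = 0) : False := by
  subst hN
  have h1 : 2 ^ b ∣ Nat.card T := by rw [← hb]; exact H.index_dvd_card
  have h0 := index_one k r s h1 h2 (hr r hrp.1 hrp.2.1 hrp.2.2) (hr s hsp.1 hsp.2.1 hsp.2.2) hk
  rw [h0, pow_zero, Subgroup.index_eq_one] at hb
  exact hH hb

theorem no_two_power_sporadic {T : Type u} [Group T] [Finite T] (hT : Cfsg.IsSporadicGroup T ∨ Cfsg.Lie.IsoTits T)
    {H : Subgroup T} (hH : H ≠ ⊤) {b : ℕ} (hb : H.index = 2 ^ b)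
    (hr : ∀ r : ℕ, r.Prime → r ≠ 2 → r ∣ Nat.card T → 2 ^ b ≡ 1 [MOD r]) : False := by
  rcases hT with h | h
  · rcases h with h | h | h | h | h | h | h | h | h | h | h | h | h | h | h | h | h | h | h | h | h | h | h | h | h | h
    · exact step hH hb hr (NotCT.Orders.m11 h) 4 11 11 (by norm_num) (by norm_num) (by norm_num) (by decide)
    · exact step hH hb hr (NotCT.Orders.m12 h) 6 11 11 (by norm_num) (by norm_num) (by norm_num) (by decide)
    · exact step hH hb hr (NotCT.Orders.m22 h) 7 11 11 (by norm_num) (by norm_num) (by norm_num) (by decide)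
    · exact step hH hb hr (NotCT.Orders.m23 h) 7 11 11 (by norm_num) (by norm_num) (by norm_num) (by decide)
    · exact step hH hb hr (NotCT.Orders.m24 h) 10 11 7 (by norm_num) (by norm_num) (by norm_num) (by decide)
    · exact step hH hb hr (NotCT.Orders.j1 h) 3 11 11 (by norm_num) (by norm_num) (by norm_num) (by decide)
    · exact step hH hb hr (NotCT.Orders.j2 h) 7 5 7 (by norm_num) (by norm_num) (by norm_num) (by decide)
    · exact step hH hb hr (NotCT.Orders.j3 h) 7 19 19 (by norm_num) (by norm_num) (by norm_num) (by decide)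
    · exact step hH hb hr (NotCT.Orders.j4 h) 21 29 29 (by norm_num) (by norm_num) (by norm_num) (by decide)
    · exact step hH hb hr (NotCT.Orders.co1 h) 21 11 13 (by norm_num) (by norm_num) (by norm_num) (by decide)
    · exact step hH hb hr (NotCT.Orders.co2 h) 18 11 7 (by norm_num) (by norm_num) (by norm_num) (by decide)
    · exact step hH hb hr (NotCT.Orders.co3 h) 10 11 7 (by norm_num) (by norm_num) (by norm_num) (by decide)
    · exact step hH hb hr (NotCT.Orders.mcl h) 7 11 11 (by norm_num) (by norm_num) (by norm_num) (by decide)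
    · exact step hH hb hr (NotCT.Orders.hs h) 9 11 11 (by norm_num) (by norm_num) (by norm_num) (by decide)
    · exact step hH hb hr (NotCT.Orders.suz h) 13 11 13 (by norm_num) (by norm_num) (by norm_num) (by decide)
    · exact step hH hb hr (NotCT.Orders.he h) 10 17 7 (by norm_num) (by norm_num) (by norm_num) (by decide)
    · exact step hH hb hr (NotCT.Orders.ru h) 14 29 29 (by norm_num) (by norm_num) (by norm_num) (by decide)
    · exact step hH hb hr (NotCT.Orders.on h) 9 11 11 (by norm_num) (by norm_num) (by norm_num) (by decide)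
    · exact step hH hb hr (NotCT.Orders.ly h) 8 11 11 (by norm_num) (by norm_num) (by norm_num) (by decide)
    · exact step hH hb hr (NotCT.Orders.fi22 h) 17 11 13 (by norm_num) (by norm_num) (by norm_num) (by decide)
    · exact step hH hb hr (NotCT.Orders.fi23 h) 18 11 13 (by norm_num) (by norm_num) (by norm_num) (by decide)
    · exact step hH hb hr (NotCT.Orders.fi24 h) 21 11 13 (by norm_num) (by norm_num) (by norm_num) (by decide)
    · exact step hH hb hr (NotCT.Orders.hn h) 14 11 7 (by norm_num) (by norm_num) (by norm_num) (by decide)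
    · exact step hH hb hr (NotCT.Orders.th h) 15 19 19 (by norm_num) (by norm_num) (by norm_num) (by decide)
    · exact step hH hb hr (NotCT.Orders.b h) 41 11 13 (by norm_num) (by norm_num) (by norm_num) (by decide)
    · exact step hH hb hr (NotCT.Orders.m h) 46 11 13 (by norm_num) (by norm_num) (by norm_num) (by decide)
  · exact step hH hb hr (NotCT.Orders.tits h) 11 13 13 (by norm_num) (by norm_num) (by norm_num) (by decide)

end Cfsg.Agent.H748.NoTwoPower
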