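import Cfsg.Agent.H748.PalfyMain
import Cfsg.Agent.H273.PalfyKP

/-!
# Palfy's three primes theorem

Among any three prime divisors of character degrees of a finite solvable group, two divide a
common degree.  The linear group half is `Cfsg.Agent.H273.Palfy.kp` (helper273), the reduction
is `palfy_of_KP`.
-/

namespace Cfsg.Agent.H748.Palfy

universe u

/-- **Palfy's three primes theorem**. -/
theorem palfy {G : Type u} [Group G] [Finite G] (hG : Group.IsSolvable G)
    {p q r : ℕ} (hp : p ∈ Cfsg.degreePrimes G) (hq : q ∈ Cfsg.degreePrimes G) (hr : r ∈ Cfsg.degreePrimes G)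
    (hpq : p ≠ q) (hqr : q ≠ r) (hpr : p ≠ r) :
    Cfsg.Agent.H671.H5.Adj p q G ∨ Cfsg.Agent.H671.H5.Adj q r G ∨ Cfsg.Agent.H671.H5.Adj p r G :=
  palfy_of_KP Cfsg.Agent.H273.Palfy.kp hG hp hq hr hpq hqr hpr

end Cfsg.Agent.H748.Palfy
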