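import Cfsg.Agent.H748.PalfyD

/-!
# Palfy's three primes theorem (helper748), from the linear group half `KP` (helper273)
-/

set_option autoImplicit false
set_option linter.unusedSectionVars false

namespace Cfsg.Agent.H748.Palfy

open Cfsg Cfsg.Agent.Characters.Core Cfsg.Agent.OddOrderCharacters.IndRes
  Cfsg.Agent.OddOrderCharacters.NormalInduced Cfsg.Agent.OddOrderCharacters.PF9.CliffGen
  Cfsg.Agent.H681.DegBasic
open scoped commutatorElement

universe u

section

variable {G : Type u} [Group G] [Finite G]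

/-- a minimal normal `t`-subgroup is centralised by a normal `t`-subgroup -/
theorem central_of_min {t : ℕ} [ht : Fact t.Prime] {P N : Subgroup G} [hPn : P.Normal] [hNn : N.Normal]
    (hP : IsPGroup t P) (hNP : N ≤ P) (hN1 : N ≠ ⊥) (hmin : ∀ K : Subgroup G, K.Normal → K ≤ N → K = ⊥ ∨ K = N) :
    ∀ x ∈ P, ∀ n ∈ N, x * n = n * x := by
  classical
  have hCn : (N ⊓ Subgroup.centralizer (P : Set G)).Normal := by
    constructor
    intro x hx g
    obtain ⟨hxN, hxC⟩ := Subgroup.mem_inf.1 hx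
    refine Subgroup.mem_inf.2 ⟨hNn.conj_mem x hxN g, Subgroup.mem_centralizer_iff.2 fun y hy => ?_⟩
    have hy' : g⁻¹ * y * g ∈ P := by
      have := hPn.conj_mem y hy g⁻¹
      rwa [inv_inv] at this
    have h2 := Subgroup.mem_centralizer_iff.1 hxC _ hy'
    calc y * (g * x * g⁻¹) = g * ((g⁻¹ * y * g) * x) * g⁻¹ := by group
      _ = g * (x * (g⁻¹ * y * g)) * g⁻¹ := by rw [h2]
      _ = g * x * g⁻¹ * y := by group
  rcases hmin _ hCn inf_le_left with h | h
  · exfalso
    let φ : ↥P →* MulAut ↥N := (MulAut.conjNormal : G →* MulAut N).comp P.subtype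
    let _ : MulAction ↥P ↥N := MulAction.compHom N φ
    have hsm : ∀ (x : ↥P) (n : ↥N), ((x • n : ↥N) : G) = x * n * (x : G)⁻¹ := fun x n => rfl
    have hdvd : t ∣ Nat.card N := by
      obtain ⟨k, hk⟩ := IsPGroup.iff_card.1 (hP.to_le hNP)
      rw [hk]
      have : k ≠ 0 := by
        rintro rfl
        rw [pow_zero] at hk
        exact hN1 (Subgroup.card_eq_one.1 hk)
      exact dvd_pow_self t this
    have h1 : (1 : ↥N) ∈ MulAction.fixedPoints ↥P ↥N := by
      intro x
      apply Subtype.ext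
      rw [hsm, OneMemClass.coe_one, mul_one, mul_inv_cancel]
    obtain ⟨n, hn, hne⟩ := hP.exists_fixed_point_of_prime_dvd_card_of_fixed_point ↥N hdvd h1
    have h2 : (n : G) ∈ N ⊓ Subgroup.centralizer (P : Set G) := by
      refine Subgroup.mem_inf.2 ⟨n.2, Subgroup.mem_centralizer_iff.2 fun y hy => ?_⟩
      have h3 := congrArg Subtype.val (hn ⟨y, hy⟩)
      rw [hsm] at h3
      change y * n * y⁻¹ = n at h3
      calc y * (n : G) = (y * n * y⁻¹) * y := by group
        _ = n * y := by rw [h3]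
    rw [h, Subgroup.mem_bot] at h2
    exact hne (Subtype.ext h2.symm)
  · intro x hx n hn
    have h1 : n ∈ N ⊓ Subgroup.centralizer (P : Set G) := by rw [h]; exact hn
    exact Subgroup.mem_centralizer_iff.1 (Subgroup.mem_inf.1 h1).2 x hx

/-- the case of a minimal normal `t`-subgroup -/
theorem caseB (hKP : Cfsg.Agent.H273.Palfy.KP.{u, u}) {t a b : ℕ} [ht : Fact t.Prime] [ha : Fact a.Prime] [hb : Fact b.Prime]
    (hta : t ≠ a) (htb : t ≠ b) (hab : a ≠ b) (c : Ctx G t a b) (N : Subgroup G) [hNn : N.Normal]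
    (hN1 : N ≠ ⊥) (hmin : ∀ K : Subgroup G, K.Normal → K ≤ N → K = ⊥ ∨ K = N)
    (hNt : ∀ x ∈ N, x ^ t = 1) (hNp : IsPGroup t N)
    (hq : ∀ d ∈ charDegrees (G ⧸ N), ¬ t ∣ d) : False := by
  classical
  have hsolv := c.solv
  let P0 : Sylow t G := default
  have hQ := ito_michler (X := G ⧸ N) inferInstance hq (P0.mapSurjective (QuotientGroup.mk'_surjective N))
  have hNP : N ≤ (P0 : Subgroup G) := hNp.le_sylow_of_normal P0
  have hPn : (P0 : Subgroup G).Normal := by
    have h1 : ((P0 : Subgroup G).map (QuotientGroup.mk' N)).Normal := hQ.1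
    have h2 := h1.comap (QuotientGroup.mk' N)
    rwa [Subgroup.comap_map_eq, QuotientGroup.ker_mk', sup_eq_left.2 hNP] at h2
  have hPcN : ∀ x ∈ (P0 : Subgroup G), ∀ y ∈ (P0 : Subgroup G), x * y * x⁻¹ * y⁻¹ ∈ N := by
    intro x hx y hy
    have h1 := hQ.2 (QuotientGroup.mk' N x) ⟨x, hx, rfl⟩ (QuotientGroup.mk' N y) ⟨y, hy, rfl⟩
    rw [← QuotientGroup.ker_mk' N, MonoidHom.mem_ker]
    rw [map_mul, map_mul, map_mul, map_inv, map_inv, h1]
    group
  have hcopidx : (Nat.card (P0 : Subgroup G)).Coprime (P0 : Subgroup G).index := by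
    obtain ⟨n, hn⟩ := IsPGroup.iff_card.1 P0.isPGroup'
    have h3 : Nat.card (P0 : Subgroup G) = t ^ n := hn
    rw [h3]
    exact ((Nat.Prime.coprime_iff_not_dvd ht.out).2 P0.not_dvd_index).pow_left n
  obtain ⟨H, hH⟩ := Subgroup.exists_right_complement'_of_coprime hcopidx
  have hcardH : Nat.card H = (P0 : Subgroup G).index := hH.symm.index_eq_card.symm
  have hnp : ∀ p : ℕ, p.Prime → t ≠ p → ¬ p ∣ Nat.card (P0 : Subgroup G) := by
    intro p hp htp hd
    obtain ⟨n, hn⟩ := IsPGroup.iff_card.1 P0.isPGroup'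
    have h3 : Nat.card (P0 : Subgroup G) = t ^ n := hn
    rw [h3] at hd
    exact htp ((Nat.prime_dvd_prime_iff_eq hp ht.out).1 (hp.dvd_of_dvd_pow hd)).symm
  have B : BCtx t a b (P0 : Subgroup G) N H :=
    { c := c
      hP := P0.isPGroup'
      hPH := hH.disjoint.eq_bot
      hPH' := hH.sup_eq_top
      hcop := by rw [hcardH]; exact hcopidx
      hNP := hNP
      hPcN := hPcN
      hNz := central_of_min P0.isPGroup' hNP hN1 hmin
      hN1 := hN1
      hmin := hmin
      hNt := hNt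
      hna := by
        by_contra hcon
        push Not at hcon
        exact false_of_sylow P0 hPn hcon c.dt }
  have B' : BCtx t b a (P0 : Subgroup G) N H :=
    { B with c := c.swap }
  have uA := uniqueSylow_of hsolv N H (p := a) (B.not_dvd c.ta)
  have uB := uniqueSylow_of hsolv N H (p := b) (B.not_dvd c.tb)
  by_cases nA : letI := linAct N H
      ∃ A : Sylow a H, ∃ h ∈ (A : Subgroup H), ∃ v : ↥N →* ℂˣ, h • v ≠ v
  · by_cases nB : letI := linAct N H
        ∃ A : Sylow b H, ∃ h ∈ (A : Subgroup H), ∃ v : ↥N →* ℂˣ, h • v ≠ v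
    · -- the linear group half
      have hfin : Finite (↥N →* ℂˣ) := finite_lin
      have hnt : Nontrivial (↥N →* ℂˣ) := by
        rw [← Finite.one_lt_card_iff_nontrivial, card_lin B.hN]
        exact (Subgroup.one_lt_card_iff_ne_bot N).2 hN1
      let _ := linAct N H
      obtain ⟨χ, hχ⟩ := hKP ↥H (↥N →* ℂˣ) a b t inferInstance hab (fun v => by
          ext n
          have h1 : n ^ t = 1 := Subtype.ext (hNt n n.2)
          rw [MonoidHom.pow_apply, ← map_pow, h1, map_one]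
          rfl) (lin_irr (Or.inr fun x => by
            have hx : x ∈ H ⊔ (P0 : Subgroup G) := by rw [sup_comm, B.hPH']; trivial
            obtain ⟨h, hh, y, hy, rfl⟩ := Subgroup.mem_sup_of_normal_right.1 hx
            refine ⟨h, hh, fun n hn => ?_⟩
            have h1 := B.hNz y hy n hn
            calc h * y * n * (h * y)⁻¹ = h * (y * n) * y⁻¹ * h⁻¹ := by group
              _ = h * n * h⁻¹ := by rw [h1]; group) B.hN hmin) uA uB nA nB
      have h1 : charDegree (χ : ↥H → ℂ) ∈ charDegrees G := degree_compl B.hPH B.hPH' ⟨χ, rfl⟩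
      exact c.ab _ h1 ((dvd_mul_right a b).trans hχ) ((dvd_mul_left b a).trans hχ)
    · have h1 := normal_of_trivial B.hN hN1 uB nB default
      exact B'.false_of_one (hnp b hb.out htb) default h1.1 h1.2.1 h1.2.2 uA nA
  · have h1 := normal_of_trivial B.hN hN1 uA nA default
    by_cases nB : letI := linAct N H
        ∃ A : Sylow b H, ∃ h ∈ (A : Subgroup H), ∃ v : ↥N →* ℂˣ, h • v ≠ v
    · exact B.false_of_one (hnp a ha.out hta) default h1.1 h1.2.1 h1.2.2 uB nB
    · have h2 := normal_of_trivial B.hN hN1 uB nB default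
      exact B.false_of_both (hnp a ha.out hta) (hnp b hb.out htb) default h1.1 h1.2.1 h1.2.2 default h2.1 h2.2.1 h2.2.2

end

/-- one step: a minimal normal subgroup `N` such that `t` divides no degree of `G / N` -/
theorem step (hKP : Cfsg.Agent.H273.Palfy.KP.{u, u}) {G : Type u} [Group G] [Finite G]
    {t a b : ℕ} [ht : Fact t.Prime] [ha : Fact a.Prime] [hb : Fact b.Prime]
    (hta : t ≠ a) (htb : t ≠ b) (hab : a ≠ b) (c : Ctx G t a b) (N : Subgroup G) [hNn : N.Normal]
    (hN1 : N ≠ ⊥) (hmin : ∀ K : Subgroup G, K.Normal → K ≤ N → K = ⊥ ∨ K = N)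
    {ℓ : ℕ} [hℓ : Fact ℓ.Prime] (hNℓ : IsPGroup ℓ N) (hNc : IsMulCommutative N)
    (hq : ∀ d ∈ charDegrees (G ⧸ N), ¬ t ∣ d) : False := by
  have hN : ∀ x ∈ N, ∀ y ∈ N, x * y = y * x := by
    intro x hx y hy
    exact congrArg Subtype.val (hNc.is_comm.comm (⟨x, hx⟩ : N) ⟨y, hy⟩)
  -- exponent
  have hexp : ∀ x ∈ N, x ^ ℓ = 1 := by
    let K : Subgroup G :=
      { carrier := {x | x ∈ N ∧ x ^ ℓ = 1}
        one_mem' := ⟨N.one_mem, one_pow _⟩
        mul_mem' := by
          rintro x y ⟨hx, hx'⟩ ⟨hy, hy'⟩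
          refine ⟨N.mul_mem hx hy, ?_⟩
          rw [(show Commute x y from hN x hx y hy).mul_pow, hx', hy', one_mul]
        inv_mem' := by
          rintro x ⟨hx, hx'⟩
          exact ⟨N.inv_mem hx, by rw [inv_pow, hx', inv_one]⟩ }
    have hKn : K.Normal := by
      constructor
      rintro x ⟨hx, hx'⟩ g
      refine ⟨hNn.conj_mem x hx g, ?_⟩
      rw [conj_pow, hx', mul_one, mul_inv_cancel]
    rcases hmin K hKn (fun x hx => hx.1) with h | h
    · exfalso
      have hdvd : ℓ ∣ Nat.card N := by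
        obtain ⟨k, hk⟩ := IsPGroup.iff_card.1 hNℓ
        rw [hk]
        have : k ≠ 0 := by
          rintro rfl
          rw [pow_zero] at hk
          exact hN1 (Subgroup.card_eq_one.1 hk)
        exact dvd_pow_self ℓ this
      obtain ⟨x, hx⟩ := exists_prime_orderOf_dvd_card' (G := N) ℓ hdvd
      have h1 : (x : G) ∈ K := ⟨x.2, by
        have := pow_orderOf_eq_one x
        rw [hx] at this
        exact congrArg Subtype.val this⟩
      rw [h, Subgroup.mem_bot] at h1
      have h2 : x = 1 := Subtype.ext h1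
      rw [h2, orderOf_one] at hx
      exact hℓ.out.one_lt.ne hx
    · intro x hx
      have h1 : x ∈ K := by rw [h]; exact hx
      exact h1.2
  by_cases htl : ℓ = t
  · subst htl
    exact caseB hKP hta htb hab c N hN1 hmin hexp hNℓ hq
  · refine caseA hKP hab c N hN hN1 hmin (ℓ := ℓ) hexp ?_ hq
    intro hd
    obtain ⟨n, hn⟩ := IsPGroup.iff_card.1 hNℓ
    rw [hn] at hd
    exact htl ((Nat.prime_dvd_prime_iff_eq ht.out hℓ.out).1 (ht.out.dvd_of_dvd_pow hd)).symm

theorem Ctx.rot {G : Type u} [Group G] {t a b : ℕ} (c : Ctx G t a b) : Ctx G a b t :=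
  ⟨c.solv, c.da, c.db, c.dt, c.ab, fun d hd h1 h2 => c.ta d hd h2 h1, fun d hd h1 h2 => c.tb d hd h2 h1⟩

theorem main (hKP : Cfsg.Agent.H273.Palfy.KP.{u, u}) (n : ℕ) : ∀ (G : Type u) [Group G] [Finite G], Nat.card G ≤ n →
    ∀ {t a b : ℕ} [Fact t.Prime] [Fact a.Prime] [Fact b.Prime], t ≠ a → t ≠ b → a ≠ b → Ctx G t a b → False := by
  induction n with
  | zero =>
    intro G _ _ hn
    exact absurd hn (by have := Nat.card_pos (α := G); omega)
  | succ n ih =>
    intro G _ _ hn t a b ht ha hb hta htb hab c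
    have hsolv := c.solv
    have hnt : Nontrivial G := by
      by_contra hcon
      rw [not_nontrivial_iff_subsingleton] at hcon
      obtain ⟨d, hd, htd⟩ := c.dt
      have h1 := dvd_card hd
      rw [Nat.card_of_subsingleton (1 : G)] at h1
      exact ht.out.one_lt.ne' (Nat.dvd_one.1 (htd.trans h1))
    obtain ⟨ℓ, N, hℓ, hNn, hNℓ, hNc, hN1, hmin⟩ := Solvable.Carter.exists_min_normal G
    have : Fact ℓ.Prime := ⟨hℓ⟩
    by_cases ht' : ∀ d ∈ charDegrees (G ⧸ N), ¬ t ∣ d
    · exact step hKP hta htb hab c N hN1 hmin hNℓ hNc ht'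
    by_cases ha' : ∀ d ∈ charDegrees (G ⧸ N), ¬ a ∣ d
    · exact step hKP hab hta.symm htb.symm c.rot N hN1 hmin hNℓ hNc ha'
    by_cases hb' : ∀ d ∈ charDegrees (G ⧸ N), ¬ b ∣ d
    · exact step hKP htb.symm hab.symm hta c.rot.rot N hN1 hmin hNℓ hNc hb'
    push Not at ht' ha' hb'
    have hcard : Nat.card (G ⧸ N) ≤ n := by
      have h1 := Subgroup.card_eq_card_quotient_mul_card_subgroup N
      have h2 : 1 < Nat.card N := by
        rw [Subgroup.one_lt_card_iff_ne_bot]; exact hN1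
      have h3 : 0 < Nat.card (G ⧸ N) := Nat.card_pos
      nlinarith
    have hq : ∀ d ∈ charDegrees (G ⧸ N), d ∈ charDegrees G := fun d hd =>
      charDegrees_comp (QuotientGroup.mk' N) (QuotientGroup.mk'_surjective N) hd
    exact ih (G ⧸ N) hcard hta htb hab
      ⟨inferInstance, ht', ha', hb', fun d hd => c.ta d (hq d hd), fun d hd => c.tb d (hq d hd),
        fun d hd => c.ab d (hq d hd)⟩

/-- **Palfy's three primes theorem**, from the linear group half. -/
theorem palfy_of_KP (hKP : Cfsg.Agent.H273.Palfy.KP.{u, u}) {G : Type u} [Group G] [Finite G] (hG : Group.IsSolvable G)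
    {p q r : ℕ} (hp : p ∈ Cfsg.degreePrimes G) (hq : q ∈ Cfsg.degreePrimes G) (hr : r ∈ Cfsg.degreePrimes G)
    (hpq : p ≠ q) (hqr : q ≠ r) (hpr : p ≠ r) :
    Cfsg.Agent.H671.H5.Adj p q G ∨ Cfsg.Agent.H671.H5.Adj q r G ∨ Cfsg.Agent.H671.H5.Adj p r G := by
  by_contra hcon
  push Not at hcon
  obtain ⟨h1, h2, h3⟩ := hcon
  obtain ⟨hpp, dp⟩ := hp
  obtain ⟨hqp, dq⟩ := hq
  obtain ⟨hrp, dr⟩ := hr
  have : Fact p.Prime := ⟨hpp⟩
  have : Fact q.Prime := ⟨hqp⟩
  have : Fact r.Prime := ⟨hrp⟩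
  have key : ∀ {x y : ℕ}, x.Prime → y.Prime → x ≠ y → ¬ Cfsg.Agent.H671.H5.Adj x y G →
      ∀ d ∈ charDegrees G, x ∣ d → ¬ y ∣ d := by
    intro x y hx hy hxy hna d hd hxd hyd
    exact hna ⟨hxy, hx, hy, d, hd, Nat.Coprime.mul_dvd_of_dvd_of_dvd ((Nat.coprime_primes hx hy).2 hxy) hxd hyd⟩
  exact main hKP _ G le_rfl hpq hpr hqr
    ⟨hG, dp, dq, dr, key hpp hqp hpq h1, key hpp hrp hpr h3, key hqp hrp hqr h2⟩

end Cfsg.Agent.H748.Palfy
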