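import Cfsg.Agent.H789.Exo.Defs
import Cfsg.Agent.H518.SUOrth
import Cfsg.Agent.LieClassical.SympCenter
import Cfsg.Agent.LieClassical.OrthForms

/-!
# The symplectic and orthogonal groups in cross characteristic (task 1030, EXO-SPO)
-/

set_option autoImplicit false

namespace Cfsg.Agent.H748.ExoSPO

open Cfsg Cfsg.Agent.H789.Exo Equiv

universe u v

/-! ### Permutation matrices -/

section
variable {ι : Type*} [Fintype ι] [DecidableEq ι] {F : Type*} [Field F]

/-- Permutation matrices. -/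
def pm (σ : Perm ι) : Matrix ι ι F := fun i j => if i = σ j then 1 else 0

omit [Fintype ι] in
theorem pm_one : (pm 1 : Matrix ι ι F) = 1 := by
  ext i j
  by_cases h : i = j
  · subst h
    simp [pm]
  · rw [Matrix.one_apply_ne h]
    exact if_neg h

theorem pm_mul_apply (σ : Perm ι) (N : Matrix ι ι F) (i k : ι) : ((pm σ : Matrix ι ι F) * N) i k = N (σ.symm i) k := by
  rw [Matrix.mul_apply]
  simp only [pm, ite_mul, one_mul, zero_mul]
  rw [Finset.sum_eq_single (σ.symm i)]
  · simp
  · intro j _ hj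
    rw [if_neg]
    rintro rfl
    simp at hj
  · simp

theorem mul_pm_apply (σ : Perm ι) (N : Matrix ι ι F) (i k : ι) : (N * (pm σ : Matrix ι ι F)) i k = N i (σ k) := by
  rw [Matrix.mul_apply]
  simp only [pm, mul_ite, mul_one, mul_zero]
  rw [Finset.sum_eq_single (σ k)]
  · simp
  · intro j _ hj
    rw [if_neg hj]
  · simp

theorem pm_mul (σ τ : Perm ι) : (pm (σ * τ) : Matrix ι ι F) = pm σ * pm τ := by
  ext i k
  rw [mul_pm_apply]
  rfl

omit [Fintype ι] in
theorem pm_transpose (σ : Perm ι) : (pm σ : Matrix ι ι F).transpose = pm σ⁻¹ := by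
  ext i k
  rw [Matrix.transpose_apply]
  simp only [pm]
  congr 1
  rw [Perm.eq_inv_iff_eq]
  exact propext eq_comm

theorem pm_mulVec (σ : Perm ι) (u : ι → F) : (pm σ : Matrix ι ι F).mulVec u = fun i => u (σ.symm i) := by
  ext i
  simp only [pm, Matrix.mulVec, dotProduct, ite_mul, one_mul, zero_mul]
  rw [Finset.sum_eq_single (σ.symm i)]
  · simp
  · intro j _ hj
    rw [if_neg]
    rintro rfl
    simp at hj
  · simp

/-- Permutation matrices, as a homomorphism. -/
def pmHom : Perm ι →* Matrix ι ι F where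
  toFun := pm
  map_one' := pm_one
  map_mul' := pm_mul

omit [Fintype ι] in
theorem pm_injective : Function.Injective (pm : Perm ι → Matrix ι ι F) := by
  intro σ τ h
  ext j
  have h1 := congrFun (congrFun h (σ j)) j
  simp only [pm, if_true] at h1
  by_contra hne
  rw [if_neg hne] at h1
  exact one_ne_zero h1

end

/-! ### Double inversions -/

theorem ne_inv_of {G : Type*} [Group G] {p : ℕ} (hp : p.Prime) (hp3 : 3 ≤ p) {x : G} (hx : x ≠ 1)
    (hxp : ∃ k : ℕ, x ^ p ^ k = 1) : x * x ≠ 1 := by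
  obtain ⟨k, hk⟩ := hxp
  intro h
  have h1 : orderOf x ∣ 2 := orderOf_dvd_of_pow_eq_one (by rw [sq, h])
  have h2 : orderOf x ∣ p ^ k := orderOf_dvd_of_pow_eq_one hk
  have h3 : Nat.Coprime 2 (p ^ k) := by
    refine Nat.Coprime.pow_right k ?_
    rw [Nat.coprime_primes Nat.prime_two hp]
    omega
  exact hx (orderOf_eq_one_iff.1 (Nat.eq_one_of_dvd_coprimes h3 h1 h2))

/-- Double inversions and quotients by the centre. -/
theorem DoubleInv.quot {p : ℕ} (hp : p.Prime) (hp3 : 3 ≤ p) {A : Type u} {H : Type v} [Group A] [Group H] (h : DoubleInv p A)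
    (f : A →* H) (hf : Function.Injective f) : DoubleInv p (H ⧸ Subgroup.center H) := by
  obtain ⟨x, y, s, t, hx, hy, hxp, hyp, hxy, h1, h2, h3, h4⟩ := h
  refine DoubleInv.map' hxp hyp hxy h1 h2 h3 h4 ((QuotientGroup.mk' (Subgroup.center H)).comp f) ?_ ?_
  · intro h5
    have h6 : f x ∈ Subgroup.center H := (QuotientGroup.eq_one_iff _).1 h5
    have h7 : f (s * x * s⁻¹) = f x := by
      rw [map_mul, map_mul, map_inv, Subgroup.mem_center_iff.1 h6, mul_assoc, mul_inv_cancel, mul_one]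
    rw [h1] at h7
    have h8 := hf h7
    exact ne_inv_of hp hp3 hx hxp (by nth_rewrite 1 [← h8]; rw [inv_mul_cancel])
  · intro h5
    have h6 : f y ∈ Subgroup.center H := (QuotientGroup.eq_one_iff _).1 h5
    have h7 : f (t * y * t⁻¹) = f y := by
      rw [map_mul, map_mul, map_inv, Subgroup.mem_center_iff.1 h6, mul_assoc, mul_inv_cancel, mul_one]
    rw [h4] at h7
    have h8 := hf h7
    exact ne_inv_of hp hp3 hy hyp (by nth_rewrite 1 [← h8]; rw [inv_mul_cancel])

/-- The degree bound for `L ⧸ center L`. -/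
theorem bound {p n : ℕ} {G : Type u} [Group G] [Finite G] (h : Pearly p n G) {L : Type v} [Group L] [Finite L]
    {F : Type*} [Field F] {ι : Type*} [Fintype ι] [DecidableEq ι]
    (f : L →* Matrix ι ι F) (hf : Function.Injective f) (hker : ¬ p ∣ Nat.card (Subgroup.center L))
    (e : G ≃* L ⧸ Subgroup.center L) (hF : (p : F) ≠ 0) : p ^ 2 * (p - 1) ≤ Fintype.card ι := by
  have hk : (e.symm.toMonoidHom.comp (QuotientGroup.mk' (Subgroup.center L))).ker = Subgroup.center L := by
    ext x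
    rw [MonoidHom.mem_ker, MonoidHom.comp_apply]
    change e.symm _ = 1 ↔ _
    rw [map_eq_one_iff _ e.symm.injective, QuotientGroup.mk'_apply, QuotientGroup.eq_one_iff]
  refine h.le_card_lift (e.symm.toMonoidHom.comp (QuotientGroup.mk' (Subgroup.center L)))
    (e.symm.surjective.comp (QuotientGroup.mk'_surjective _)) hk.le ?_ hF f hf
  rw [hk]
  exact (Nat.Prime.coprime_iff_not_dvd h.prime).2 hker

theorem arith {p m k : ℕ} (hp3 : 3 ≤ p) (h : p ^ 2 * (p - 1) ≤ 2 * m + k) (hk : k ≤ 2) : 2 * p + 2 ≤ m := by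
  obtain ⟨q, rfl⟩ := Nat.exists_eq_add_of_le hp3
  have e : (3 + q) ^ 2 * (3 + q - 1) = q ^ 3 + 8 * q ^ 2 + 21 * q + 18 := by
    rw [show 3 + q - 1 = q + 2 by omega]; ring
  rw [e] at h
  nlinarith [Nat.zero_le (q ^ 3), Nat.zero_le (q ^ 2)]

/-! ### Symplectic groups -/

section
variable {F : Type*} [Field F] {m : ℕ}

/-- The action of permutations on the symplectic frame. -/
def spPerm (m : ℕ) : Perm (Fin m) →* Perm (Fin m ⊕ Fin m) where
  toFun σ := Equiv.sumCongr σ σ
  map_one' := by ext (i | i) <;> rfl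
  map_mul' σ τ := by ext (i | i) <;> rfl

theorem spPerm_injective : Function.Injective (spPerm m) := by
  intro σ τ h
  ext i
  have h1 := congrArg (fun g : Perm (Fin m ⊕ Fin m) => g (Sum.inl i)) h
  have h2 : (Sum.inl (σ i) : Fin m ⊕ Fin m) = Sum.inl (τ i) := h1
  rw [Sum.inl.inj h2]

theorem pm_mem_sp (σ : Perm (Fin m)) :
    (pm (spPerm m σ) : Matrix (Fin m ⊕ Fin m) (Fin m ⊕ Fin m) F) ∈ Matrix.symplecticGroup (Fin m) F := by
  rw [SymplecticGroup.mem_iff]
  ext i k
  rw [pm_transpose, mul_pm_apply, pm_mul_apply]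
  rcases i with i | i <;> rcases k with k | k
  · rfl
  · change -(1 : Matrix (Fin m) (Fin m) F) (σ.symm i) (σ⁻¹ k) = -(1 : Matrix (Fin m) (Fin m) F) i k
    rw [Matrix.one_apply, Matrix.one_apply]
    congr 1
    simp [Perm.inv_def]
  · change (1 : Matrix (Fin m) (Fin m) F) (σ.symm i) (σ⁻¹ k) = (1 : Matrix (Fin m) (Fin m) F) i k
    rw [Matrix.one_apply, Matrix.one_apply]
    simp [Perm.inv_def]
  · rfl

/-- Permutations in the symplectic group. -/
def spHom : Perm (Fin m) →* Matrix.symplecticGroup (Fin m) F where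
  toFun σ := ⟨pm (spPerm m σ), pm_mem_sp σ⟩
  map_one' := Subtype.ext (by
    change pm (spPerm m 1) = 1
    rw [map_one, pm_one])
  map_mul' σ τ := Subtype.ext (by
    change pm (spPerm m (σ * τ)) = pm (spPerm m σ) * pm (spPerm m τ)
    rw [map_mul, pm_mul])

theorem spHom_injective : Function.Injective (spHom : Perm (Fin m) →* Matrix.symplecticGroup (Fin m) F) := by
  intro σ τ h
  exact spPerm_injective (pm_injective (congrArg Subtype.val h))

/-- **Symplectic groups**, with the double inversion in the alternating groups as a hypothesis. -/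
theorem psp {p n : ℕ} {G : Type u} [Group G] [Finite G] (h : Pearly p n G)
    (hA : ∀ m, 2 * p + 2 ≤ m → DoubleInv p (alternatingGroup (Fin m))) [Fintype F] (hF : (p : F) ≠ 0)
    (hm : 1 ≤ m) (e : G ≃* PSp m F) : False := by
  have h2 : ¬ p ∣ Nat.card (Subgroup.center (Matrix.symplecticGroup (Fin m) F)) := by
    rw [LieClassical.SympCenter.card_center hm]
    intro h3
    have h4 := (Nat.prime_dvd_prime_iff_eq h.prime Nat.prime_two).1 (h3.trans (Nat.gcd_dvd_left _ _))
    have := h.odd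
    omega
  have hb := bound h (Matrix.symplecticGroup (Fin m) F).subtype Subtype.val_injective h2 e hF
  rw [Fintype.card_sum, Fintype.card_fin] at hb
  have hm2 : 2 * p + 2 ≤ m := arith (k := 0) h.odd (by omega) (by omega)
  exact h.dinv ((DoubleInv.quot h.prime h.odd (hA m hm2) (spHom.comp (alternatingGroup (Fin m)).subtype)
    (spHom_injective.comp Subtype.val_injective)).congr e.symm)

end

/-! ### Orthogonal groups -/

section
variable {F : Type} [Field F] {ι : Type} [Fintype ι] [DecidableEq ι]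

/-- Permutation matrices in the general linear group. -/
def pmGL : Perm ι →* Matrix.GeneralLinearGroup ι F := pmHom.toHomUnits

theorem coe_pmGL (σ : Perm ι) : ((pmGL σ : Matrix.GeneralLinearGroup ι F) : Matrix ι ι F) = pm σ := rfl

theorem pmGL_mem {Q : (ι → F) → F} {σ : Perm ι} (h : ∀ u, Q (fun i => u (σ.symm i)) = Q u) :
    (pmGL σ : Matrix.GeneralLinearGroup ι F) ∈ isometryGroup F Q := by
  intro u _
  change Q ((pm σ : Matrix ι ι F).mulVec u) = Q u
  rw [pm_mulVec, h]

/-- The double inversion in `PΩ`. -/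
theorem dinv_pomega {p m : ℕ} (hp : p.Prime) (hp3 : 3 ≤ p) (hm : 5 ≤ m) (hA : DoubleInv p (alternatingGroup (Fin m)))
    {Q : (ι → F) → F} (φ : Perm (Fin m) →* Perm ι) (hφ : Function.Injective φ)
    (hQ : ∀ (σ : Perm (Fin m)) (u : ι → F), Q (fun i => u ((φ σ).symm i)) = Q u) : DoubleInv p (POmega F Q) := by
  let f : Perm (Fin m) →* isometryGroup F Q := (pmGL.comp φ).codRestrict (isometryGroup F Q) (fun σ => pmGL_mem (hQ σ))
  have hf : Function.Injective f := by
    intro σ τ h
    exact hφ (pm_injective (congrArg (fun g : isometryGroup F Q => ((g : Matrix.GeneralLinearGroup ι F) : Matrix ι ι F)) h))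
  have hmem : ∀ a : alternatingGroup (Fin m), f (a : Perm (Fin m)) ∈ Omega F Q := by
    intro a
    have h1 : (a : Perm (Fin m)) ∈ commutator (Perm (Fin m)) := by
      rw [alternatingGroup.commutator_perm_eq (by simpa using hm)]
      exact a.2
    have h2 : (commutator (Perm (Fin m))).map f ≤ commutator (isometryGroup F Q) := by
      rw [commutator_def, Subgroup.map_commutator]
      exact Subgroup.commutator_mono le_top le_top
    exact h2 (Subgroup.mem_map_of_mem f h1)
  refine DoubleInv.quot hp hp3 hA ((f.comp (alternatingGroup (Fin m)).subtype).codRestrict (Omega F Q) hmem) ?_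
  intro a b h
  exact Subtype.ext (hf (congrArg Subtype.val h))

/-- The degree bound for `PΩ`. -/
theorem bound_pomega {p n : ℕ} {G : Type u} [Group G] [Finite G] (h : Pearly p n G) [Fintype F] (hF : (p : F) ≠ 0)
    {Q : QuadraticForm F (ι → F)} (hQ : (QuadraticMap.polarBilin Q).Nondegenerate)
    (hn : 3 ≤ Fintype.card ι) (hs : ∃ u : ι → F, u ≠ 0 ∧ Q u = 0) (e : G ≃* POmega F (⇑Q)) :
    p ^ 2 * (p - 1) ≤ Fintype.card ι := by
  have h2 := h.odd
  exact bound h ((Units.coeHom (Matrix ι ι F)).comp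
      ((isometryGroup F (⇑Q)).subtype.comp (Omega F (⇑Q)).subtype))
    (Units.val_injective.comp ((isometryGroup F (⇑Q)).subtype_injective.comp (Omega F (⇑Q)).subtype_injective))
    (H518.SU.not_dvd_center_omega hQ hn hs h.prime (by omega)) e hF

omit [Fintype ι] [DecidableEq ι] in
theorem nondeg {Q : QuadraticForm F (ι → F)} (hQ : LieClassical.OrthCore.Nondeg Q) :
    (QuadraticMap.polarBilin Q).Nondegenerate := by
  refine ⟨fun x hx => hQ x hx, fun x hx => hQ x fun y => ?_⟩
  rw [QuadraticMap.polar_comm]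
  exact hx y

end

section
variable {F : Type} [Field F] {m : ℕ}

open LieClassical.OrthForms

/-- **Plus type**. -/
theorem pomega_plus {p n : ℕ} {G : Type u} [Group G] [Finite G] (h : Pearly p n G)
    (hA : ∀ m, 2 * p + 2 ≤ m → DoubleInv p (alternatingGroup (Fin m))) [Fintype F] (hF : (p : F) ≠ 0)
    (hm : 2 ≤ m) (e : G ≃* POmega F (quadFormPlus m F)) : False := by
  have h3 := h.odd
  have hb : p ^ 2 * (p - 1) ≤ Fintype.card (Fin m ⊕ Fin m) := by
    have e' : G ≃* POmega F (⇑(plusForm m F)) := by rw [coe_plusForm]; exact e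
    refine bound_pomega h hF (nondeg (nondeg_plusForm m F)) (by simp; omega)
      ⟨Pi.single (Sum.inl ⟨0, by omega⟩) 1, by simp, ?_⟩ e'
    rw [coe_plusForm]
    simp [quadFormPlus]
  rw [Fintype.card_sum, Fintype.card_fin] at hb
  have hm2 : 2 * p + 2 ≤ m := arith (k := 0) h.odd (by omega) (by omega)
  refine h.dinv ((dinv_pomega h.prime h.odd (by omega) (hA m hm2) (spPerm m) spPerm_injective ?_).congr e.symm)
  intro σ u
  exact Equiv.sum_comp σ.symm (fun i => u (Sum.inl i) * u (Sum.inr i))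

/-- The action of permutations on the frame. -/
def oddPerm (m : ℕ) : Perm (Fin m) →* Perm (Unit ⊕ (Fin m ⊕ Fin m)) where
  toFun σ := Equiv.sumCongr (Equiv.refl _) (Equiv.sumCongr σ σ)
  map_one' := by ext (i | i | i) <;> rfl
  map_mul' σ τ := by ext (i | i | i) <;> rfl

theorem oddPerm_injective : Function.Injective (oddPerm m) := by
  intro σ τ h
  ext i
  have h1 := congrArg (fun g : Perm (Unit ⊕ (Fin m ⊕ Fin m)) => g (Sum.inr (Sum.inl i))) h
  have h2 : (Sum.inr (Sum.inl (σ i)) : Unit ⊕ (Fin m ⊕ Fin m)) = Sum.inr (Sum.inl (τ i)) := h1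
  rw [Sum.inl.inj (Sum.inr.inj h2)]

/-- **Odd dimension**. -/
theorem pomega_odd {p n : ℕ} {G : Type u} [Group G] [Finite G] (h : Pearly p n G)
    (hA : ∀ m, 2 * p + 2 ≤ m → DoubleInv p (alternatingGroup (Fin m))) [Fintype F] (hF : (p : F) ≠ 0)
    (h2 : (2 : F) ≠ 0) (hm : 1 ≤ m) (e : G ≃* POmega F (quadFormOdd m F)) : False := by
  have h3 := h.odd
  have hb : p ^ 2 * (p - 1) ≤ Fintype.card (Unit ⊕ (Fin m ⊕ Fin m)) := by
    have e' : G ≃* POmega F (⇑(oddForm m F)) := by rw [coe_oddForm]; exact e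
    refine bound_pomega h hF (nondeg (nondeg_oddForm m F h2)) (by simp; omega)
      ⟨Pi.single (Sum.inr (Sum.inl ⟨0, by omega⟩)) 1, by simp, ?_⟩ e'
    rw [coe_oddForm]
    simp [quadFormOdd]
  rw [Fintype.card_sum, Fintype.card_sum, Fintype.card_fin, Fintype.card_unit] at hb
  have hm2 : 2 * p + 2 ≤ m := arith (k := 1) h.odd (by omega) (by omega)
  refine h.dinv ((dinv_pomega h.prime h.odd (by omega) (hA m hm2) (oddPerm m) oddPerm_injective ?_).congr e.symm)
  intro σ u
  change u (Sum.inl ()) ^ 2 + _ = u (Sum.inl ()) ^ 2 + _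
  congr 1
  exact Equiv.sum_comp σ.symm (fun i => u (Sum.inr (Sum.inl i)) * u (Sum.inr (Sum.inr i)))

/-- The action of permutations on the frame. -/
def minusPerm (m : ℕ) : Perm (Fin m) →* Perm ((Fin m ⊕ Fin m) ⊕ Fin 2) where
  toFun σ := Equiv.sumCongr (Equiv.sumCongr σ σ) (Equiv.refl _)
  map_one' := by ext ((i | i) | i) <;> rfl
  map_mul' σ τ := by ext ((i | i) | i) <;> rfl

theorem minusPerm_injective : Function.Injective (minusPerm m) := by
  intro σ τ h
  ext i
  have h1 := congrArg (fun g : Perm ((Fin m ⊕ Fin m) ⊕ Fin 2) => g (Sum.inl (Sum.inl i))) h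
  have h2 : (Sum.inl (Sum.inl (σ i)) : (Fin m ⊕ Fin m) ⊕ Fin 2) = Sum.inl (Sum.inl (τ i)) := h1
  rw [Sum.inl.inj (Sum.inl.inj h2)]

/-- **Minus type**. -/
theorem pomega_minus {p n : ℕ} {G : Type u} [Group G] [Finite G] (h : Pearly p n G)
    (hA : ∀ m, 2 * p + 2 ≤ m → DoubleInv p (alternatingGroup (Fin m))) [Fintype F] (hF : (p : F) ≠ 0)
    (hm : 1 ≤ m) {a b : F} (hab : ∀ z₁ z₂ : F, z₁ ^ 2 + a * z₁ * z₂ + b * z₂ ^ 2 = 0 → z₁ = 0 ∧ z₂ = 0)
    (e : G ≃* POmega F (quadFormMinus m F a b)) : False := by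
  have h3 := h.odd
  have hb : p ^ 2 * (p - 1) ≤ Fintype.card ((Fin m ⊕ Fin m) ⊕ Fin 2) := by
    have e' : G ≃* POmega F (⇑(minusForm m F a b)) := by rw [coe_minusForm]; exact e
    refine bound_pomega h hF (nondeg (nondeg_minusForm m F a b hab)) (by simp; omega)
      ⟨Pi.single (Sum.inl (Sum.inl ⟨0, by omega⟩)) 1, by simp, ?_⟩ e'
    rw [coe_minusForm]
    simp [quadFormMinus]
  rw [Fintype.card_sum, Fintype.card_sum, Fintype.card_fin, Fintype.card_fin] at hb
  have hm2 : 2 * p + 2 ≤ m := arith (k := 2) h.odd (by omega) (by omega)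
  refine h.dinv ((dinv_pomega h.prime h.odd (by omega) (hA m hm2) (minusPerm m) minusPerm_injective ?_).congr e.symm)
  intro σ u
  change _ + _ = _ + _
  congr 1
  exact Equiv.sum_comp σ.symm (fun i => u (Sum.inl (Sum.inl i)) * u (Sum.inl (Sum.inr i)))

end

end Cfsg.Agent.H748.ExoSPO
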