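import Cfsg.Agent.H748.PalfyBase

/-!
# Palfy's three primes theorem: the case of a minimal normal `t'`-subgroup (helper748)
-/

set_option autoImplicit false

namespace Cfsg.Agent.H748.Palfy

open Cfsg Cfsg.Agent.Characters.Core Cfsg.Agent.OddOrderCharacters.IndRes
  Cfsg.Agent.OddOrderCharacters.NormalInduced Cfsg.Agent.OddOrderCharacters.PF9.CliffGen
  Cfsg.Agent.H681.DegBasic

universe u

/-- a solvable group with degrees divisible by `t`, `a`, `b`, pairwise not adjacent -/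
structure Ctx (G : Type u) [Group G] (t a b : ℕ) : Prop where
  solv : Group.IsSolvable G
  dt : ∃ d ∈ charDegrees G, t ∣ d
  da : ∃ d ∈ charDegrees G, a ∣ d
  db : ∃ d ∈ charDegrees G, b ∣ d
  ta : ∀ d ∈ charDegrees G, t ∣ d → ¬ a ∣ d
  tb : ∀ d ∈ charDegrees G, t ∣ d → ¬ b ∣ d
  ab : ∀ d ∈ charDegrees G, a ∣ d → ¬ b ∣ d

theorem Ctx.swap {G : Type u} [Group G] {t a b : ℕ} (c : Ctx G t a b) : Ctx G t b a :=
  ⟨c.solv, c.dt, c.db, c.da, c.tb, c.ta, fun d hd hb ha => c.ab d hd ha hb⟩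

section

variable {G : Type u} [Group G] [Finite G]

/-- Itô's theorem -/
theorem dvd_index {M : Subgroup G} (hMn : M.Normal) (hM : ∀ x ∈ M, ∀ y ∈ M, x * y = y * x) {d : ℕ}
    (hd : d ∈ charDegrees G) : d ∣ M.index := by
  obtain ⟨χ, ⟨m, ρ, hρ, rfl⟩, h⟩ := mem_charDegrees.1 hd
  rw [Representation.char_one] at h
  have h' : Module.finrank ℂ (Fin m → ℂ) = d := by exact_mod_cast h
  rw [← h']
  exact S0169.result ρ M hM

theorem false_of_abelian {M : Subgroup G} (hMn : M.Normal) (hM : ∀ x ∈ M, ∀ y ∈ M, x * y = y * x) {p : ℕ}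
    (hp : ¬ p ∣ M.index) (hd : ∃ d ∈ charDegrees G, p ∣ d) : False := by
  obtain ⟨d, hd, hpd⟩ := hd
  exact hp (hpd.trans (dvd_index hMn hM hd))

theorem false_of_sylow {p : ℕ} [Fact p.Prime] (P : Sylow p G) (hPn : (P : Subgroup G).Normal)
    (hP : ∀ x ∈ (P : Subgroup G), ∀ y ∈ (P : Subgroup G), x * y = y * x)
    (hd : ∃ d ∈ charDegrees G, p ∣ d) : False :=
  false_of_abelian hPn hP P.not_dvd_index hd

/-- a normal abelian Sylow subgroup of the complement which centralises the abelian normal subgroup -/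
theorem false_of_central {N H : Subgroup G} [hNn : N.Normal] (hN : ∀ x ∈ N, ∀ y ∈ N, x * y = y * x)
    (hNH : N ⊓ H = ⊥) (hNH' : N ⊔ H = ⊤) {p : ℕ} [hp : Fact p.Prime] (A : Sylow p ↥H)
    (hAn : (A : Subgroup H).Normal) (hAc : IsMulCommutative ↥(A : Subgroup H))
    (hAN : ∀ x ∈ (A : Subgroup H), ∀ n ∈ N, (x : G) * n = n * x)
    (hd : ∃ d ∈ charDegrees G, p ∣ d) : False := by
  let B : Subgroup G := (A : Subgroup H).map H.subtype
  have hBH : B ≤ H := Subgroup.map_subtype_le _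
  have hmem : ∀ x ∈ B, ∃ hx : x ∈ H, (⟨x, hx⟩ : H) ∈ (A : Subgroup H) := by
    rintro x ⟨y, hy, rfl⟩
    exact ⟨y.2, hy⟩
  have hBN : ∀ x ∈ B, ∀ n ∈ N, x * n = n * x := by
    intro x hx n hn
    obtain ⟨h1, h2⟩ := hmem x hx
    exact hAN _ h2 n hn
  have hBc : ∀ x ∈ B, ∀ y ∈ B, x * y = y * x := by
    intro x hx y hy
    obtain ⟨h1, h2⟩ := hmem x hx
    obtain ⟨h3, h4⟩ := hmem y hy
    have := hAc.is_comm.comm (⟨⟨x, h1⟩, h2⟩ : (A : Subgroup H)) ⟨⟨y, h3⟩, h4⟩
    exact congrArg (fun z : (A : Subgroup H) => ((z : H) : G)) this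
  have hBn : B.Normal := by
    constructor
    intro x hx g
    have hg : g ∈ H ⊔ N := by rw [sup_comm, hNH']; trivial
    obtain ⟨h, hh, n, hn, rfl⟩ := Subgroup.mem_sup_of_normal_right.1 hg
    have h1 : h * n * x * (h * n)⁻¹ = h * x * h⁻¹ := by
      have : n * x = x * n := (hBN x hx n hn).symm
      calc h * n * x * (h * n)⁻¹ = h * (n * x) * n⁻¹ * h⁻¹ := by group
        _ = h * x * h⁻¹ := by rw [this]; group
    rw [h1]
    obtain ⟨h2, h3⟩ := hmem x hx
    exact ⟨_, hAn.conj_mem _ h3 ⟨h, hh⟩, rfl⟩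
  have hMc : ∀ x ∈ N ⊔ B, ∀ y ∈ N ⊔ B, x * y = y * x := by
    intro x hx y hy
    obtain ⟨n, hn, z, hz, rfl⟩ := Subgroup.mem_sup_of_normal_left.1 hx
    obtain ⟨n', hn', z', hz', rfl⟩ := Subgroup.mem_sup_of_normal_left.1 hy
    have e1 : Commute n n' := hN n hn n' hn'
    have e2 : Commute z z' := hBc z hz z' hz'
    have e3 : Commute z n' := hBN z hz n' hn'
    have e4 : Commute n z' := (hBN z' hz' n hn).symm
    exact ((e1.mul_left e3).mul_right (e4.mul_left e2)).eq
  have hMn : (N ⊔ B).Normal := Subgroup.sup_normal N B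
  refine false_of_abelian hMn hMc (p := p) ?_ hd
  rw [index_eq (M := N) hNH hNH' le_sup_left]
  intro hdvd
  have h1 : ((N ⊔ B) ⊓ H).relIndex H ∣ B.relIndex H :=
    Subgroup.relIndex_dvd_of_le_left H (le_inf le_sup_right hBH)
  have h2 : B.relIndex H = (A : Subgroup H).index := by
    change (B.subgroupOf H).index = _
    rw [show B.subgroupOf H = (A : Subgroup H) from Subgroup.comap_map_eq_self_of_injective H.subtype_injective _]
  rw [h2] at h1
  exact A.not_dvd_index (hdvd.trans h1)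

/-- if the stabilisers of the nonprincipal linear characters of `N` contain exactly one Sylow `p`-subgroup of `H` and
all Sylow `p`-subgroups of `H` act trivially then the Sylow `p`-subgroup is normal -/
theorem normal_of_trivial {N H : Subgroup G} [hNn : N.Normal] (hN : ∀ x ∈ N, ∀ y ∈ N, x * y = y * x)
    (hN1 : N ≠ ⊥) {p : ℕ} [Fact p.Prime]
    (hu : letI := linAct N H
      Cfsg.Agent.H273.Palfy.UniqueSylow p ↥H (↥N →* ℂˣ))
    (htr : letI := linAct N H
      ¬ ∃ A : Sylow p H, ∃ h ∈ (A : Subgroup H), ∃ v : ↥N →* ℂˣ, h • v ≠ v) (A : Sylow p ↥H) :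
    (A : Subgroup H).Normal ∧ IsMulCommutative ↥(A : Subgroup H) ∧
      ∀ x ∈ (A : Subgroup H), ∀ n ∈ N, (x : G) * n = n * x := by
  let _ := linAct N H
  push Not at htr
  obtain ⟨l, hl⟩ : ∃ l : ↥N →* ℂˣ, l ≠ 1 := by
    by_contra hcon
    push Not at hcon
    apply hN1
    rw [eq_bot_iff]
    intro n hn
    have := eq_one_of_lin hN ⟨n, hn⟩ (fun l => by rw [hcon l]; rfl)
    exact congrArg Subtype.val this
  obtain ⟨A', h1, h2, h3⟩ := hu l hl
  have hA : ∀ B : Sylow p H, B = A' := fun B => h3 B fun h hh => htr B h hh l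
  have hAA : A = A' := hA A
  refine ⟨?_, hAA ▸ h1, ?_⟩
  · rw [← Subgroup.normalizer_eq_top_iff, Sylow.coe_coe, ← Sylow.stabilizer_eq_normalizer, eq_top_iff]
    intro g _
    rw [MulAction.mem_stabilizer_iff, hA (g • A), hAA]
  · intro x hx n hn
    refine comm_of_lin (H := H) hN (x : G) (fun l n => ?_) n hn
    have h4 := (smul_eq_iff N H x l).1 (htr A x hx l)
    have h5 := (mem_stab.1 h4).2 n
    exact Units.ext h5

/-- the case of a minimal normal subgroup of order prime to `t` -/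
theorem caseA (hKP : Cfsg.Agent.H273.Palfy.KP.{u, u}) {t a b : ℕ} [ht : Fact t.Prime] [ha : Fact a.Prime] [hb : Fact b.Prime]
    (hab : a ≠ b) (c : Ctx G t a b) (N : Subgroup G) [hNn : N.Normal]
    (hN : ∀ x ∈ N, ∀ y ∈ N, x * y = y * x) (hN1 : N ≠ ⊥) (hmin : ∀ K : Subgroup G, K.Normal → K ≤ N → K = ⊥ ∨ K = N)
    {ℓ : ℕ} [hℓ : Fact ℓ.Prime] (hNℓ : ∀ x ∈ N, x ^ ℓ = 1) (htN : ¬ t ∣ Nat.card N)
    (hq : ∀ d ∈ charDegrees (G ⧸ N), ¬ t ∣ d) : False := by
  classical
  have hsolv := c.solv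
  let P : Sylow t G := default
  have hQ := ito_michler (X := G ⧸ N) inferInstance hq (P.mapSurjective (QuotientGroup.mk'_surjective N))
  have hQn : ((P : Subgroup G).map (QuotientGroup.mk' N)).Normal := hQ.1
  have hPNn : ((P : Subgroup G) ⊔ N).Normal := by
    have := hQn.comap (QuotientGroup.mk' N)
    rwa [Subgroup.comap_map_eq, QuotientGroup.ker_mk'] at this
  have hPcN : ∀ x ∈ (P : Subgroup G), ∀ y ∈ (P : Subgroup G), x * y * x⁻¹ * y⁻¹ ∈ N := by
    intro x hx y hy
    have h1 := hQ.2 (QuotientGroup.mk' N x) ⟨x, hx, rfl⟩ (QuotientGroup.mk' N y) ⟨y, hy, rfl⟩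
    rw [← QuotientGroup.ker_mk' N, MonoidHom.mem_ker]
    rw [map_mul, map_mul, map_mul, map_inv, map_inv, h1]
    group
  have hPN : N ⊓ (P : Subgroup G) = ⊥ := by
    apply disjoint_iff.1
    apply Subgroup.disjoint_of_coprime_natCard
    obtain ⟨n, hn⟩ := IsPGroup.iff_card.1 P.isPGroup'
    have h3 : Nat.card (P : Subgroup G) = t ^ n := hn
    rw [h3]
    exact ((Nat.Prime.coprime_iff_not_dvd ht.out).2 htN).symm.pow_right n
  have hPc : ∀ x ∈ (P : Subgroup G), ∀ y ∈ (P : Subgroup G), x * y = y * x := by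
    intro x hx y hy
    have h1 : x * y * x⁻¹ * y⁻¹ ∈ N ⊓ (P : Subgroup G) :=
      Subgroup.mem_inf.2 ⟨hPcN x hx y hy, (P : Subgroup G).mul_mem ((P : Subgroup G).mul_mem
        ((P : Subgroup G).mul_mem hx hy) ((P : Subgroup G).inv_mem hx)) ((P : Subgroup G).inv_mem hy)⟩
    rw [hPN, Subgroup.mem_bot] at h1
    have h2 : x * y = (x * y * x⁻¹ * y⁻¹) * (y * x) := by group
    rw [h2, h1, one_mul]
  set H : Subgroup G := Subgroup.normalizer ((P : Subgroup G) : Set G) with hH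
  have hPH : (P : Subgroup G) ≤ H := Subgroup.le_normalizer
  have hNH' : N ⊔ H = ⊤ := by
    have h1 := Sylow.normalizer_sup_eq_top' (N := (P : Subgroup G) ⊔ N) P le_sup_left
    rw [← sup_assoc, sup_eq_left.2 (show (P : Subgroup G) ≤ Subgroup.normalizer (P : Set G) from hPH)] at h1
    rw [sup_comm]
    exact h1
  -- the centralizer of `P` in `N`
  have hconjH : ∀ h ∈ H, ∀ x ∈ (P : Subgroup G), h * x * h⁻¹ ∈ (P : Subgroup G) := by
    intro h hh x hx
    exact (Subgroup.mem_normalizer_iff.1 hh x).1 hx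
  have hcomP : ∀ h ∈ H, ∀ n ∈ N, h * n * h⁻¹ ∈ N := fun h _ n hn => hNn.conj_mem n hn h
  have hCn : (N ⊓ Subgroup.centralizer ((P : Subgroup G) : Set G)).Normal := by
    constructor
    rintro x ⟨hxN, hxC⟩ g
    have hg : g ∈ H ⊔ N := by rw [sup_comm, hNH']; trivial
    obtain ⟨h, hh, n, hn, rfl⟩ := Subgroup.mem_sup_of_normal_right.1 hg
    have h1 : h * n * x * (h * n)⁻¹ = h * x * h⁻¹ := by
      have : n * x = x * n := hN n hn x hxN
      calc h * n * x * (h * n)⁻¹ = h * (n * x) * n⁻¹ * h⁻¹ := by group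
        _ = h * x * h⁻¹ := by rw [this]; group
    rw [h1]
    refine Subgroup.mem_inf.2 ⟨hNn.conj_mem x hxN h, ?_⟩
    rw [Subgroup.mem_centralizer_iff]
    intro y hy
    have hy' : h⁻¹ * y * h ∈ (P : Subgroup G) := by
      have := hconjH h⁻¹ (inv_mem hh) y hy
      rwa [inv_inv] at this
    have h2 := Subgroup.mem_centralizer_iff.1 hxC _ hy'
    calc y * (h * x * h⁻¹) = h * ((h⁻¹ * y * h) * x) * h⁻¹ := by group
      _ = h * (x * (h⁻¹ * y * h)) * h⁻¹ := by rw [h2]
      _ = h * x * h⁻¹ * y := by group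
  have hCbot : N ⊓ Subgroup.centralizer ((P : Subgroup G) : Set G) = ⊥ := by
    rcases hmin _ hCn inf_le_left with h | h
    · exact h
    · exfalso
      have hNC : N ≤ Subgroup.centralizer ((P : Subgroup G) : Set G) := inf_eq_left.1 h
      have hNleH : N ≤ H := hNC.trans (Subgroup.centralizer_le_normalizer _)
      have hHtop : H = ⊤ := by rw [← hNH', sup_eq_right.2 hNleH]
      have hPn : (P : Subgroup G).Normal := Subgroup.normalizer_eq_top_iff.1 hHtop
      exact false_of_sylow P hPn hPc c.dt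
  have hNH : N ⊓ H = ⊥ := by
    rw [eq_bot_iff, ← hCbot]
    rintro x ⟨hxN, hxH⟩
    refine Subgroup.mem_inf.2 ⟨hxN, ?_⟩
    rw [Subgroup.mem_centralizer_iff]
    intro y hy
    have h1 : x * y * x⁻¹ * y⁻¹ ∈ N ⊓ (P : Subgroup G) := by
      refine Subgroup.mem_inf.2 ⟨?_, (P : Subgroup G).mul_mem (hconjH x hxH y hy) ((P : Subgroup G).inv_mem hy)⟩
      have : x * y * x⁻¹ * y⁻¹ = x * (y * x⁻¹ * y⁻¹) := by group
      rw [this]
      exact mul_mem hxN (hNn.conj_mem _ (inv_mem hxN) y)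
    rw [hPN, Subgroup.mem_bot] at h1
    have h2 : x * y = (x * y * x⁻¹ * y⁻¹) * (y * x) := by group
    rw [h2, h1, one_mul]
  -- `[N, P] = N`
  have hcomm : ∀ l : ↥N →* ℂˣ, (∀ x ∈ (P : Subgroup G), ∀ n : N, l ⟨x * n * x⁻¹, hNn.conj_mem n n.2 x⟩ = l n) → l = 1 := by
    intro l hl
    -- the kernel-like subgroup
    let K : Subgroup G := Subgroup.closure {y | ∃ x ∈ (P : Subgroup G), ∃ n ∈ N, y = x * n * x⁻¹ * n⁻¹}
    have hKN : K ≤ N := by
      rw [Subgroup.closure_le]
      rintro y ⟨x, hx, n, hn, rfl⟩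
      exact mul_mem (hNn.conj_mem n hn x) (inv_mem hn)
    have hKn : K.Normal := by
      constructor
      intro y hy g
      have hg : g ∈ H ⊔ N := by rw [sup_comm, hNH']; trivial
      obtain ⟨h, hh, n, hn, rfl⟩ := Subgroup.mem_sup_of_normal_right.1 hg
      have h1 : h * n * y * (h * n)⁻¹ = h * y * h⁻¹ := by
        have : n * y = y * n := hN n hn y (hKN hy)
        calc h * n * y * (h * n)⁻¹ = h * (n * y) * n⁻¹ * h⁻¹ := by group
          _ = h * y * h⁻¹ := by rw [this]; group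
      rw [h1]
      have h2 : K ≤ K.comap (MulAut.conj h).toMonoidHom := by
        rw [Subgroup.closure_le]
        rintro z ⟨x, hx, m, hm, rfl⟩
        apply Subgroup.subset_closure
        refine ⟨h * x * h⁻¹, hconjH h hh x hx, h * m * h⁻¹, hNn.conj_mem m hm h, ?_⟩
        change h * (x * m * x⁻¹ * m⁻¹) * h⁻¹ = _
        group
      exact h2 hy
    rcases hmin K hKn hKN with h | h
    · exfalso
      have hle : N ≤ N ⊓ Subgroup.centralizer ((P : Subgroup G) : Set G) := by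
        intro n hn
        refine Subgroup.mem_inf.2 ⟨hn, ?_⟩
        rw [Subgroup.mem_centralizer_iff]
        intro x hx
        have h1 : x * n * x⁻¹ * n⁻¹ ∈ K := Subgroup.subset_closure ⟨x, hx, n, hn, rfl⟩
        rw [h, Subgroup.mem_bot] at h1
        have h2 : x * n = (x * n * x⁻¹ * n⁻¹) * (n * x) := by group
        rw [h2, h1, one_mul]
      rw [hCbot] at hle
      exact hN1 (le_bot_iff.1 hle)
    · have h3 : K ≤ (l.ker).map N.subtype := by
        rw [Subgroup.closure_le]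
        rintro y ⟨x, hx, n, hn, rfl⟩
        refine ⟨⟨x * n * x⁻¹, hNn.conj_mem n hn x⟩ * (⟨n, hn⟩ : N)⁻¹, ?_, rfl⟩
        rw [SetLike.mem_coe, MonoidHom.mem_ker, map_mul, hl x hx ⟨n, hn⟩, map_inv, mul_inv_cancel]
      rw [h] at h3
      ext n
      obtain ⟨m, hm, hmn⟩ := h3 n.2
      have : m = n := Subtype.ext hmn
      rw [← this, (MonoidHom.mem_ker).1 hm]
      rfl
  -- `t` divides the index of the stabilisers
  have hidx : ∀ l : ↥N →* ℂˣ, l ≠ 1 → t ∣ (stab N H (fun n => (l n : ℂ))).relIndex H := by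
    intro l hl
    by_contra hnd
    apply hl
    apply hcomm
    -- the stabiliser contains the normal Sylow subgroup
    have hPHn : ((P.subtype hPH : Sylow t H) : Subgroup H).Normal := by
      rw [Sylow.coe_subtype]
      exact Subgroup.normal_in_normalizer
    have := Sylow.unique_of_normal _ hPHn
    have hfi : ¬ t ∣ ((stab N H (fun n => (l n : ℂ))).subgroupOf H).index := hnd
    obtain ⟨R, hR⟩ : ∃ R : Sylow t H, (R : Subgroup H) ≤ (stab N H (fun n => (l n : ℂ))).subgroupOf H := by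
      let R0 : Sylow t ↥((stab N H (fun n => (l n : ℂ))).subgroupOf H) := default
      have hcard : Nat.card ((R0 : Subgroup _).map ((stab N H (fun n => (l n : ℂ))).subgroupOf H).subtype) =
          t ^ (Nat.card H).factorization t := by
        rw [Subgroup.card_map_of_injective (Subgroup.subtype_injective _), R0.card_eq_multiplicity]
        have h1 : (Nat.card H).factorization t = (Nat.card ((stab N H (fun n => (l n : ℂ))).subgroupOf H)).factorization t := by
          rw [← ((stab N H (fun n => (l n : ℂ))).subgroupOf H).card_mul_index,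
            Nat.factorization_mul Nat.card_pos.ne' (Subgroup.index_ne_zero_of_finite), Finsupp.add_apply,
            Nat.factorization_eq_zero_of_not_dvd hfi, add_zero]
        rw [h1]
      refine ⟨Sylow.ofCard _ hcard, ?_⟩
      rw [Sylow.coe_ofCard]
      exact Subgroup.map_subtype_le _
    have hRP : R = P.subtype hPH := Subsingleton.elim _ _
    intro x hx n
    have h1 : (⟨x, hPH hx⟩ : H) ∈ (R : Subgroup H) := by
      rw [hRP, Sylow.coe_subtype, Subgroup.mem_subgroupOf]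
      exact hx
    have h2 := (mem_stab.1 (Subgroup.mem_subgroupOf.1 (hR h1))).2 n
    exact Units.ext h2
  have huA : ∀ (p : ℕ), (∀ d ∈ charDegrees G, t ∣ d → ¬ p ∣ d) → ∀ l : ↥N →* ℂˣ, l ≠ 1 →
      ∀ b ∈ charDegrees ↥(stab N H (fun n => (l n : ℂ))), ¬ p ∣ (stab N H (fun n => (l n : ℂ))).relIndex H * b := by
    intro p hp l hl b hb
    exact hp _ (degree_linear hNH hNH' l hb) (dvd_mul_of_dvd_left (hidx l hl) _)
  have uA := uniqueSylow_of hsolv N H (p := a) (huA a c.ta)
  have uB := uniqueSylow_of hsolv N H (p := b) (huA b c.tb)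
  have nA : letI := linAct N H
      ∃ A : Sylow a H, ∃ h ∈ (A : Subgroup H), ∃ v : ↥N →* ℂˣ, h • v ≠ v := by
    by_contra hcon
    have h1 := normal_of_trivial hN hN1 uA hcon default
    exact false_of_central hN hNH hNH' default h1.1 h1.2.1 h1.2.2 c.da
  have nB : letI := linAct N H
      ∃ A : Sylow b H, ∃ h ∈ (A : Subgroup H), ∃ v : ↥N →* ℂˣ, h • v ≠ v := by
    by_contra hcon
    have h1 := normal_of_trivial hN hN1 uB hcon default
    exact false_of_central hN hNH hNH' default h1.1 h1.2.1 h1.2.2 c.db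
  have hfin : Finite (↥N →* ℂˣ) := Nat.finite_of_card_ne_zero (by rw [card_lin hN]; exact Nat.card_pos.ne')
  have hnt : Nontrivial (↥N →* ℂˣ) := by
    rw [← Finite.one_lt_card_iff_nontrivial, card_lin hN]
    exact (Subgroup.one_lt_card_iff_ne_bot N).2 hN1
  let _ := linAct N H
  obtain ⟨χ, hχ⟩ := hKP ↥H (↥N →* ℂˣ) a b ℓ inferInstance hab (fun v => by
      ext n
      have h1 : n ^ ℓ = 1 := Subtype.ext (hNℓ n n.2)
      rw [MonoidHom.pow_apply, ← map_pow, h1, map_one]
      rfl) (lin_irr (Or.inl hNH') hN hmin) uA uB nA nB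
  have h1 : charDegree (χ : ↥H → ℂ) ∈ charDegrees G := degree_compl hNH hNH' ⟨χ, rfl⟩
  exact c.ab _ h1 ((dvd_mul_right a b).trans hχ) ((dvd_mul_left b a).trans hχ)

end

end Cfsg.Agent.H748.Palfy
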