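import Cfsg.Agent.H748.PalfyA
import Cfsg.Agent.Lib.CoprimeStab

/-!
# Palfy's three primes theorem: the case of a minimal normal `t`-subgroup (helper748)
-/

set_option autoImplicit false

namespace Cfsg.Agent.H748.Palfy

open Cfsg Cfsg.Agent.Characters.Core Cfsg.Agent.OddOrderCharacters.IndRes
  Cfsg.Agent.OddOrderCharacters.NormalInduced Cfsg.Agent.OddOrderCharacters.PF9.CliffGen
  Cfsg.Agent.H681.DegBasic

universe u

/-! ### Linear characters separate elements -/

theorem exists_lin {P : Type u} [Group P] [Finite P] (K : Subgroup P) [hKn : K.Normal]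
    (hK : ∀ x y, x * y * x⁻¹ * y⁻¹ ∈ K) {y : P} (hy : y ∉ K) : ∃ μ : P →* ℂˣ, μ y ≠ 1 ∧ ∀ k ∈ K, μ k = 1 := by
  let _ : CommGroup (P ⧸ K) :=
    { (inferInstance : Group (P ⧸ K)) with
      mul_comm := by
        intro a b
        obtain ⟨a, rfl⟩ := QuotientGroup.mk_surjective a
        obtain ⟨b, rfl⟩ := QuotientGroup.mk_surjective b
        change ((a * b : P) : P ⧸ K) = ((b * a : P) : P ⧸ K)
        rw [QuotientGroup.eq]
        have h1 := hK b⁻¹ a⁻¹
        have h2 : (a * b)⁻¹ * (b * a) = b⁻¹ * a⁻¹ * b⁻¹⁻¹ * a⁻¹⁻¹ := by group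
        rw [h2]
        exact h1 }
  have hne : (y : P ⧸ K) ≠ 1 := fun h => hy ((QuotientGroup.eq_one_iff y).1 h)
  obtain ⟨φ, hφ⟩ := CommGroup.exists_apply_ne_one_of_hasEnoughRootsOfUnity (P ⧸ K) ℂ hne
  refine ⟨φ.comp (QuotientGroup.mk' K), hφ, fun k hk => ?_⟩
  change φ (QuotientGroup.mk' K k) = 1
  rw [show QuotientGroup.mk' K k = 1 from (QuotientGroup.eq_one_iff k).2 hk, map_one]

/-- the number of linear characters trivial on `K` is at least the index -/
theorem index_le_card {P : Type u} [Group P] [Finite P] (K : Subgroup P) [hKn : K.Normal]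
    (hK : ∀ x y, x * y * x⁻¹ * y⁻¹ ∈ K) [Finite (P →* ℂˣ)] :
    K.index ≤ Nat.card {μ : P →* ℂˣ // ∀ k ∈ K, μ k = 1} := by
  let _ : CommGroup (P ⧸ K) :=
    { (inferInstance : Group (P ⧸ K)) with
      mul_comm := by
        intro a b
        obtain ⟨a, rfl⟩ := QuotientGroup.mk_surjective a
        obtain ⟨b, rfl⟩ := QuotientGroup.mk_surjective b
        change ((a * b : P) : P ⧸ K) = ((b * a : P) : P ⧸ K)
        rw [QuotientGroup.eq]
        have h1 := hK b⁻¹ a⁻¹
        have h2 : (a * b)⁻¹ * (b * a) = b⁻¹ * a⁻¹ * b⁻¹⁻¹ * a⁻¹⁻¹ := by group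
        rw [h2]
        exact h1 }
  rw [Subgroup.index_eq_card, ← CommGroup.card_monoidHom_of_hasEnoughRootsOfUnity (P ⧸ K) ℂ]
  refine Nat.card_le_card_of_injective (fun φ : (P ⧸ K) →* ℂˣ => (⟨φ.comp (QuotientGroup.mk' K), fun k hk => by
    change φ (QuotientGroup.mk' K k) = 1
    rw [show QuotientGroup.mk' K k = 1 from (QuotientGroup.eq_one_iff k).2 hk, map_one]⟩ :
      {μ : P →* ℂˣ // ∀ k ∈ K, μ k = 1})) ?_
  intro φ ψ h
  have h1 := congrArg Subtype.val h
  ext x
  exact congrArg Units.val (DFunLike.congr_fun h1 x)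

/-! ### Scalars -/

theorem star_char {P : Type u} [Group P] [Finite P] {θ : P → ℂ} (hθ : IsIrrCharacter P θ) {y y' : P}
    (hy : ∀ x, θ (x * y * x⁻¹ * y⁻¹) = θ 1) (hy' : ∀ x, θ (x * y' * x⁻¹ * y'⁻¹) = θ 1) (heq : θ y' = θ y) :
    θ (y' * y⁻¹) = θ 1 := by
  obtain ⟨n, ρ, hρ, rfl⟩ := hθ
  have hpos := Characters.Central.finrank_pos_of_irr ρ hρ
  have key : ∀ z : P, (∀ x, ρ.character (x * z * x⁻¹ * z⁻¹) = ρ.character 1) →
      ∃ c : ℂ, ρ z = c • (1 : Module.End ℂ (Fin n → ℂ)) := by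
    intro z hz
    apply Characters.Central.exists_smul_of_comm ρ hρ
    intro x
    have h1 := hz x
    rw [Representation.char_one] at h1
    have h2 := (Characters.Values.character_eq_finrank_iff ρ _).1 h1
    have h3 : x * z = (x * z * x⁻¹ * z⁻¹) * (z * x) := by group
    rw [← map_mul, ← map_mul, h3, map_mul ρ (x * z * x⁻¹ * z⁻¹), h2]
    rfl
  obtain ⟨c, hc⟩ := key y hy
  obtain ⟨c', hc'⟩ := key y' hy'
  have htr : ∀ (z : P) (e : ℂ), ρ z = e • (1 : Module.End ℂ (Fin n → ℂ)) →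
      ρ.character z = e * Module.finrank ℂ (Fin n → ℂ) := by
    intro z e he
    change LinearMap.trace ℂ _ (ρ z) = _
    rw [he, map_smul, LinearMap.trace_one, smul_eq_mul]
  have hcc : c' = c := by
    rw [htr _ _ hc, htr _ _ hc'] at heq
    exact mul_right_cancel₀ (by exact_mod_cast hpos.ne') heq
  rw [Representation.char_one]
  apply (Characters.Values.character_eq_finrank_iff ρ _).2
  rw [map_mul, hc', hcc, ← hc, ← map_mul, mul_inv_cancel, map_one]
  rfl

/-! ### Counting -/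

/-- If every element of the `H`-stable set `S` is fixed by exactly one Sylow subgroup, then `|S|` is the number of
Sylow subgroups times the number of elements of `S` fixed by one of them. -/
theorem count {H : Type u} [Group H] [Finite H] {V : Type*} [MulAction H V] [Finite V] {p : ℕ} [Fact p.Prime]
    (S : Set V) (hS : ∀ (h : H), ∀ v ∈ S, h • v ∈ S)
    (hu : ∀ v ∈ S, ∃ A : Sylow p H, (∀ h ∈ (A : Subgroup H), h • v = v) ∧
      ∀ B : Sylow p H, (∀ h ∈ (B : Subgroup H), h • v = v) → B = A) (B : Sylow p H) :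
    Nat.card S = Nat.card (Sylow p H) * Nat.card {v : V // v ∈ S ∧ ∀ h ∈ (B : Subgroup H), h • v = v} := by
  classical
  choose! f hf1 hf2 using hu
  have e1 : S ≃ (Σ A : Sylow p H, {v : V // v ∈ S ∧ ∀ h ∈ (A : Subgroup H), h • v = v}) :=
    { toFun := fun v => ⟨f v, v, v.2, hf1 v v.2⟩
      invFun := fun x => ⟨x.2.1, x.2.2.1⟩
      left_inv := fun v => rfl
      right_inv := by
        rintro ⟨A, v, hv, hA⟩
        have : f v = A := (hf2 v hv A hA).symm
        subst this
        rfl }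
  have e2 : ∀ A : Sylow p H, Nat.card {v : V // v ∈ S ∧ ∀ h ∈ (A : Subgroup H), h • v = v} =
      Nat.card {v : V // v ∈ S ∧ ∀ h ∈ (B : Subgroup H), h • v = v} := by
    intro A
    obtain ⟨g, hg⟩ := MulAction.exists_smul_eq H B A
    refine (Nat.card_congr ?_).symm
    refine
      { toFun := fun v => ⟨g • v.1, hS g _ v.2.1, ?_⟩
        invFun := fun v => ⟨g⁻¹ • v.1, hS g⁻¹ _ v.2.1, ?_⟩
        left_inv := fun v => Subtype.ext (inv_smul_smul g _)
        right_inv := fun v => Subtype.ext (smul_inv_smul g _) }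
    · intro h hh
      rw [← hg] at hh
      have h1 : g⁻¹ * h * g ∈ (B : Subgroup H) := by
        rw [Sylow.coe_subgroup_smul, Subgroup.mem_pointwise_smul_iff_inv_smul_mem] at hh
        have : (MulAut.conj g)⁻¹ • h = g⁻¹ * h * g := by
          rw [← map_inv]
          change g⁻¹ * h * g⁻¹⁻¹ = _
          rw [inv_inv]
        rwa [this] at hh
      have h2 := v.2.2 _ h1
      have h3 : h • g • v.1 = g • ((g⁻¹ * h * g) • v.1) := by
        rw [smul_smul, smul_smul]
        congr 1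
        group
      rw [h3, h2]
    · intro h hh
      have h1 : g * h * g⁻¹ ∈ (A : Subgroup H) := by
        rw [← hg, Sylow.coe_subgroup_smul, Subgroup.mem_pointwise_smul_iff_inv_smul_mem]
        have : (MulAut.conj g)⁻¹ • (g * h * g⁻¹) = h := by
          rw [← map_inv]
          change g⁻¹ * (g * h * g⁻¹) * g⁻¹⁻¹ = _
          group
        rwa [this]
      have h2 := v.2.2 _ h1
      have h3 : h • g⁻¹ • v.1 = g⁻¹ • ((g * h * g⁻¹) • v.1) := by
        rw [smul_smul, smul_smul]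
        congr 1
        group
      rw [h3, h2]
  have : Fintype (Sylow p H) := Fintype.ofFinite _
  rw [Nat.card_congr e1, Nat.card_sigma]
  simp only [e2, Finset.sum_const, Finset.card_univ, smul_eq_mul, Nat.card_eq_fintype_card]

/-- arithmetic: `m` determines the powers -/
theorem pow_eq {t m i j k l : ℕ} (ht : t.Prime) (hm : 2 ≤ m) (hi : 1 ≤ i) (hk : 1 ≤ k)
    (h1 : t ^ i = m * (t ^ j - 1) + 1) (h2 : t ^ k = m * (t ^ l - 1) + 1) : t ^ i = t ^ k := by
  have key : ∀ {i j : ℕ}, 1 ≤ i → t ^ i = m * (t ^ j - 1) + 1 → t ^ j ∣ m - 1 ∧ ¬ t ^ (j + 1) ∣ m - 1 := by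
    intro i j hi h
    have ht2 := ht.two_le
    have hj : 1 ≤ j := by
      rcases Nat.eq_zero_or_pos j with h0 | h0
      · exfalso
        subst h0
        have : t ≤ t ^ i := Nat.le_self_pow (by omega) t
        simp at h
        omega
      · exact h0
    have htj : t ≤ t ^ j := Nat.le_self_pow (by omega) t
    have hij : j < i := by
      by_contra hcon
      have : t ^ i ≤ t ^ j := Nat.pow_le_pow_right (by omega) (by omega)
      have h3 : 2 * (t ^ j - 1) ≤ m * (t ^ j - 1) := Nat.mul_le_mul_right _ hm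
      omega
    obtain ⟨s, hs, rfl⟩ : ∃ s, 1 ≤ s ∧ i = j + s := ⟨i - j, by omega, by omega⟩
    have hm1 : (m : ℤ) - 1 = t ^ j * (m - t ^ s) := by
      have h4 : (t : ℤ) ^ (j + s) = m * (t ^ j - 1) + 1 := by
        have := congrArg (Nat.cast : ℕ → ℤ) h
        push_cast [Nat.one_le_pow j t (by omega)] at this
        exact this
      rw [pow_add] at h4
      linear_combination h4
    have hmc : ((m - 1 : ℕ) : ℤ) = (m : ℤ) - 1 := by
      rw [Nat.cast_sub (by omega)]; rfl
    have hd1 : t ^ j ∣ m - 1 := by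
      have : ((t ^ j : ℕ) : ℤ) ∣ ((m - 1 : ℕ) : ℤ) := by
        rw [hmc, hm1]
        exact ⟨_, by push_cast; rfl⟩
      exact_mod_cast this
    refine ⟨hd1, fun hd2 => ?_⟩
    have h5 : ((t ^ (j + 1) : ℕ) : ℤ) ∣ ((m - 1 : ℕ) : ℤ) := by exact_mod_cast hd2
    rw [hmc, hm1] at h5
    have h6 : (t : ℤ) ∣ (m - t ^ s) := by
      have h7 : (t : ℤ) ^ j * t ∣ t ^ j * (m - t ^ s) := by
        rw [← pow_succ]; exact_mod_cast h5
      exact (mul_dvd_mul_iff_left (pow_ne_zero j (by exact_mod_cast ht.pos.ne'))).1 h7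
    have h8 : (t : ℤ) ∣ m := by
      have := dvd_add h6 (dvd_pow_self (t : ℤ) (by omega : s ≠ 0))
      simpa using this
    have h9 : t ∣ m := by exact_mod_cast h8
    have h10 : t ∣ m - 1 := (dvd_pow_self t (by omega : j ≠ 0)).trans hd1
    have h11 : t ∣ 1 := by
      have := (Nat.dvd_sub h9 h10)
      rwa [show m - (m - 1) = 1 by omega] at this
    exact ht.one_lt.ne' (Nat.dvd_one.1 h11)
  obtain ⟨a1, a2⟩ := key hi h1
  obtain ⟨b1, b2⟩ := key hk h2
  have hjl : j = l := by
    rcases lt_trichotomy j l with h | h | h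
    · exact absurd ((pow_dvd_pow t (by omega : j + 1 ≤ l)).trans b1) a2
    · exact h
    · exact absurd ((pow_dvd_pow t (by omega : l + 1 ≤ j)).trans a1) b2
  subst hjl
  rw [h1, h2]

end Cfsg.Agent.H748.Palfy
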