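import Cfsg.Agent.H748.PalfyClifford
import Cfsg.Agent.H273.PalfyDef
import Cfsg.Agent.S4493
import Cfsg.Agent.S4448
import Cfsg.Agent.Solvable.Carter
import Cfsg.Agent.Lib.CoprimeAbelian
import Cfsg.Agent.Lib.CoprimeCommutator

/-!
# Sylow subgroups of stabilisers and the action on linear characters (helper748, for Palfy's theorem)
-/

set_option autoImplicit false

namespace Cfsg.Agent.H748.Palfy

open Cfsg Cfsg.Agent.Characters.Core Cfsg.Agent.OddOrderCharacters.IndRes
  Cfsg.Agent.OddOrderCharacters.NormalInduced Cfsg.Agent.OddOrderCharacters.PF9.CliffGen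
  Cfsg.Agent.H681.DegBasic

universe u

/-- Sylow subgroups of a subgroup of index prime to `p`, with a unique Sylow `p`-subgroup -/
theorem unique_sylow {X : Type u} [Group X] [Finite X] {p : ℕ} [hp : Fact p.Prime] (S : Subgroup X) (hidx : ¬ p ∣ S.index)
    (hS : ∀ P : Sylow p S, (P : Subgroup S).Normal ∧ ∀ a ∈ (P : Subgroup S), ∀ b ∈ (P : Subgroup S), a * b = b * a) :
    ∃ A : Sylow p X, IsMulCommutative ↥(A : Subgroup X) ∧ (A : Subgroup X) ≤ S ∧
      ∀ B : Sylow p X, (B : Subgroup X) ≤ S → B = A := by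
  let Q : Sylow p S := default
  have hQ := hS Q
  have hcard : Nat.card ((Q : Subgroup S).map S.subtype) = p ^ (Nat.card X).factorization p := by
    rw [Subgroup.card_map_of_injective S.subtype_injective, Q.card_eq_multiplicity]
    have h1 : (Nat.card X).factorization p = (Nat.card S).factorization p := by
      rw [← S.card_mul_index, Nat.factorization_mul Nat.card_pos.ne' S.index_ne_zero_of_finite, Finsupp.add_apply,
        Nat.factorization_eq_zero_of_not_dvd hidx, add_zero]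
    rw [h1]
  let A : Sylow p X := Sylow.ofCard _ hcard
  have hA : (A : Subgroup X) = (Q : Subgroup S).map S.subtype := Sylow.coe_ofCard _ _
  refine ⟨A, ?_, ?_, ?_⟩
  · constructor
    constructor
    rintro ⟨x, hx⟩ ⟨y, hy⟩
    rw [hA] at hx hy
    obtain ⟨x', hx', rfl⟩ := hx
    obtain ⟨y', hy', rfl⟩ := hy
    apply Subtype.ext
    change S.subtype x' * S.subtype y' = S.subtype y' * S.subtype x'
    rw [← map_mul, hQ.2 x' hx' y' hy', map_mul]
  · rw [hA]
    exact Subgroup.map_subtype_le _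
  · intro B hB
    have := Sylow.unique_of_normal Q hQ.1
    have h1 : B.subtype hB = Q := Subsingleton.elim _ _
    apply Sylow.ext
    rw [hA, ← h1, Sylow.coe_subtype, Subgroup.subgroupOf_map_subtype]
    exact (inf_eq_left.2 hB).symm

section compl

variable {G : Type u} [Group G]

theorem uniq_of_degrees [Finite G] (hsolv : Group.IsSolvable G) {S H : Subgroup G} (hSH : S ≤ H) {p : ℕ}
    [hp : Fact p.Prime] (h : ∀ b ∈ charDegrees ↥S, ¬ p ∣ S.relIndex H * b) :
    ∃ A : Sylow p ↥H, IsMulCommutative ↥(A : Subgroup H) ∧ (∀ x ∈ (A : Subgroup H), (x : G) ∈ S) ∧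
      ∀ B : Sylow p ↥H, (∀ x ∈ (B : Subgroup H), (x : G) ∈ S) → B = A := by
  have hidx : ¬ p ∣ (S.subgroupOf H).index := by
    have := h 1 one_mem
    rwa [mul_one] at this
  have h1 : ∀ d ∈ charDegrees ↥(S.subgroupOf H), ¬ p ∣ d := by
    intro d hd hpd
    have hd' : d ∈ charDegrees ↥S :=
      charDegrees_comp (Subgroup.subgroupOfEquivOfLe hSH).symm.toMonoidHom
        (Subgroup.subgroupOfEquivOfLe hSH).symm.surjective hd
    exact h d hd' (dvd_mul_of_dvd_right hpd _)
  have := hsolv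
  obtain ⟨A, hA, hA1, hA2⟩ := unique_sylow (S.subgroupOf H) hidx (fun P =>
    ito_michler inferInstance h1 P)
  refine ⟨A, hA, fun x hx => Subgroup.mem_subgroupOf.1 (hA1 hx), fun B hB => hA2 B fun x hx => ?_⟩
  exact Subgroup.mem_subgroupOf.2 (hB x hx)

/-- the action on linear characters -/
@[reducible] def linAct (N H : Subgroup G) [N.Normal] : MulDistribMulAction ↥H (↥N →* ℂˣ) where
  smul h l := l.comp (MulAut.conjNormal (h : G)⁻¹ : MulAut N).toMonoidHom
  one_smul l := by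
    ext n
    change ((l (MulAut.conjNormal ((1 : H) : G)⁻¹ n) : ℂˣ) : ℂ) = _
    rw [OneMemClass.coe_one, inv_one, map_one]
    rfl
  mul_smul g h l := by
    ext n
    change ((l (MulAut.conjNormal ((g * h : H) : G)⁻¹ n) : ℂˣ) : ℂ) =
      ((l (MulAut.conjNormal (h : G)⁻¹ (MulAut.conjNormal (g : G)⁻¹ n)) : ℂˣ) : ℂ)
    rw [Subgroup.coe_mul, mul_inv_rev, map_mul]
    rfl
  smul_mul g l l' := by
    ext n
    rfl
  smul_one g := by
    ext n
    rfl

theorem linAct_apply (N H : Subgroup G) [hN : N.Normal] (h : H) (l : ↥N →* ℂˣ) (n : N) :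
    letI := linAct N H
    (h • l) n = l ⟨(h : G)⁻¹ * n * (h : G), by simpa using hN.conj_mem n n.2 (h : G)⁻¹⟩ := by
  change l (MulAut.conjNormal (h : G)⁻¹ n) = _
  congr 1
  apply Subtype.ext
  rw [MulAut.conjNormal_apply]
  change _ = (h : G)⁻¹ * n * h
  rw [inv_inv]

theorem smul_eq_iff (N H : Subgroup G) [hN : N.Normal] (h : H) (l : ↥N →* ℂˣ) :
    letI := linAct N H
    h • l = l ↔ (h : G) ∈ stab N H (fun n => (l n : ℂ)) := by
  rw [mem_stab]
  constructor
  · intro h1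
    refine ⟨h.2, fun n => ?_⟩
    have h2 : (letI := linAct N H; h • l) ⟨h * n * (h : G)⁻¹, hN.conj_mem n n.2 h⟩ = _ :=
      linAct_apply N H h l ⟨h * n * (h : G)⁻¹, hN.conj_mem n n.2 h⟩
    rw [h1] at h2
    rw [h2]
    congr 2
    apply Subtype.ext
    change (h : G)⁻¹ * (h * n * (h : G)⁻¹) * h = n
    group
  · rintro ⟨-, h1⟩
    ext n
    have h2 := linAct_apply N H h l n
    rw [h2]
    have h3 := h1 ⟨(h : G)⁻¹ * n * (h : G), by simpa using hN.conj_mem n n.2 (h : G)⁻¹⟩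
    rw [← h3]
    congr 2
    apply Subtype.ext
    change (h : G) * ((h : G)⁻¹ * n * h) * (h : G)⁻¹ = n
    group

/-- translation of `UniqueSylow` -/
theorem uniqueSylow_of [Finite G] (hsolv : Group.IsSolvable G) (N H : Subgroup G) [hN : N.Normal] {p : ℕ}
    [hp : Fact p.Prime] (h : ∀ l : ↥N →* ℂˣ, l ≠ 1 → ∀ b ∈ charDegrees ↥(stab N H (fun n => (l n : ℂ))),
      ¬ p ∣ (stab N H (fun n => (l n : ℂ))).relIndex H * b) :
    letI := linAct N H
    Cfsg.Agent.H273.Palfy.UniqueSylow p ↥H (↥N →* ℂˣ) := by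
  intro l hl
  obtain ⟨A, h1, h2, h3⟩ := uniq_of_degrees hsolv (stab_le N H (fun n => (l n : ℂ))) (h l hl)
  exact ⟨A, h1, fun x hx => (smul_eq_iff N H x l).2 (h2 x hx), fun B hB => h3 B fun x hx =>
    (smul_eq_iff N H x l).1 (hB x hx)⟩

/-- separating linear characters -/
theorem eq_one_of_lin {N : Subgroup G} [Finite G] (hN : ∀ x ∈ N, ∀ y ∈ N, x * y = y * x) (n : N)
    (h : ∀ l : ↥N →* ℂˣ, l n = 1) : n = 1 := by
  let _ : CommGroup N := { (inferInstance : Group N) with mul_comm := fun a b => Subtype.ext (hN a a.2 b b.2) }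
  by_contra hne
  obtain ⟨φ, hφ⟩ := CommGroup.exists_apply_ne_one_of_hasEnoughRootsOfUnity N ℂ hne
  exact hφ (h φ)

theorem card_lin {N : Subgroup G} [Finite G] (hN : ∀ x ∈ N, ∀ y ∈ N, x * y = y * x) :
    Nat.card (↥N →* ℂˣ) = Nat.card N := by
  let _ : CommGroup N := { (inferInstance : Group N) with mul_comm := fun a b => Subtype.ext (hN a a.2 b b.2) }
  exact CommGroup.card_monoidHom_of_hasEnoughRootsOfUnity N ℂ

/-- acting trivially on the linear characters -/
theorem comm_of_lin {N H : Subgroup G} [hNn : N.Normal] [Finite G] (hN : ∀ x ∈ N, ∀ y ∈ N, x * y = y * x) (h : G)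
    (hl : ∀ l : ↥N →* ℂˣ, ∀ n : N, l ⟨h * n * h⁻¹, hNn.conj_mem n n.2 h⟩ = l n) : ∀ n ∈ N, h * n = n * h := by
  intro n hn
  have h1 : (⟨h * n * h⁻¹, hNn.conj_mem n hn h⟩ : N) * (⟨n, hn⟩ : N)⁻¹ = 1 := by
    apply eq_one_of_lin hN
    intro l
    rw [map_mul, map_inv, hl l ⟨n, hn⟩, mul_inv_cancel]
  have h2 := congrArg Subtype.val h1
  change h * n * h⁻¹ * n⁻¹ = 1 at h2
  have h3 : h * n = (h * n * h⁻¹ * n⁻¹) * (n * h) := by group
  rw [h3, h2, one_mul]

/-- the action on the linear characters of a minimal normal subgroup is irreducible. -/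
theorem lin_irr [Finite G] {N H : Subgroup G} [hNn : N.Normal] (hNH : N ⊔ H = ⊤ ∨ ∀ x : G, ∃ h ∈ H, ∀ n ∈ N, x * n * x⁻¹ = h * n * h⁻¹)
    (hN : ∀ x ∈ N, ∀ y ∈ N, x * y = y * x)
    (hmin : ∀ K : Subgroup G, K.Normal → K ≤ N → K = ⊥ ∨ K = N) :
    letI := linAct N H
    ∀ W : Subgroup (↥N →* ℂˣ), (∀ h : H, ∀ w ∈ W, h • w ∈ W) → W = ⊥ ∨ W = ⊤ := by
  intro W hW
  have hconj : ∀ x : G, ∃ h ∈ H, ∀ n ∈ N, x * n * x⁻¹ = h * n * h⁻¹ := by
    rcases hNH with h | h
    · intro x
      have hx : x ∈ H ⊔ N := by rw [sup_comm, h]; trivial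
      obtain ⟨b, hb, a, ha, rfl⟩ := Subgroup.mem_sup_of_normal_right.1 hx
      refine ⟨b, hb, fun n hn => ?_⟩
      have : a * n = n * a := hN a ha n hn
      calc b * a * n * (b * a)⁻¹ = b * (a * n) * a⁻¹ * b⁻¹ := by group
        _ = b * n * b⁻¹ := by rw [this]; group
    · exact h
  let K : Subgroup G :=
    { carrier := {x | ∃ hx : x ∈ N, ∀ w ∈ W, w ⟨x, hx⟩ = 1}
      one_mem' := ⟨N.one_mem, fun w _ => map_one w⟩
      mul_mem' := by
        rintro x y ⟨hx, hx'⟩ ⟨hy, hy'⟩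
        refine ⟨N.mul_mem hx hy, fun w hw => ?_⟩
        have : (⟨x * y, N.mul_mem hx hy⟩ : N) = ⟨x, hx⟩ * ⟨y, hy⟩ := rfl
        rw [this, map_mul, hx' w hw, hy' w hw, one_mul]
      inv_mem' := by
        rintro x ⟨hx, hx'⟩
        refine ⟨N.inv_mem hx, fun w hw => ?_⟩
        have : (⟨x⁻¹, N.inv_mem hx⟩ : N) = ⟨x, hx⟩⁻¹ := rfl
        rw [this, map_inv, hx' w hw, inv_one] }
  have hKn : K.Normal := by
    constructor
    rintro x ⟨hx, hx'⟩ g
    obtain ⟨h, hh, hgh⟩ := hconj g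
    have hmem : g * x * g⁻¹ ∈ N := hNn.conj_mem x hx g
    refine ⟨hmem, fun w hw => ?_⟩
    have h1 := hx' _ (hW ⟨h, hh⟩⁻¹ w hw)
    have h2 := linAct_apply N H (⟨h, hh⟩⁻¹ : H) w ⟨x, hx⟩
    rw [h1] at h2
    rw [h2]
    congr 1
    apply Subtype.ext
    change g * x * g⁻¹ = (h⁻¹)⁻¹ * x * h⁻¹
    rw [hgh x hx, inv_inv]
  rcases hmin K hKn (fun x hx => hx.1) with h | h
  · right
    -- `N` embeds in the dual of `W`
    have : Finite (↥N →* ℂˣ) := by
      let _ : CommGroup N := { (inferInstance : Group N) with mul_comm := fun a b => Subtype.ext (hN a a.2 b b.2) }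
      exact Nat.finite_of_card_ne_zero (by rw [card_lin hN]; exact Nat.card_pos.ne')
    let f : N →* (↥W →* ℂˣ) :=
      { toFun := fun n =>
          { toFun := fun w => (w : ↥N →* ℂˣ) n
            map_one' := rfl
            map_mul' := fun _ _ => rfl }
        map_one' := by
          ext w
          change ((w : ↥N →* ℂˣ) 1 : ℂˣ) = (1 : ℂ)
          rw [map_one]
          rfl
        map_mul' := fun x y => by
          ext w
          change (((w : ↥N →* ℂˣ) (x * y) : ℂˣ) : ℂ) = (((w : ↥N →* ℂˣ) x * (w : ↥N →* ℂˣ) y : ℂˣ) : ℂ)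
          rw [map_mul] }
    have hf : Function.Injective f := by
      rw [injective_iff_map_eq_one]
      intro n hn
      have h1 : (n : G) ∈ K := ⟨n.2, fun w hw => by
        have := DFunLike.congr_fun hn ⟨w, hw⟩
        exact this⟩
      rw [h, Subgroup.mem_bot] at h1
      exact Subtype.ext h1
    have hfin : Finite (↥W →* ℂˣ) := by
      refine Nat.finite_of_card_ne_zero ?_
      rw [CommGroup.card_monoidHom_of_hasEnoughRootsOfUnity]
      exact Nat.card_pos.ne'
    have h1 := Nat.card_le_card_of_injective f hf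
    rw [CommGroup.card_monoidHom_of_hasEnoughRootsOfUnity W ℂ] at h1
    apply Subgroup.eq_top_of_le_card
    rw [card_lin hN]
    exact h1
  · left
    rw [eq_bot_iff]
    intro w hw
    rw [Subgroup.mem_bot]
    ext n
    have h1 : (n : G) ∈ K := by rw [h]; exact n.2
    obtain ⟨hx, hx'⟩ := h1
    rw [MonoidHom.one_apply, ← hx' w hw]

end compl

end Cfsg.Agent.H748.Palfy
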