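import Cfsg.Agent.H748.PalfyC

/-!
# Palfy's three primes theorem: end of case B (helper748)
-/

set_option autoImplicit false
set_option linter.unusedSectionVars false

namespace Cfsg.Agent.H748.Palfy

open Cfsg Cfsg.Agent.Characters.Core Cfsg.Agent.OddOrderCharacters.IndRes
  Cfsg.Agent.OddOrderCharacters.NormalInduced Cfsg.Agent.OddOrderCharacters.PF9.CliffGen
  Cfsg.Agent.H681.DegBasic
open scoped commutatorElement

universe u

/-- counting fixed points in an invariant subgroup -/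
theorem count_group {H : Type u} [Group H] [Finite H] {V : Type*} [CommGroup V] [Finite V] [MulDistribMulAction H V]
    {p t : ℕ} [Fact p.Prime] [Fact t.Prime] (hV : IsPGroup t V) (W : Subgroup V) (hW : ∀ h : H, ∀ w ∈ W, h • w ∈ W)
    (hu : ∀ w ∈ W, w ≠ 1 → ∃ A : Sylow p H, (∀ h ∈ (A : Subgroup H), h • w = w) ∧
      ∀ B : Sylow p H, (∀ h ∈ (B : Subgroup H), h • w = w) → B = A) (B : Sylow p H) :
    ∃ i j : ℕ, Nat.card W = t ^ i ∧ t ^ i = Nat.card (Sylow p H) * (t ^ j - 1) + 1 := by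
  classical
  have hsub : ∀ (U : Subgroup V), Nat.card {v : V // v ∈ U ∧ v ≠ 1} + 1 = Nat.card U := by
    intro U
    have e : {v : V // v ∈ U ∧ v ≠ 1} ≃ {x : U // x ≠ 1} :=
      { toFun := fun v => ⟨⟨v.1, v.2.1⟩, fun h => v.2.2 (congrArg Subtype.val h)⟩
        invFun := fun x => ⟨x.1.1, x.1.2, fun h => x.2 (Subtype.ext h)⟩
        left_inv := fun v => rfl
        right_inv := fun x => rfl }
    have : Fintype U := Fintype.ofFinite _
    rw [Nat.card_congr e, Nat.card_eq_fintype_card, Nat.card_eq_fintype_card, Fintype.card_subtype_compl,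
      Fintype.card_subtype_eq]
    have : 0 < Fintype.card U := Fintype.card_pos
    omega
  let F : Subgroup V :=
    { carrier := {v | v ∈ W ∧ ∀ h ∈ (B : Subgroup H), h • v = v}
      one_mem' := ⟨W.one_mem, fun h _ => smul_one h⟩
      mul_mem' := by
        rintro x y ⟨hx, hx'⟩ ⟨hy, hy'⟩
        exact ⟨W.mul_mem hx hy, fun h hh => by rw [smul_mul', hx' h hh, hy' h hh]⟩
      inv_mem' := by
        rintro x ⟨hx, hx'⟩
        exact ⟨W.inv_mem hx, fun h hh => by rw [smul_inv', hx' h hh]⟩ }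
  obtain ⟨i, hi⟩ := IsPGroup.iff_card.1 (hV.to_subgroup W)
  obtain ⟨j, hj⟩ := IsPGroup.iff_card.1 (hV.to_subgroup F)
  refine ⟨i, j, hi, ?_⟩
  have h1 := count (p := p) {v : V | v ∈ W ∧ v ≠ 1} (fun h v hv => ⟨hW h v hv.1, fun h0 => hv.2 (by
    have := congrArg (fun x => h⁻¹ • x) h0
    simpa using this)⟩) (fun v hv => hu v hv.1 hv.2) B
  have e2 : Nat.card {v : V // v ∈ {v : V | v ∈ W ∧ v ≠ 1} ∧ ∀ h ∈ (B : Subgroup H), h • v = v} =
      Nat.card {v : V // v ∈ F ∧ v ≠ 1} := by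
    refine Nat.card_congr (Equiv.subtypeEquivRight fun v => ?_)
    change ((v ∈ W ∧ v ≠ 1) ∧ ∀ h ∈ (B : Subgroup H), h • v = v) ↔ ((v ∈ W ∧ ∀ h ∈ (B : Subgroup H), h • v = v) ∧ v ≠ 1)
    tauto
  rw [e2] at h1
  have h2 := hsub W
  have h3 := hsub F
  have h4 : Nat.card {v : V // v ∈ W ∧ v ≠ 1} = Nat.card (Sylow p H) * Nat.card {v : V // v ∈ F ∧ v ≠ 1} := h1
  rw [← hi, ← hj, ← h2, h4, ← h3, Nat.add_sub_cancel]

section

variable {G : Type u} [Group G] [Finite G]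

variable {t a b : ℕ} {P N H : Subgroup G} [hPn : P.Normal] [hNn : N.Normal]

theorem BCtx.cop (B : BCtx t a b P N H) {α : G} (hα : α ∈ H) : (orderOf α).Coprime (Nat.card P) := by
  have h1 : orderOf α ∣ Nat.card H := by
    have := orderOf_dvd_natCard (⟨α, hα⟩ : H)
    rwa [Subgroup.orderOf_mk] at this
  exact B.hcop.symm.coprime_dvd_left h1

theorem BCtx.commute_of_mem (B : BCtx t a b P N H) {α : G} (hα : α ∈ H) (hαN : ∀ n ∈ N, α * n = n * α) {y : G}
    (h : α * y * α⁻¹ * y⁻¹ ∈ N) : α * y = y * α := by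
  have h1 : ⁅y, α⁆ ∈ N := by
    have : ⁅y, α⁆ = (α * y * α⁻¹ * y⁻¹)⁻¹ := by rw [commutatorElement_def]; group
    rw [this]
    exact N.inv_mem h
  have h2 := Lib.CoprimeStab.commute_of_commutator_commute (H := N)
    ((B.cop hα).coprime_dvd_right (Subgroup.card_dvd_of_le B.hNP)) h1 (hαN _ h1).symm
  exact h2.eq.symm

/-- a normal abelian Sylow `p`-subgroup of `H` does not centralise `P`. -/
theorem BCtx.not_central (B : BCtx t a b P N H) {p : ℕ} [hp : Fact p.Prime] (hpP : ¬ p ∣ Nat.card P)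
    (hd : ∃ d ∈ charDegrees G, p ∣ d) (A : Sylow p ↥H)
    (hA : (A : Subgroup H).Normal) (hAc : IsMulCommutative ↥(A : Subgroup H)) :
    ¬ ∀ x ∈ (A : Subgroup H), ∀ y ∈ P, (x : G) * y = y * x := by
  intro hAP
  let C : Subgroup G := (A : Subgroup H).map H.subtype
  have hmem : ∀ x ∈ C, ∃ hx : x ∈ H, (⟨x, hx⟩ : H) ∈ (A : Subgroup H) := by
    rintro x ⟨y, hy, rfl⟩
    exact ⟨y.2, hy⟩
  have hCc : ∀ x ∈ C, ∀ y ∈ C, x * y = y * x := by
    intro x hx y hy
    obtain ⟨h1, h2⟩ := hmem x hx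
    obtain ⟨h3, h4⟩ := hmem y hy
    have := hAc.is_comm.comm (⟨⟨x, h1⟩, h2⟩ : (A : Subgroup H)) ⟨⟨y, h3⟩, h4⟩
    exact congrArg (fun z : (A : Subgroup H) => ((z : H) : G)) this
  have hCn : C.Normal := by
    constructor
    intro x hx g
    have hg : g ∈ H ⊔ P := by rw [sup_comm, B.hPH']; trivial
    obtain ⟨h, hh, n, hn, rfl⟩ := Subgroup.mem_sup_of_normal_right.1 hg
    obtain ⟨h2, h3⟩ := hmem x hx
    have h1 : h * n * x * (h * n)⁻¹ = h * x * h⁻¹ := by
      have : n * x = x * n := (hAP _ h3 n hn).symm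
      calc h * n * x * (h * n)⁻¹ = h * (n * x) * n⁻¹ * h⁻¹ := by group
        _ = h * x * h⁻¹ := by rw [this]; group
    rw [h1]
    exact ⟨_, hA.conj_mem _ h3 ⟨h, hh⟩, rfl⟩
  refine false_of_abelian hCn hCc (p := p) ?_ hd
  -- index
  have h1 : Nat.card C = Nat.card (A : Subgroup H) := Subgroup.card_map_of_injective H.subtype_injective
  have h2 : Nat.card P * Nat.card H = Nat.card G := by
    have h3 := index_eq (M := P) (T := P) B.hPH B.hPH' le_rfl
    rw [B.hPH, Subgroup.relIndex_bot_left] at h3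
    rw [← h3, Subgroup.card_mul_index]
  have h3 : C.index = Nat.card P * (A : Subgroup H).index := by
    have e1 := C.card_mul_index
    have e2 := (A : Subgroup H).card_mul_index
    rw [h1, ← h2, ← e2] at e1
    have h0 : 0 < Nat.card (A : Subgroup H) := Nat.card_pos
    apply Nat.eq_of_mul_eq_mul_left h0
    rw [e1]
    ring
  rw [h3]
  intro h4
  rcases (Nat.Prime.dvd_mul hp.out).1 h4 with h5 | h5
  · exact hpP h5
  · exact A.not_dvd_index h5

/-- membership in the stabiliser of a linear character of `P` -/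
theorem mem_stab_lin {μ : ↥P →* ℂˣ} {g : G} : g ∈ stab P H (fun n => (μ n : ℂ)) ↔
    g ∈ H ∧ ∀ y : P, μ ⟨g * y * g⁻¹, hPn.conj_mem y y.2 g⟩ = μ y := by
  rw [mem_stab]
  refine and_congr_right fun _ => forall_congr' fun y => ?_
  exact ⟨fun h => Units.ext h, fun h => congrArg Units.val h⟩

/-- some linear character of `P` is moved. -/
theorem BCtx.exists_moved (B : BCtx t a b P N H) {p : ℕ} [hp : Fact p.Prime] (hpP : ¬ p ∣ Nat.card P)
    (hd : ∃ d ∈ charDegrees G, p ∣ d) (A : Sylow p ↥H)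
    (hA : (A : Subgroup H).Normal) (hAc : IsMulCommutative ↥(A : Subgroup H))
    (hAN : ∀ x ∈ (A : Subgroup H), ∀ n ∈ N, (x : G) * n = n * x) :
    ∃ μ : ↥P →* ℂˣ, ¬ ∀ x ∈ (A : Subgroup H), (x : G) ∈ stab P H (fun n => (μ n : ℂ)) := by
  by_contra hcon
  push Not at hcon
  apply B.not_central hpP hd A hA hAc
  intro x hx y hy
  apply B.commute_of_mem x.2 (hAN x hx)
  by_contra hnm
  have hN' : (N.subgroupOf P).Normal := hNn.subgroupOf P
  have hz : (x : G) * y * (x : G)⁻¹ * y⁻¹ ∈ P := P.mul_mem (hPn.conj_mem y hy x) (P.inv_mem hy)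
  obtain ⟨μ, hμ1, hμ2⟩ := exists_lin (N.subgroupOf P)
    (fun x y => Subgroup.mem_subgroupOf.2 (B.hPcN x x.2 y y.2)) (y := ⟨_, hz⟩)
    (fun h => hnm (Subgroup.mem_subgroupOf.1 h))
  apply hμ1
  have h1 := (mem_stab_lin.1 (hcon μ x hx)).2 ⟨y, hy⟩
  have h2 : (⟨(x : G) * y * (x : G)⁻¹ * y⁻¹, hz⟩ : P) = ⟨(x : G) * y * (x : G)⁻¹, hPn.conj_mem y hy x⟩ * (⟨y, hy⟩ : P)⁻¹ := rfl
  rw [h2, map_mul, map_inv]
  change μ ⟨(x : G) * y * (x : G)⁻¹, _⟩ * _ = 1
  rw [h1, mul_inv_cancel]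

/-- both Sylow subgroups are normal and centralise `N`. -/
theorem BCtx.false_of_both (B : BCtx t a b P N H) [hpa : Fact a.Prime] [hpb : Fact b.Prime]
    (haP : ¬ a ∣ Nat.card P) (hbP : ¬ b ∣ Nat.card P) (A : Sylow a ↥H)
    (hA : (A : Subgroup H).Normal) (hAc : IsMulCommutative ↥(A : Subgroup H))
    (hAN : ∀ x ∈ (A : Subgroup H), ∀ n ∈ N, (x : G) * n = n * x) (A' : Sylow b ↥H)
    (hA' : (A' : Subgroup H).Normal) (hAc' : IsMulCommutative ↥(A' : Subgroup H))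
    (hAN' : ∀ x ∈ (A' : Subgroup H), ∀ n ∈ N, (x : G) * n = n * x) : False := by
  obtain ⟨μ1, h1⟩ := B.exists_moved haP B.c.da A hA hAc hAN
  obtain ⟨μ2, h2⟩ := B.exists_moved hbP B.c.db A' hA' hAc' hAN'
  have key : ∀ (x : G), ∀ μ ν : ↥P →* ℂˣ, x ∈ stab P H (fun n => (μ n : ℂ)) →
      x ∈ stab P H (fun n => ((μ * ν) n : ℂ)) → x ∈ stab P H (fun n => (ν n : ℂ)) := by
    intro x μ ν hμ hμν
    rw [mem_stab_lin] at hμ hμν ⊢
    refine ⟨hμ.1, fun y => ?_⟩
    have h3 := hμν.2 y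
    rw [MonoidHom.mul_apply, MonoidHom.mul_apply, hμ.2 y] at h3
    exact mul_left_cancel h3
  obtain ⟨μ, hμ1, hμ2⟩ : ∃ μ : ↥P →* ℂˣ, (¬ ∀ x ∈ (A : Subgroup H), (x : G) ∈ stab P H (fun n => (μ n : ℂ))) ∧
      ¬ ∀ x ∈ (A' : Subgroup H), (x : G) ∈ stab P H (fun n => (μ n : ℂ)) := by
    by_cases h3 : ∀ x ∈ (A' : Subgroup H), (x : G) ∈ stab P H (fun n => (μ1 n : ℂ))
    · by_cases h4 : ∀ x ∈ (A : Subgroup H), (x : G) ∈ stab P H (fun n => (μ2 n : ℂ))
      · refine ⟨μ1 * μ2, fun h5 => h1 fun x hx => ?_, fun h5 => h2 fun x hx => ?_⟩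
        · exact key x μ2 μ1 (h4 x hx) (by rw [mul_comm μ2 μ1]; exact h5 x hx)
        · exact key x μ1 μ2 (h3 x hx) (h5 x hx)
      · exact ⟨μ2, h4, h2⟩
    · exact ⟨μ1, h1, h3⟩
  have h5 := degree_linear B.hPH B.hPH' μ (one_mem (G := ↥(stab P H (fun n => (μ n : ℂ)))))
  rw [mul_one] at h5
  exact B.c.ab _ h5 (dvd_relIndex A hA hμ1) (dvd_relIndex A' hA' hμ2)

theorem finite_lin {X : Type u} [Group X] [Finite X] : Finite (X →* ℂˣ) := by
  have := finite_irr (G := X)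
  refine Finite.of_injective (fun μ : X →* ℂˣ =>
    (⟨fun x => (μ x : ℂ), Characters.Linear.isIrrCharacter_hom μ⟩ : IrrCharacter X)) ?_
  intro μ ν h
  ext x
  exact congrFun (congrArg Subtype.val h) x

theorem isPGroup_lin {X : Type u} [Group X] [Finite X] {t : ℕ} [Fact t.Prime] (hX : IsPGroup t X) :
    IsPGroup t (X →* ℂˣ) := by
  obtain ⟨n, hn⟩ := IsPGroup.iff_card.1 hX
  intro μ
  refine ⟨n, ?_⟩
  ext x
  rw [MonoidHom.pow_apply, ← map_pow, ← hn, pow_card_eq_one', map_one]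
  rfl

/-- one Sylow subgroup is normal and centralises `N`, the other one does not centralise `N`. -/
theorem BCtx.false_of_one (B : BCtx t a b P N H) [ht : Fact t.Prime] [hpa : Fact a.Prime] [hpb : Fact b.Prime]
    (haP : ¬ a ∣ Nat.card P) (A : Sylow a ↥H)
    (hA : (A : Subgroup H).Normal) (hAc : IsMulCommutative ↥(A : Subgroup H))
    (hAN : ∀ x ∈ (A : Subgroup H), ∀ n ∈ N, (x : G) * n = n * x)
    (uB : letI := linAct N H
      Cfsg.Agent.H273.Palfy.UniqueSylow b ↥H (↥N →* ℂˣ))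
    (nB : letI := linAct N H
      ∃ A : Sylow b H, ∃ h ∈ (A : Subgroup H), ∃ v : ↥N →* ℂˣ, h • v ≠ v) : False := by
  classical
  have hsolv := B.c.solv
  have hfinP : Finite (↥P →* ℂˣ) := finite_lin
  have hfinN : Finite (↥N →* ℂˣ) := finite_lin
  -- the centraliser of `A` in `P`
  let D : Subgroup ↥P :=
    { carrier := {y | ∀ x ∈ (A : Subgroup H), (x : G) * y = y * x}
      one_mem' := by
        intro x _
        rw [OneMemClass.coe_one, mul_one, one_mul]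
      mul_mem' := by
        intro y z hy hz x hx
        rw [Subgroup.coe_mul, ← mul_assoc, hy x hx, mul_assoc, hz x hx, mul_assoc]
      inv_mem' := by
        intro y hy x hx
        have h1 := hy x hx
        rw [Subgroup.coe_inv]
        calc (x : G) * (y : G)⁻¹ = (y : G)⁻¹ * ((y : G) * x) * (y : G)⁻¹ := by group
          _ = (y : G)⁻¹ * ((x : G) * y) * (y : G)⁻¹ := by rw [h1]
          _ = (y : G)⁻¹ * x := by group }
  have hND : ∀ n : ↥P, (n : G) ∈ N → n ∈ D := fun n hn x hx => hAN x hx n hn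
  have hDK : ∀ x y : ↥P, x * y * x⁻¹ * y⁻¹ ∈ D := fun x y => hND _ (B.hPcN x x.2 y y.2)
  have hDn : D.Normal := by
    constructor
    intro d hd y
    have : y * d * y⁻¹ = (y * d * y⁻¹ * d⁻¹) * d := by group
    rw [this]
    exact D.mul_mem (hDK y d) hd
  -- the linear characters trivial on `D`
  let V1 : Subgroup (↥P →* ℂˣ) :=
    { carrier := {μ | ∀ k ∈ D, μ k = 1}
      one_mem' := fun k _ => rfl
      mul_mem' := by
        intro μ ν hμ hν k hk
        rw [MonoidHom.mul_apply, hμ k hk, hν k hk, one_mul]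
      inv_mem' := by
        intro μ hμ k hk
        rw [MonoidHom.inv_apply, hμ k hk, inv_one] }
  have hDidx : D.index ≤ Nat.card V1 := index_le_card D hDK
  -- nontrivial characters trivial on `D` are moved by `A`
  have hmove : ∀ μ ∈ V1, μ ≠ 1 → ¬ ∀ x ∈ (A : Subgroup H), (x : G) ∈ stab P H (fun n => (μ n : ℂ)) := by
    intro μ hμ hμ1 hfix
    apply hμ1
    let C : Subgroup G := (A : Subgroup H).map H.subtype
    have hmem : ∀ x ∈ C, ∃ hx : x ∈ H, (⟨x, hx⟩ : H) ∈ (A : Subgroup H) := by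
      rintro x ⟨y, hy, rfl⟩
      exact ⟨y.2, hy⟩
    have hCP : IsPGroup a C := A.isPGroup'.map _
    have hCn : C ≤ Subgroup.normalizer (P : Set G) := by
      rw [Subgroup.normalizer_eq_top]
      exact le_top
    -- `μ` is trivial on `[P, C]`
    have hcomm : (⁅P, C⁆ : Subgroup G) ≤ (μ.ker).map P.subtype := by
      rw [Subgroup.commutator_le]
      intro y hy x hx
      obtain ⟨h1, h2⟩ := hmem x hx
      have h3 := (mem_stab_lin.1 (hfix _ h2)).2 ⟨y⁻¹, P.inv_mem hy⟩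
      have h4 : x * y⁻¹ * x⁻¹ ∈ P := hPn.conj_mem _ (P.inv_mem hy) x
      refine ⟨⟨y, hy⟩ * ⟨x * y⁻¹ * x⁻¹, h4⟩, ?_, ?_⟩
      · rw [SetLike.mem_coe, MonoidHom.mem_ker, map_mul]
        change μ ⟨y, hy⟩ * μ ⟨x * y⁻¹ * x⁻¹, _⟩ = 1
        have h5 : μ ⟨x * y⁻¹ * x⁻¹, h4⟩ = μ ⟨y⁻¹, P.inv_mem hy⟩ := h3
        rw [h5, ← map_mul]
        have : (⟨y, hy⟩ * ⟨y⁻¹, P.inv_mem hy⟩ : P) = 1 := Subtype.ext (mul_inv_cancel y)
        rw [this, map_one]
      · rw [commutatorElement_def]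
        change y * (x * y⁻¹ * x⁻¹) = _
        group
    ext y
    obtain ⟨m, hm, c, hc, hmc⟩ := Lib.CoprimeCommutator.exists_commutator_mul_fixed_of_isPGroup a C P hCP hCn
      haP y y.2
    obtain ⟨m', hm', hmm⟩ := hcomm hm
    have hcP : c ∈ P := (Subgroup.mem_inf.1 hc).1
    have hcD : (⟨c, hcP⟩ : P) ∈ D := by
      intro x hx
      have h6 := Subgroup.mem_centralizer_iff.1 (Subgroup.mem_inf.1 hc).2 x ⟨x, hx, rfl⟩
      exact h6
    have h7 : y = m' * ⟨c, hcP⟩ := by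
      apply Subtype.ext
      rw [hmc, ← hmm]
      rfl
    rw [h7, map_mul, (MonoidHom.mem_ker).1 hm', hμ _ hcD, one_mul]
    rfl
  -- uniqueness of Sylow `b`-subgroups fixing a nontrivial element of `V1`
  have huV1 : ∀ μ ∈ V1, μ ≠ 1 → ∃ A' : Sylow b H, (∀ h ∈ (A' : Subgroup H), (h : G) ∈ stab P H (fun n => (μ n : ℂ))) ∧
      ∀ B' : Sylow b H, (∀ h ∈ (B' : Subgroup H), (h : G) ∈ stab P H (fun n => (μ n : ℂ))) → B' = A' := by
    intro μ hμ hμ1
    have h1 := dvd_relIndex A hA (hmove μ hμ hμ1)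
    obtain ⟨A', -, h2, h3⟩ := uniq_of_degrees hsolv (stab_le P H (fun n => (μ n : ℂ))) (p := b) (by
      intro d hd
      exact B.c.ab _ (degree_linear B.hPH B.hPH' μ hd) (dvd_mul_of_dvd_left h1 _))
    exact ⟨A', h2, h3⟩
  -- two counts
  obtain ⟨R, h0, hh0, v0, hv0⟩ := nB
  have c1 : ∃ i j : ℕ, Nat.card V1 = t ^ i ∧ t ^ i = Nat.card (Sylow b H) * (t ^ j - 1) + 1 := by
    let _ := linAct P H
    refine count_group (isPGroup_lin B.hP) V1 ?_ ?_ R
    · intro h μ hμ k hk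
      rw [linAct_apply P H h μ k]
      apply hμ
      intro x hx
      have h1 := hk (h * x * h⁻¹) (hA.conj_mem x hx h)
      change (x : G) * ((h : G)⁻¹ * k * h) = (h : G)⁻¹ * k * h * x
      have h2 : ((h * x * h⁻¹ : H) : G) = (h : G) * x * (h : G)⁻¹ := rfl
      rw [h2] at h1
      calc (x : G) * ((h : G)⁻¹ * k * h) = (h : G)⁻¹ * (((h : G) * x * (h : G)⁻¹) * k) * h := by group
        _ = (h : G)⁻¹ * (k * ((h : G) * x * (h : G)⁻¹)) * h := by rw [h1]
        _ = (h : G)⁻¹ * k * h * x := by group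
    · intro μ hμ hμ1
      obtain ⟨A', h2, h3⟩ := huV1 μ hμ hμ1
      exact ⟨A', fun h hh => (smul_eq_iff P H h μ).2 (h2 h hh), fun B' hB' => h3 B' fun h hh =>
        (smul_eq_iff P H h μ).1 (hB' h hh)⟩
  have hNp : IsPGroup t N := B.hP.to_le B.hNP
  have c2 : ∃ i j : ℕ, Nat.card (⊤ : Subgroup (↥N →* ℂˣ)) = t ^ i ∧
      t ^ i = Nat.card (Sylow b H) * (t ^ j - 1) + 1 := by
    let _ := linAct N H
    refine count_group (isPGroup_lin hNp) ⊤ (fun h w _ => trivial) ?_ R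
    intro w _ hw
    obtain ⟨A', -, h2, h3⟩ := uB w hw
    exact ⟨A', h2, h3⟩
  obtain ⟨i, j, hi, hij⟩ := c1
  obtain ⟨k, l, hk, hkl⟩ := c2
  rw [Subgroup.card_top, card_lin B.hN] at hk
  -- at least two Sylow `b`-subgroups
  have hm : 2 ≤ Nat.card (Sylow b H) := by
    have h1 : 1 < Nat.card (Sylow b H) := by
      rw [Finite.one_lt_card_iff_nontrivial]
      let _ := linAct N H
      have hv1 : v0 ≠ 1 := by
        rintro rfl
        exact hv0 ((linAct N H).smul_one h0)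
      obtain ⟨A', -, h2, h3⟩ := uB v0 hv1
      refine ⟨R, A', ?_⟩
      rintro rfl
      exact hv0 (h2 h0 hh0)
    omega
  have hk1 : 1 ≤ k := by
    rcases Nat.eq_zero_or_pos k with h | h
    · exfalso
      rw [h, pow_zero] at hk
      exact B.hN1 (Subgroup.card_eq_one.1 hk)
    · exact h
  -- an element of `[P, A]` not centralised by `A`
  obtain ⟨x0, hx0, α0, hα0, hyD⟩ : ∃ x0 : G, ∃ hx0 : x0 ∈ P, ∃ α0 : H, ∃ _ : α0 ∈ (A : Subgroup H),
      (⟨x0 * α0 * x0⁻¹ * (α0 : G)⁻¹, by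
        have : x0 * α0 * x0⁻¹ * (α0 : G)⁻¹ = x0 * (α0 * x0⁻¹ * (α0 : G)⁻¹) := by group
        rw [this]
        exact P.mul_mem hx0 (hPn.conj_mem _ (P.inv_mem hx0) _)⟩ : P) ∉ D := by
    by_contra hcon
    push Not at hcon
    apply B.not_central haP B.c.da A hA hAc
    intro α hα y hy
    have h1 := hcon y hy α hα
    have h2 : ⁅y, (α : G)⁆ ∈ P := by
      rw [commutatorElement_def]
      have : y * α * y⁻¹ * (α : G)⁻¹ = y * (α * y⁻¹ * (α : G)⁻¹) := by group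
      rw [this]
      exact P.mul_mem hy (hPn.conj_mem _ (P.inv_mem hy) _)
    have h3 : Commute ⁅y, (α : G)⁆ (α : G) := (h1 α hα).symm
    exact (Lib.CoprimeStab.commute_of_commutator_commute (B.cop α.2) h2 h3).eq.symm
  set y : G := x0 * α0 * x0⁻¹ * (α0 : G)⁻¹ with hy
  have hyP : y ∈ P := by
    have : y = x0 * (α0 * x0⁻¹ * (α0 : G)⁻¹) := by rw [hy]; group
    rw [this]
    exact P.mul_mem hx0 (hPn.conj_mem _ (P.inv_mem hx0) _)
  have hyD' : (⟨y, hyP⟩ : P) ∉ D := hyD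
  -- `D` centralises `y`
  have hDy : ∀ d : ↥P, d ∈ D → (d : G) * y = y * d := by
    intro d hd
    have e1 := hd α0 hα0
    have hn : x0⁻¹ * d * x0 * (d : G)⁻¹ ∈ N := by
      have := B.hPcN x0⁻¹ (P.inv_mem hx0) d d.2
      rwa [inv_inv] at this
    set n := x0⁻¹ * d * x0 * (d : G)⁻¹ with hndef
    have e2 : (d : G) * x0 * (d : G)⁻¹ = x0 * n := by rw [hndef]; group
    have e3 := hAN α0 hα0 n hn
    have e1' : (d : G) * α0 * (d : G)⁻¹ = α0 := by rw [← e1, mul_inv_cancel_right]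
    have e6 : (d : G) * y * (d : G)⁻¹ = y := by
      calc (d : G) * y * (d : G)⁻¹ = ((d : G) * x0 * (d : G)⁻¹) * ((d : G) * α0 * (d : G)⁻¹) *
            ((d : G) * x0 * (d : G)⁻¹)⁻¹ * ((d : G) * α0 * (d : G)⁻¹)⁻¹ := by rw [hy]; group
        _ = (x0 * n) * α0 * (x0 * n)⁻¹ * (α0 : G)⁻¹ := by rw [e2, e1']
        _ = x0 * (n * α0) * n⁻¹ * x0⁻¹ * (α0 : G)⁻¹ := by group
        _ = x0 * (α0 * n) * n⁻¹ * x0⁻¹ * (α0 : G)⁻¹ := by rw [e3]
        _ = y := by rw [hy]; group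
    calc (d : G) * y = ((d : G) * y * (d : G)⁻¹) * d := by group
      _ = y * d := by rw [e6]
  -- the commutator map
  let φ : ↥P →* ↥N :=
    { toFun := fun x => ⟨x * y * (x : G)⁻¹ * y⁻¹, B.hPcN x x.2 y hyP⟩
      map_one' := Subtype.ext (by
        change ((1 : P) : G) * y * ((1 : P) : G)⁻¹ * y⁻¹ = 1
        rw [OneMemClass.coe_one]; group)
      map_mul' := by
        intro x x'
        apply Subtype.ext
        change ((x * x' : P) : G) * y * ((x * x' : P) : G)⁻¹ * y⁻¹ =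
          ((x : G) * y * (x : G)⁻¹ * y⁻¹) * ((x' : G) * y * (x' : G)⁻¹ * y⁻¹)
        rw [Subgroup.coe_mul]
        have h1 := B.hPcN x' x'.2 y hyP
        have h2 := B.hNz x x.2 _ h1
        have h3 := B.hNz _ (B.hNP (B.hPcN x x.2 y hyP)) _ h1
        rw [h3]
        calc (x : G) * x' * y * ((x : G) * x')⁻¹ * y⁻¹
            = ((x : G) * (x' * y * (x' : G)⁻¹ * y⁻¹)) * y * (x : G)⁻¹ * y⁻¹ := by group
          _ = ((x' * y * (x' : G)⁻¹ * y⁻¹) * x) * y * (x : G)⁻¹ * y⁻¹ := by rw [h2]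
          _ = _ := by group }
  have hφ : ∀ x : ↥P, ((φ x : ↥N) : G) = x * y * (x : G)⁻¹ * y⁻¹ := fun x => rfl
  have hsurj : φ.range = ⊤ := by
    by_contra hne
    obtain ⟨n, hn⟩ : ∃ n : ↥N, n ∉ φ.range := by
      by_contra hcon
      push Not at hcon
      exact hne (eq_top_iff.2 fun n _ => hcon n)
    have hNc : ∀ x z : ↥N, x * z * x⁻¹ * z⁻¹ = 1 := by
      intro x z
      have : x * z = z * x := Subtype.ext (B.hN x x.2 z z.2)
      rw [this]; group
    have hrn : φ.range.Normal := by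
      constructor
      intro x hx g
      have : g * x * g⁻¹ = x := by
        have h1 : g * x = x * g := Subtype.ext (B.hN g g.2 x x.2)
        rw [h1, mul_inv_cancel_right]
      rwa [this]
    obtain ⟨lam, h1, h2⟩ := exists_lin φ.range (fun x z => by rw [hNc]; exact Subgroup.one_mem _) hn
    have hl1 : lam ≠ 1 := by
      rintro rfl
      exact h1 rfl
    apply hyD'
    intro x hx
    apply B.commute_of_mem x.2 (hAN x hx)
    exact B.star B.c.ta A hA hAN hl1 hyP (fun z hz => h2 _ ⟨⟨z, hz⟩, rfl⟩) x hx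
  have hker : D < φ.ker := by
    refine lt_of_le_of_ne ?_ ?_
    · intro d hd
      rw [MonoidHom.mem_ker]
      apply Subtype.ext
      rw [hφ, hDy d hd]
      change y * (d : G) * (d : G)⁻¹ * y⁻¹ = 1
      group
    · intro h
      apply hyD'
      rw [h, MonoidHom.mem_ker]
      apply Subtype.ext
      rw [hφ]
      change y * y * y⁻¹ * y⁻¹ = 1
      group
  have hidx : φ.ker.index = Nat.card N := by
    rw [Subgroup.index_ker, hsurj, Subgroup.card_top]
  have h1 := Subgroup.index_strictAnti hker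
  rw [hidx] at h1
  have hi1 : 1 ≤ i := by
    rcases Nat.eq_zero_or_pos i with h | h
    · exfalso
      rw [h, pow_zero] at hi
      have : 0 < Nat.card N := Nat.card_pos
      omega
    · exact h
  have h2 := pow_eq ht.out hm hi1 hk1 hij hkl
  rw [← hi, ← hk] at h2
  omega

end

end Cfsg.Agent.H748.Palfy
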