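import Cfsg.Agent.H924.TenMain
import Cfsg.Agent.H748.QThreeOrbit

/-!
# `Sp_2(3) ⊗ O_4^-(3)` in `Sp_8(3)`: pure singular vectors form an orbit (helper748; task 208 of helper919)
-/

set_option autoImplicit false
set_option linter.unusedSectionVars false

open Cfsg Cfsg.Geo Matrix
open scoped Kronecker

namespace Cfsg.Agent.H748.QThree

open Cfsg.Agent.H929 (QF rB)
open Cfsg.Agent.H872 Cfsg.Agent.H924.Ten

variable {β : Type} [Fintype β] [DecidableEq β] {F : Type*} [Field F]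
variable {f₁ : (Fin 2 → F) → (Fin 2 → F) → F} {Q : (β → F) → F} {B : (β → F) → (β → F) → F}
  {f : (Fin 2 × β → F) → (Fin 2 × β → F) → F}

/-- the vector with given digits -/
def Y (s t w z : β → F) (a : D4) : β → F :=
  ((a.1 : ℕ) : F) • s + ((a.2.1 : ℕ) : F) • t + ((a.2.2.1 : ℕ) : F) • w + ((a.2.2.2 : ℕ) : F) • z

section pairings

variable (T : Tens f₁ Q B f) {s t w z : β → F} (hfr : Frame B s t w z)

include T hfr

theorem B_s_Y (b : D4) : B s (Y s t w z b) = ((b.2.1 : ℕ) : F) := by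
  rw [Y, T.qf.add_right, T.qf.add_right, T.qf.add_right, T.qf.smul_right, T.qf.smul_right, T.qf.smul_right,
    T.qf.smul_right, hfr.ss, hfr.st, hfr.sw, hfr.sz]
  ring

theorem B_t_Y (b : D4) : B t (Y s t w z b) = ((b.1 : ℕ) : F) := by
  rw [Y, T.qf.add_right, T.qf.add_right, T.qf.add_right, T.qf.smul_right, T.qf.smul_right, T.qf.smul_right,
    T.qf.smul_right, T.qf.comm t s, hfr.tt, hfr.st, hfr.tw, hfr.tz]
  ring

theorem B_w_Y (b : D4) : B w (Y s t w z b) = ((b.2.2.1 : ℕ) : F) := by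
  rw [Y, T.qf.add_right, T.qf.add_right, T.qf.add_right, T.qf.smul_right, T.qf.smul_right, T.qf.smul_right,
    T.qf.smul_right, T.qf.comm w s, T.qf.comm w t, hfr.sw, hfr.tw, hfr.ww, hfr.wz]
  ring

theorem B_z_Y (b : D4) : B z (Y s t w z b) = ((b.2.2.2 : ℕ) : F) := by
  rw [Y, T.qf.add_right, T.qf.add_right, T.qf.add_right, T.qf.smul_right, T.qf.smul_right, T.qf.smul_right,
    T.qf.smul_right, T.qf.comm z s, T.qf.comm z t, T.qf.comm z w, hfr.sz, hfr.tz, hfr.wz, hfr.zz]
  ring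

theorem B_Y_Y (a b : D4) : B (Y s t w z a) (Y s t w z b) =
    ((gr a.1 a.2.1 a.2.2.1 a.2.2.2 b.1 b.2.1 b.2.2.1 b.2.2.2 : ℕ) : F) := by
  conv_lhs => rw [Y]
  rw [T.qf.add_left, T.qf.add_left, T.qf.add_left, T.qf.smul_left, T.qf.smul_left, T.qf.smul_left,
    T.qf.smul_left, B_s_Y T hfr, B_t_Y T hfr, B_w_Y T hfr, B_z_Y T hfr, gr]
  push_cast
  ring

end pairings

theorem cast_mod [CharP F 3] (n k : ℕ) (hk : k < 3) : (n : F) = (k : F) ↔ n % 3 = k := by
  rw [CharP.natCast_eq_natCast F 3, Nat.ModEq, Nat.mod_eq_of_lt hk]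

theorem Y_inj (T : Tens f₁ Q B f) {s t w z : β → F} (hfr : Frame B s t w z) [CharP F 3] :
    Function.Injective (Y s t w z) := by
  intro a b h
  have key : ∀ m n : Fin 3, ((m : ℕ) : F) = ((n : ℕ) : F) → m = n := by
    intro m n hmn
    rw [cast_mod _ _ n.2, Nat.mod_eq_of_lt m.2] at hmn
    exact Fin.ext hmn
  have h1 := congrArg (B t) h
  have h2 := congrArg (B s) h
  have h3 := congrArg (B w) h
  have h4 := congrArg (B z) h
  rw [B_t_Y T hfr, B_t_Y T hfr] at h1
  rw [B_s_Y T hfr, B_s_Y T hfr] at h2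
  rw [B_w_Y T hfr, B_w_Y T hfr] at h3
  rw [B_z_Y T hfr, B_z_Y T hfr] at h4
  exact Prod.ext (key _ _ h1) (Prod.ext (key _ _ h2) (Prod.ext (key _ _ h3) (key _ _ h4)))

/-- the parametrization of the space by digits -/
noncomputable def Psi [Fintype F] (hF : Fintype.card F = 3) (hβ : Fintype.card β = 4) [CharP F 3]
    (T : Tens f₁ Q B f) {s t w z : β → F} (hfr : Frame B s t w z) : D4 × D4 ≃ (Fin 2 × β → F) :=
  Equiv.ofBijective (fun x => vec (Y s t w z x.1) (Y s t w z x.2)) (by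
    classical
    rw [Fintype.bijective_iff_injective_and_card]
    constructor
    · intro x y h
      have h0 := congrArg (fun v => row v 0) h
      have h1 := congrArg (fun v => row v 1) h
      simp only [row_vec_zero, row_vec_one] at h0 h1
      exact Prod.ext (Y_inj T hfr h0) (Y_inj T hfr h1)
    · rw [Fintype.card_pi]
      simp [hF, hβ, D4])

/-- the number of vectors in the union of orbits, orthogonal to `x` -/
noncomputable def K (B : (β → F) → (β → F) → F) (f : (Fin 2 × β → F) → (Fin 2 × β → F) → F) (e1 e2 : Bool)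
    (x : Fin 2 × β → F) : ℕ :=
  Nat.card {v : Fin 2 × β → F // (gzero B v ∨ (e1 = true ∧ gdet B v = 1) ∨ (e2 = true ∧ gdet B v = -1)) ∧ f x v = 0}

theorem K_eq [Fintype F] (hF : Fintype.card F = 3) (hβ : Fintype.card β = 4) [CharP F 3]
    (T : Tens f₁ Q B f) {s t w z : β → F} (hfr : Frame B s t w z) (e1 e2 : Bool) (x : Fin 2 × β → F)
    (o : ℕ → ℕ → ℕ → ℕ → ℕ → ℕ → ℕ → ℕ → Bool)
    (ho : ∀ a b : D4, f x (vec (Y s t w z a) (Y s t w z b)) = 0 ↔
      o a.1 a.2.1 a.2.2.1 a.2.2.2 b.1 b.2.1 b.2.2.1 b.2.2.2 = true) :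
    K B f e1 e2 x = cnt (fun a0 a1 a2 a3 b0 b1 b2 b3 => inS e1 e2 a0 a1 a2 a3 b0 b1 b2 b3 && o a0 a1 a2 a3 b0 b1 b2 b3) := by
  rw [K, ← card_eq_cnt]
  refine (Nat.card_congr (Equiv.subtypeEquiv (Psi hF hβ T hfr) ?_)).symm
  rintro ⟨a, b⟩
  change _ ↔ (gzero B (vec (Y s t w z a) (Y s t w z b)) ∨ (e1 = true ∧ gdet B (vec (Y s t w z a) (Y s t w z b)) = 1) ∨
    (e2 = true ∧ gdet B (vec (Y s t w z a) (Y s t w z b)) = -1)) ∧ f x (vec (Y s t w z a) (Y s t w z b)) = 0
  rw [ho, Bool.and_eq_true]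
  apply and_congr_left'
  have h2 : (-1 : F) = ((2 : ℕ) : F) := by
    have := CharP.cast_eq_zero F 3
    push_cast at this ⊢
    linear_combination (-1 : F) * this
  have hd : gdet B (vec (Y s t w z a) (Y s t w z b)) =
      ((gr a.1 a.2.1 a.2.2.1 a.2.2.2 a.1 a.2.1 a.2.2.1 a.2.2.2 * gr b.1 b.2.1 b.2.2.1 b.2.2.2 b.1 b.2.1 b.2.2.1 b.2.2.2 +
        2 * (gr a.1 a.2.1 a.2.2.1 a.2.2.2 b.1 b.2.1 b.2.2.1 b.2.2.2 * gr a.1 a.2.1 a.2.2.1 a.2.2.2 b.1 b.2.1 b.2.2.1 b.2.2.2) :
        ℕ) : F) := by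
    rw [gdet, row_vec_zero, row_vec_one, B_Y_Y T hfr, B_Y_Y T hfr, B_Y_Y T hfr]
    push_cast
    push_cast at h2
    rw [← h2]
    ring
  have hz : gzero B (vec (Y s t w z a) (Y s t w z b)) ↔
      gr a.1 a.2.1 a.2.2.1 a.2.2.2 a.1 a.2.1 a.2.2.1 a.2.2.2 % 3 = 0 ∧
      gr a.1 a.2.1 a.2.2.1 a.2.2.2 b.1 b.2.1 b.2.2.1 b.2.2.2 % 3 = 0 ∧
      gr b.1 b.2.1 b.2.2.1 b.2.2.2 b.1 b.2.1 b.2.2.1 b.2.2.2 % 3 = 0 := by
    rw [gzero, row_vec_zero, row_vec_one, B_Y_Y T hfr, B_Y_Y T hfr, B_Y_Y T hfr, ← Nat.cast_zero (R := F),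
      cast_mod _ 0 (by norm_num), cast_mod _ 0 (by norm_num), cast_mod _ 0 (by norm_num)]
  rw [hz, hd, h2, ← Nat.cast_one (R := F), cast_mod _ 1 (by norm_num), cast_mod _ 2 (by norm_num), inS]
  simp only [Bool.or_eq_true, Bool.and_eq_true, beq_iff_eq, and_assoc, or_assoc]

variable (T : Tens f₁ Q B f) {M : Subgroup (GL (Fin 2 × β) F)} (hM : Grp f₁ B f M)

include T hM

theorem K_const [Finite F] {e1 e2 : Bool}
    (hinv : ∀ g ∈ M, ∀ v, (gzero B v ∨ (e1 = true ∧ gdet B v = 1) ∨ (e2 = true ∧ gdet B v = -1)) →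
      (gzero B ((g : Matrix (Fin 2 × β) (Fin 2 × β) F) *ᵥ v) ∨
        (e1 = true ∧ gdet B ((g : Matrix (Fin 2 × β) (Fin 2 × β) F) *ᵥ v) = 1) ∨
        (e2 = true ∧ gdet B ((g : Matrix (Fin 2 × β) (Fin 2 × β) F) *ᵥ v) = -1)))
    (g : GL (Fin 2 × β) F) (hg : g ∈ M) (x : Fin 2 × β → F) :
    K B f e1 e2 x ≤ K B f e1 e2 ((g : Matrix (Fin 2 × β) (Fin 2 × β) F) *ᵥ x) := by
  unfold K
  refine Nat.card_le_card_of_injective (fun v => ⟨(g : Matrix (Fin 2 × β) (Fin 2 × β) F) *ᵥ v.1,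
    hinv g hg _ v.2.1, by rw [hM.iso g hg]; exact v.2.2⟩) ?_
  intro v v' h
  have h1 : (g : Matrix (Fin 2 × β) (Fin 2 × β) F) *ᵥ v.1 = (g : Matrix (Fin 2 × β) (Fin 2 × β) F) *ᵥ v'.1 :=
    congrArg Subtype.val h
  apply Subtype.ext
  have h2 := congrArg (fun u => ((g⁻¹ : GL (Fin 2 × β) F) : Matrix (Fin 2 × β) (Fin 2 × β) F) *ᵥ u) h1
  simp only [mulVec_mulVec] at h2
  rw [← Units.val_mul, inv_mul_cancel] at h2
  simpa using h2

omit hM

/-- isotropic row spaces are one-dimensional. -/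
theorem gzero_pure (hminus : ∀ x y : β → F, Q x = 0 → Q y = 0 → B x y = 0 → ∃ c d : F, (c ≠ 0 ∨ d ≠ 0) ∧ c • x + d • y = 0)
    {v : Fin 2 × β → F} (hv : v ≠ 0) (h : gzero B v) : ∃ u y, u ≠ 0 ∧ y ≠ 0 ∧ Q y = 0 ∧ ten u y = v := by
  obtain ⟨h0, h01, h1⟩ := h
  have hQ0 : Q (row v 0) = 0 := by
    rw [T.qf.self] at h0
    exact (mul_eq_zero.1 h0).resolve_left T.two
  have hQ1 : Q (row v 1) = 0 := by
    rw [T.qf.self] at h1
    exact (mul_eq_zero.1 h1).resolve_left T.two
  have hfin : ∀ (u : Fin 2 → F) (y : β → F), Q y = 0 → ten u y = v → ∃ u y, u ≠ 0 ∧ y ≠ 0 ∧ Q y = 0 ∧ ten u y = v := by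
    intro u y hy hten
    refine ⟨u, y, ?_, ?_, hy, hten⟩
    · rintro rfl
      apply hv
      rw [← hten]
      funext ij
      simp [ten_apply]
    · rintro rfl
      apply hv
      rw [← hten]
      funext ij
      simp [ten_apply]
  obtain ⟨c, d, hcd, he⟩ := hminus _ _ hQ0 hQ1 h01
  by_cases hc : c = 0
  · have hd : d ≠ 0 := by
      rcases hcd with h | h
      · exact absurd hc h
      · exact h
    rw [hc, zero_smul, zero_add] at he
    have h1' : row v 1 = 0 := (smul_eq_zero.1 he).resolve_left hd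
    apply hfin (Pi.single 0 1) (row v 0) hQ0
    rw [ten_eq_vec]
    conv_rhs => rw [← vec_row v]
    rw [h1']
    simp
  · have h0' : row v 0 = (-(d / c)) • row v 1 := by
      have h2 : c • row v 0 = c • ((-(d / c)) • row v 1) := by
        rw [smul_smul]
        have : c * -(d / c) = -d := by field_simp
        rw [this, neg_smul]
        exact eq_neg_of_add_eq_zero_left he
      exact smul_right_injective _ hc h2
    apply hfin ![-(d / c), 1] (row v 1) hQ1
    rw [ten_eq_vec]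
    conv_rhs => rw [← vec_row v]
    rw [h0']
    simp

include hM

/-- **The orbit of a pure singular vector in `Sp_2(3) ⊗ O_4^-(3)`.** -/
theorem q3_orbit [Fintype F] (hF : Fintype.card F = 3) (hβ : Fintype.card β = 4)
    (hminus : ∀ x y : β → F, Q x = 0 → Q y = 0 → B x y = 0 → ∃ c d : F, (c ≠ 0 ∨ d ≠ 0) ∧ c • x + d • y = 0)
    {e : Fin 2 → F} {s : β → F} (he : e ≠ 0) (hs : s ≠ 0) (hQs : Q s = 0)
    (hS : ∀ g ∈ M, (∃ u w, Q w = 0 ∧ (g : Matrix (Fin 2 × β) (Fin 2 × β) F) *ᵥ ten e s = ten u w) ∨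
      (let v := (g : Matrix (Fin 2 × β) (Fin 2 × β) F) *ᵥ ten e s;
        B (fun j => v (0, j)) (fun j => v (0, j)) * B (fun j => v (1, j)) (fun j => v (1, j)) -
          B (fun j => v (0, j)) (fun j => v (1, j)) ^ 2 ≠ 0)) :
    ∀ g ∈ M, ∃ u w, Q w = 0 ∧ (g : Matrix (Fin 2 × β) (Fin 2 × β) F) *ᵥ ten e s = ten u w := by
  classical
  have hch : CharP F 3 := by
    have : Fact (Nat.Prime 3) := ⟨Nat.prime_three⟩
    exact charP_of_card_eq_prime hF
  have hcases : ∀ c : F, c = 0 ∨ c = 1 ∨ c = -1 := by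
    intro c
    have h1 : c ^ 3 = c := by
      have := FiniteField.pow_card c
      rwa [hF] at this
    have h2 : c * ((c - 1) * (c + 1)) = 0 := by linear_combination h1
    rcases mul_eq_zero.1 h2 with h | h
    · exact Or.inl h
    · rcases mul_eq_zero.1 h with h | h
      · exact Or.inr (Or.inl (sub_eq_zero.1 h))
      · exact Or.inr (Or.inr (eq_neg_of_add_eq_zero_left h))
  have h2F : (-1 : F) = ((2 : ℕ) : F) := by
    have := CharP.cast_eq_zero F 3
    push_cast at this ⊢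
    linear_combination (-1 : F) * this
  obtain ⟨t, w, z, hfr⟩ := exists_frame T hF hβ hminus hs hQs
  -- surjection from `ZMod 3`
  let φ : ZMod 3 →+* F := ZMod.castHom (dvd_refl 3) F
  have hφ : ∀ c : F, ∃ c' : ZMod 3, φ c' = c := by
    intro c
    rcases hcases c with h | h | h
    · exact ⟨0, by rw [h, map_zero]⟩
    · exact ⟨1, by rw [h, map_one]⟩
    · exact ⟨-1, by rw [h, map_neg, map_one]⟩
  have hφi : Function.Injective φ := φ.injective
  -- transitivity on the vectors of determinant one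
  have T1 : ∀ v : Fin 2 × β → F, gdet B v = 1 → ∃ h ∈ M, (h : Matrix (Fin 2 × β) (Fin 2 × β) F) *ᵥ v = vec w z := by
    intro v hv
    obtain ⟨p, hp⟩ := hφ (B (row v 0) (row v 0))
    obtain ⟨q, hq⟩ := hφ (B (row v 0) (row v 1))
    obtain ⟨r, hr⟩ := hφ (B (row v 1) (row v 1))
    obtain ⟨a, b, c, d, h0, h1, h2, h3⟩ := congr_one p q r (by
      apply hφi
      rw [map_sub, map_mul, map_pow, hp, hq, hr, map_one]
      exact hv)
    have e0 := congrArg φ h0
    have e1 := congrArg φ h1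
    have e2 := congrArg φ h2
    have e3 := congrArg φ h3
    simp only [map_sub, map_add, map_mul, map_one, map_zero, map_ofNat, hp, hq, hr] at e0 e1 e2 e3
    have hgo := exists_move T hM !![φ a, φ b; φ c, φ d] (v0 := row v 0) (v1 := row v 1) (x := w) (y := z)
      (by simpa using e0) (by rw [hfr.ww, hfr.zz, hfr.wz]; simp) (by
        rw [gram_expand T, hfr.ww]
        simp only [Matrix.of_apply, Matrix.cons_val', Matrix.cons_val_zero, Matrix.cons_val_one, Matrix.cons_val_fin_one]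
        linear_combination e1) (by
        rw [gram_expand T, hfr.wz]
        simp only [Matrix.of_apply, Matrix.cons_val', Matrix.cons_val_zero, Matrix.cons_val_one, Matrix.cons_val_fin_one]
        linear_combination e2) (by
        rw [gram_expand T, hfr.zz]
        simp only [Matrix.of_apply, Matrix.cons_val', Matrix.cons_val_zero, Matrix.cons_val_one, Matrix.cons_val_fin_one]
        linear_combination e3)
    rwa [vec_row] at hgo
  have T2 : ∀ v : Fin 2 × β → F, gdet B v = -1 → ∃ h ∈ M, (h : Matrix (Fin 2 × β) (Fin 2 × β) F) *ᵥ v = vec s t := by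
    intro v hv
    obtain ⟨p, hp⟩ := hφ (B (row v 0) (row v 0))
    obtain ⟨q, hq⟩ := hφ (B (row v 0) (row v 1))
    obtain ⟨r, hr⟩ := hφ (B (row v 1) (row v 1))
    obtain ⟨a, b, c, d, h0, h1, h2, h3⟩ := congr_two p q r (by
      apply hφi
      rw [map_sub, map_mul, map_pow, hp, hq, hr, map_neg, map_one]
      exact hv)
    have e0 := congrArg φ h0
    have e1 := congrArg φ h1
    have e2 := congrArg φ h2
    have e3 := congrArg φ h3
    simp only [map_sub, map_add, map_mul, map_one, map_zero, map_ofNat, hp, hq, hr] at e0 e1 e2 e3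
    have hgo := exists_move T hM !![φ a, φ b; φ c, φ d] (v0 := row v 0) (v1 := row v 1) (x := s) (y := t)
      (by simpa using e0) (by rw [hfr.ss, hfr.tt, hfr.st]; simp) (by
        rw [gram_expand T, hfr.ss]
        simp only [Matrix.of_apply, Matrix.cons_val', Matrix.cons_val_zero, Matrix.cons_val_one, Matrix.cons_val_fin_one]
        linear_combination e1) (by
        rw [gram_expand T, hfr.st]
        simp only [Matrix.of_apply, Matrix.cons_val', Matrix.cons_val_zero, Matrix.cons_val_one, Matrix.cons_val_fin_one]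
        linear_combination e2) (by
        rw [gram_expand T, hfr.tt]
        simp only [Matrix.of_apply, Matrix.cons_val', Matrix.cons_val_zero, Matrix.cons_val_one, Matrix.cons_val_fin_one]
        linear_combination e3)
    rwa [vec_row] at hgo
  -- the orbit
  set O : Set (Fin 2 × β → F) := {v | ∃ g ∈ M, (g : Matrix (Fin 2 × β) (Fin 2 × β) F) *ᵥ ten e s = v} with hO
  have hOin : ∀ g ∈ M, ∀ v, v ∈ O → (g : Matrix (Fin 2 × β) (Fin 2 × β) F) *ᵥ v ∈ O := by
    rintro g hg v ⟨k, hk, rfl⟩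
    exact ⟨g * k, M.mul_mem hg hk, by rw [Units.val_mul, ← mulVec_mulVec]⟩
  have hOout : ∀ g ∈ M, ∀ v, (g : Matrix (Fin 2 × β) (Fin 2 × β) F) *ᵥ v ∈ O → v ∈ O := by
    intro g hg v hv
    have h1 := hOin g⁻¹ (M.inv_mem hg) _ hv
    rw [mulVec_mulVec, ← Units.val_mul, inv_mul_cancel] at h1
    simpa using h1
  have hx1 : vec s 0 ∈ O := by
    obtain ⟨h, hh, hhe⟩ := exists_move_zero T hM he hs hs hQs hQs
    refine ⟨h, hh, ?_⟩
    rw [hhe, ten_eq_vec]
    simp
  set e1 : Bool := decide (vec w z ∈ O) with he1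
  set e2 : Bool := decide (vec s t ∈ O) with he2
  have hdesc : ∀ v, (gzero B v ∨ (e1 = true ∧ gdet B v = 1) ∨ (e2 = true ∧ gdet B v = -1)) ↔ v = 0 ∨ v ∈ O := by
    intro v
    constructor
    · rintro (h | ⟨h, h'⟩ | ⟨h, h'⟩)
      · by_cases hv : v = 0
        · exact Or.inl hv
        · right
          obtain ⟨u, y, hu, hy, hQy, hten⟩ := gzero_pure T hminus hv h
          obtain ⟨k, hk, hke⟩ := exists_move_zero T hM hu hy hs hQy hQs
          apply hOout k hk
          rw [← hten, hke, ten_eq_vec]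
          simpa using hx1
      · right
        obtain ⟨k, hk, hke⟩ := T1 v h'
        apply hOout k hk
        rw [hke]
        exact of_decide_eq_true h
      · right
        obtain ⟨k, hk, hke⟩ := T2 v h'
        apply hOout k hk
        rw [hke]
        exact of_decide_eq_true h
    · rintro (rfl | ⟨g, hg, rfl⟩)
      · left
        have h0 : ∀ i, row (0 : Fin 2 × β → F) i = 0 := fun i => rfl
        rw [gzero, h0, h0, T.qf.zero_left]
        simp
      · rcases hS g hg with ⟨u, y, hQy, hten⟩ | hne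
        · left
          rw [hten, ten_eq_vec, gzero, row_vec_zero, row_vec_one]
          have : B y y = 0 := by rw [T.qf.self, hQy, mul_zero]
          simp only [T.qf.smul_left, T.qf.smul_right, this, mul_zero, and_self]
        · right
          have hmem : (g : Matrix (Fin 2 × β) (Fin 2 × β) F) *ᵥ ten e s ∈ O := ⟨g, hg, rfl⟩
          rcases hcases (gdet B ((g : Matrix (Fin 2 × β) (Fin 2 × β) F) *ᵥ ten e s)) with h | h | h
          · exact absurd h hne
          · left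
            refine ⟨?_, h⟩
            obtain ⟨k, hk, hke⟩ := T1 _ h
            apply decide_eq_true
            rw [← hke]
            exact hOin k hk _ hmem
          · right
            refine ⟨?_, h⟩
            obtain ⟨k, hk, hke⟩ := T2 _ h
            apply decide_eq_true
            rw [← hke]
            exact hOin k hk _ hmem
  have hinv : ∀ g ∈ M, ∀ v, (gzero B v ∨ (e1 = true ∧ gdet B v = 1) ∨ (e2 = true ∧ gdet B v = -1)) →
      (gzero B ((g : Matrix (Fin 2 × β) (Fin 2 × β) F) *ᵥ v) ∨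
        (e1 = true ∧ gdet B ((g : Matrix (Fin 2 × β) (Fin 2 × β) F) *ᵥ v) = 1) ∨
        (e2 = true ∧ gdet B ((g : Matrix (Fin 2 × β) (Fin 2 × β) F) *ᵥ v) = -1)) := by
    intro g hg v hv
    rw [hdesc] at hv ⊢
    rcases hv with rfl | hv
    · left; simp
    · exact Or.inr (hOin g hg v hv)
  have hK : ∀ v ∈ O, K B f e1 e2 v = K B f e1 e2 (ten e s) := by
    rintro v ⟨g, hg, rfl⟩
    apply le_antisymm
    · have := K_const T hM hinv g⁻¹ (M.inv_mem hg) ((g : Matrix (Fin 2 × β) (Fin 2 × β) F) *ᵥ ten e s)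
      rw [mulVec_mulVec, ← Units.val_mul, inv_mul_cancel] at this
      simpa using this
    · exact K_const T hM hinv g hg (ten e s)
  have hc0 : f₁ (Pi.single 0 1) (Pi.single 1 1) ≠ 0 := f₁_ne T
  -- the three counts
  have k0 : K B f e1 e2 (vec s 0) = _ := K_eq hF hβ T hfr e1 e2 (vec s 0) o0 (by
    intro a b
    rw [form_vec T, T.qf.zero_left, sub_zero, mul_eq_zero, or_iff_right hc0, B_s_Y T hfr, o0, beq_iff_eq,
      ← Nat.cast_zero (R := F), cast_mod _ 0 (by norm_num)])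
  have k1 : K B f e1 e2 (vec w z) = _ := K_eq hF hβ T hfr e1 e2 (vec w z) o1 (by
    intro a b
    rw [form_vec T, mul_eq_zero, or_iff_right hc0, B_w_Y T hfr, B_z_Y T hfr, o1, beq_iff_eq,
      ← cast_mod (F := F) _ 0 (by norm_num), sub_eq_add_neg, ← neg_one_mul, h2F]
    push_cast
    rfl)
  have k2 : K B f e1 e2 (vec s t) = _ := K_eq hF hβ T hfr e1 e2 (vec s t) o2 (by
    intro a b
    rw [form_vec T, mul_eq_zero, or_iff_right hc0, B_s_Y T hfr, B_t_Y T hfr, o2, beq_iff_eq,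
      ← cast_mod (F := F) _ 0 (by norm_num), sub_eq_add_neg, ← neg_one_mul, h2F]
    push_cast
    rfl)
  by_contra hcon
  have h12 : e1 = true ∨ e2 = true := by
    push Not at hcon
    obtain ⟨g, hg, hne⟩ := hcon
    rcases hS g hg with ⟨u, y, hQy, hten⟩ | hne'
    · exact absurd hten (hne u y hQy)
    · have hmem : (g : Matrix (Fin 2 × β) (Fin 2 × β) F) *ᵥ ten e s ∈ O := ⟨g, hg, rfl⟩
      rcases hcases (gdet B ((g : Matrix (Fin 2 × β) (Fin 2 × β) F) *ᵥ ten e s)) with h | h | h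
      · exact absurd h hne'
      · left
        obtain ⟨k, hk, hke⟩ := T1 _ h
        apply decide_eq_true
        rw [← hke]
        exact hOin k hk _ hmem
      · right
        obtain ⟨k, hk, hke⟩ := T2 _ h
        apply decide_eq_true
        rw [← hke]
        exact hOin k hk _ hmem
  have hm1 : e1 = true → K B f e1 e2 (vec s 0) = K B f e1 e2 (vec w z) := by
    intro h
    rw [hK _ hx1, hK _ (of_decide_eq_true h)]
  have hm2 : e2 = true → K B f e1 e2 (vec s 0) = K B f e1 e2 (vec s t) := by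
    intro h
    rw [hK _ hx1, hK _ (of_decide_eq_true h)]
  clear_value e1 e2
  rw [k0, k1] at hm1
  rw [k0, k2] at hm2
  rcases e1 with _ | _ <;> rcases e2 with _ | _
  · simp at h12
  · have := hm2 rfl
    rw [e10, e12] at this
    omega
  · have := hm1 rfl
    rw [c10, c11] at this
    omega
  · have := hm1 rfl
    rw [d10, d11] at this
    omega

end Cfsg.Agent.H748.QThree
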