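import Cfsg.Agent.H255.RankTools
import Cfsg.Agent.SuzukiRankOne.PSUModel
import Cfsg.Agent.AschCrit.PSUTorus

/-!
# `PSU₃(2^n)` has the property `ZP` (helper748; task 112 of helper255)
-/

set_option autoImplicit false

namespace Cfsg.Agent.H748.RoPSU

open Cfsg.Agent.LieRecognition.RankOneAbstract Cfsg.Agent.H255 Cfsg.Agent.H255.RankOne Cfsg.Agent.H255.RankTools
open Matrix Cfsg.Agent.LieRecognition Cfsg.Agent.LieRecognition.HermHeis
  Cfsg.Agent.LieRecognition.PSUThreeSylow Cfsg.Agent.SuzukiRankOne Cfsg.Agent.SuzukiRankOne.PSUModel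
  Cfsg.Agent.AschCrit.PSUTorus

/-! ### A lemma on finite fields of characteristic two -/

section FieldLemma

variable {F : Type*} [Field F] [Finite F] [CharP F 2]

/-- `x ↦ x² + x` -/
def ash (F : Type*) [Field F] [CharP F 2] : F →+ F where
  toFun x := x ^ 2 + x
  map_zero' := by simp
  map_add' x y := by
    have := CharTwo.two_eq_zero (R := F)
    linear_combination x * y * this

omit [Finite F] in
theorem card_ker_ash : Nat.card (ash F).ker = 2 := by
  have h : ((ash F).ker : Set F) = {0, 1} := by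
    ext x
    simp only [SetLike.mem_coe, AddMonoidHom.mem_ker, Set.mem_insert_iff, Set.mem_singleton_iff]
    change x ^ 2 + x = 0 ↔ _
    constructor
    · intro h
      have h1 : x * (x + 1) = 0 := by linear_combination h
      rcases mul_eq_zero.1 h1 with h2 | h2
      · exact Or.inl h2
      · exact Or.inr (CharTwo.add_eq_zero.1 h2)
    · rintro (rfl | rfl)
      · ring
      · have := CharTwo.two_eq_zero (R := F)
        linear_combination this
  change Nat.card ((ash F).ker : Set F) = 2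
  rw [h, Nat.card_coe_set_eq, Set.ncard_pair zero_ne_one]

theorem index_range_ash : (ash F).range.index = 2 := by
  have h1 : Nat.card (ash F).range * Nat.card (ash F).ker = Nat.card F := by
    rw [AddSubgroup.card_eq_card_quotient_mul_card_addSubgroup (ash F).ker,
      Nat.card_congr (QuotientAddGroup.quotientKerEquivRange (ash F)).toEquiv]
  have h2 := (ash F).range.card_mul_index
  rw [card_ker_ash] at h1
  have h3 : 0 < Nat.card (ash F).range := Nat.card_pos
  exact Nat.eq_of_mul_eq_mul_left h3 (h2.trans h1.symm)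

theorem mem_of_cubes (hF : 4 < Nat.card F) (A : AddSubgroup F) (hA : ∀ c : F, ∀ a ∈ A, c ^ 3 * a ∈ A)
    {a0 : F} (ha0 : a0 ∈ A) (h0 : a0 ≠ 0) (y : F) : y ∈ A := by
  let R : AddSubgroup F :=
    { carrier := {r | ∀ a ∈ A, r * a ∈ A}
      zero_mem' := fun a _ => by rw [zero_mul]; exact A.zero_mem
      add_mem' := fun {r s} hr hs a ha => by rw [add_mul]; exact A.add_mem (hr a ha) (hs a ha)
      neg_mem' := fun {r} hr a ha => by rw [neg_mul]; exact A.neg_mem (hr a ha) }
  have hmul : ∀ r ∈ R, ∀ s ∈ R, r * s ∈ R := fun r hr s hs a ha => by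
    rw [mul_assoc]; exact hr _ (hs _ ha)
  have hone : (1 : F) ∈ R := fun a ha => by rw [one_mul]; exact ha
  have hpow : ∀ r ∈ R, ∀ k : ℕ, r ^ k ∈ R := by
    intro r hr k
    induction k with
    | zero => rw [pow_zero]; exact hone
    | succ k ih => rw [pow_succ]; exact hmul _ ih _ hr
  have hinv : ∀ r ∈ R, r⁻¹ ∈ R := by
    intro r hr
    by_cases hr0 : r = 0
    · rw [hr0, _root_.inv_zero]; exact R.zero_mem
    have h1 : r⁻¹ = r ^ (Nat.card Fˣ - 1) := by
      have h2 : (Units.mk0 r hr0) ^ Nat.card Fˣ = 1 := pow_card_eq_one'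
      have h3 : r ^ Nat.card Fˣ = 1 := by
        have := congrArg (fun u : Fˣ => (u : F)) h2
        rwa [Units.val_pow_eq_pow_val, Units.val_mk0, Units.val_one] at this
      have h4 : r ^ (Nat.card Fˣ - 1) * r = 1 := by
        rw [← pow_succ, Nat.sub_add_cancel Nat.card_pos, h3]
      exact (eq_inv_of_mul_eq_one_left h4).symm
    rw [h1]
    exact hpow r hr _
  have hcube : ∀ c : F, c ^ 3 ∈ R := fun c => hA c
  have hash : (ash F).range ≤ R := by
    rintro _ ⟨x, rfl⟩
    change x ^ 2 + x ∈ R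
    have h2 := CharTwo.two_eq_zero (R := F)
    have h1 : x ^ 2 + x = (x + 1) ^ 3 + x ^ 3 + 1 := by
      linear_combination (-(x ^ 3 + x ^ 2 + x + 1)) * h2
    rw [h1]
    exact R.add_mem (R.add_mem (hcube _) (hcube _)) hone
  have hidx : R.index ∣ 2 := by
    rw [← index_range_ash (F := F)]
    exact AddSubgroup.index_dvd_of_le hash
  have hall : ∀ z : F, z ∈ R := by
    rcases (Nat.dvd_prime Nat.prime_two).1 hidx with h | h
    · intro z
      rw [AddSubgroup.index_eq_one.1 h]
      trivial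
    · by_contra hcon
      push Not at hcon
      obtain ⟨z, hz⟩ := hcon
      -- an element of `R` other than `0`, `1`
      obtain ⟨r, hr, hr0, hr1⟩ : ∃ r ∈ R, r ≠ 0 ∧ r ≠ 1 := by
        by_contra hc
        push Not at hc
        have h3 : (R : Set F) ⊆ {0, 1} := by
          intro x hx
          by_cases hx0 : x = 0
          · exact Or.inl hx0
          · exact Or.inr (hc x hx hx0)
        have h4 : Nat.card R ≤ 2 := by
          have := Set.ncard_le_ncard h3
          rw [Set.ncard_pair zero_ne_one] at this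
          exact this
        have h5 := R.card_mul_index
        rw [h] at h5
        omega
      have h3 : r * z ∉ R := by
        intro h4
        apply hz
        have h5 := hmul _ (hinv r hr) _ h4
        rwa [inv_mul_cancel_left₀ hr0] at h5
      have h4 : r * z + z ∈ R := by
        rw [AddSubgroup.add_mem_iff_of_index_two h]
        exact ⟨fun h => absurd h h3, fun h => absurd h hz⟩
      have hr1' : r + 1 ≠ 0 := fun h => hr1 (CharTwo.add_eq_zero.1 h)
      have h5 := hmul _ (hinv (r + 1) (R.add_mem hr hone)) _ h4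
      rw [show r * z + z = (r + 1) * z by ring, inv_mul_cancel_left₀ hr1'] at h5
      exact hz h5
  have := hall (y / a0) a0 ha0
  rwa [div_mul_cancel₀ _ h0] at this

end FieldLemma

/-! ### Torus elements -/

section Torus

variable {F : Type*} [Field F] [CharP F 2] {σ : F →+* F} [hσ : Fact (∀ x, σ (σ x) = x)]

/-- the element `diag (α, σ α / α, (σ α)⁻¹)` -/
def gt (σ : F →+* F) [hσ : Fact (∀ x, σ (σ x) = x)] (α : Fˣ) : SUJ σ :=
  ⟨⟨!![(α : F), 0, 0; 0, σ α / α, 0; 0, 0, (σ α)⁻¹], by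
    have h1 : σ (α : F) ≠ 0 := (map_ne_zero σ).mpr α.ne_zero
    have h2 := α.ne_zero
    rw [Matrix.det_fin_three]
    simp
    field_simp⟩, by
    have h1 : σ (α : F) ≠ 0 := (map_ne_zero σ).mpr α.ne_zero
    have h2 := α.ne_zero
    change (!![(α : F), 0, 0; 0, σ α / α, 0; 0, 0, (σ α)⁻¹] : Matrix (Fin 3) (Fin 3) F)ᵀ * Jm F *
      (!![(α : F), 0, 0; 0, σ α / α, 0; 0, 0, (σ α)⁻¹] : Matrix (Fin 3) (Fin 3) F).map σ = Jm F
    ext i j
    fin_cases i <;> fin_cases j <;>
      simp [Jm, Matrix.mul_apply, Fin.sum_univ_three, Matrix.transpose_apply, hσ.out]⟩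

omit [CharP F 2] in
theorem gt_val (α : Fˣ) : (gt σ α).1.1 = !![(α : F), 0, 0; 0, σ α / α, 0; 0, 0, (σ α)⁻¹] := rfl

theorem gt_mul (α β : Fˣ) : gt σ α * gt σ β = gt σ (α * β) := by
  have h1 : σ (α : F) ≠ 0 := (map_ne_zero σ).mpr α.ne_zero
  have h2 := α.ne_zero
  have h3 : σ (β : F) ≠ 0 := (map_ne_zero σ).mpr β.ne_zero
  have h4 := β.ne_zero
  apply Subtype.ext
  apply Subtype.ext
  rw [coe_mul_SUJ, gt_val, gt_val, gt_val]
  ext i j
  fin_cases i <;> fin_cases j <;> simp [Matrix.mul_apply, Fin.sum_univ_three]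
  · field_simp
  · ring

/-- the torus as a homomorphism -/
def gtHom (σ : F →+* F) [hσ : Fact (∀ x, σ (σ x) = x)] : Fˣ →* SUJ σ :=
  MonoidHom.mk' (gt σ) (fun α β => (gt_mul α β).symm)

theorem gt_mem_torus (α : Fˣ) : gt σ α ∈ torus σ := by
  rw [mem_torus, wel_inv, mem_borel, mem_borel, coe_mul_SUJ, coe_mul_SUJ, wel_val, gt_val]
  simp [Jm, Matrix.mul_apply, Fin.sum_univ_three]

theorem exists_gt {g : SUJ σ} (hg : g ∈ torus σ) : ∃ α : Fˣ, g = gt σ α := by
  obtain ⟨h10, h20, h01, h21, h02, h12⟩ := entries_of_mem_torus hg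
  obtain ⟨α, h0, e0, e1, e2, -⟩ := exists_scal hg
  refine ⟨Units.mk0 α h0, ?_⟩
  apply Subtype.ext
  apply Subtype.ext
  rw [gt_val]
  ext i j
  fin_cases i <;> fin_cases j <;> simp [h10, h20, h01, h21, h02, h12, e0, e1, e2]

theorem gt_conj (α : Fˣ) (x : Heis σ) : gt σ α * emb σ x * (gt σ α)⁻¹ = emb σ (scal (α : F) α.ne_zero x) := by
  obtain ⟨α', h0, e0, -, -, h⟩ := exists_scal (gt_mem_torus (σ := σ) α)
  have : (α : F) = α' := e0
  subst this
  rw [h x, mul_inv_cancel_right]

/-- scalar torus elements are central -/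
theorem gt_mem_center {α : Fˣ} (h : σ (α : F) = (α : F) ^ 2) : gt σ α ∈ Subgroup.center (SUJ σ) := by
  have h2 := α.ne_zero
  have h3 : σ (σ (α : F)) = α := hσ.out _
  rw [h, map_pow, h] at h3
  have h4 : (α : F) ^ 3 = 1 := by
    have : (α : F) * ((α : F) ^ 3 - 1) = 0 := by linear_combination h3
    rcases mul_eq_zero.1 this with h5 | h5
    · exact absurd h5 h2
    · exact sub_eq_zero.1 h5
  have hscal : (gt σ α).1.1 = Matrix.scalar (Fin 3) (α : F) := by
    rw [gt_val, h]
    have e1 : (α : F) ^ 2 / α = α := by field_simp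
    have e2 : ((α : F) ^ 2)⁻¹ = α := by
      rw [inv_eq_iff_eq_inv, eq_comm]
      exact inv_eq_of_mul_eq_one_left (by linear_combination h4)
    rw [e1, e2]
    ext i j
    fin_cases i <;> fin_cases j <;> simp
  rw [Subgroup.mem_center_iff]
  intro k
  apply Subtype.ext
  apply Subtype.ext
  change k.1.1 * (gt σ α).1.1 = (gt σ α).1.1 * k.1.1
  rw [hscal]
  exact (Matrix.scalar_commute (α : F) (Commute.all _) k.1.1).eq.symm

end Torus

/-! ### Rank one data for quotients of `SUJ σ` by its centre -/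

section Main

variable {F : Type*} [Field F] [Finite F] [CharP F 2] {σ : F →+* F} [hσ : Fact (∀ x, σ (σ x) = x)] {n : ℕ}
  {M : Type*} [Group M]

/-- the image of the centre of the unitriangular group -/
def Vs (π : SUJ σ →* M) : Subgroup M where
  carrier := {v | ∃ x : Heis σ, x.a = 0 ∧ v = π (emb σ x)}
  one_mem' := ⟨1, rfl, by rw [map_one, map_one]⟩
  mul_mem' := by
    rintro _ _ ⟨x, hx, rfl⟩ ⟨y, hy, rfl⟩
    exact ⟨x * y, by rw [mul_a, hx, hy, add_zero], by rw [map_mul, map_mul]⟩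
  inv_mem' := by
    rintro _ ⟨x, hx, rfl⟩
    exact ⟨x⁻¹, by rw [HermHeis.inv_a, hx], by rw [map_inv, map_inv]⟩

omit [Finite F] in
theorem mem_U {π : SUJ σ →* M} {u : M} : u ∈ (emb σ).range.map π ↔ ∃ x : Heis σ, u = π (emb σ x) := by
  constructor
  · rintro ⟨_, ⟨x, rfl⟩, rfl⟩
    exact ⟨x, rfl⟩
  · rintro ⟨x, rfl⟩
    exact ⟨_, ⟨x, rfl⟩, rfl⟩

theorem ro (hn : 2 ≤ n) (hs : ∀ x, σ x = x ^ (2 ^ n)) (hF : Nat.card F = (2 ^ n) ^ 2) [Finite M] (π : SUJ σ →* M)
    (hπ : Function.Surjective π) (hk : ∀ g, π g = 1 ↔ g ∈ Subgroup.center (SUJ σ)) :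
    RO 2 ((borel σ).map π) ((emb σ).range.map π) (Vs π) (π (wel σ)) := by
  have hq : 1 < 2 ^ n := Nat.one_lt_two_pow (by omega)
  have hq4 : 4 ≤ 2 ^ n := by
    calc 4 = 2 ^ 2 := by norm_num
      _ ≤ 2 ^ n := Nat.pow_le_pow_right (by norm_num) hn
  have hqd : 2 ∣ 2 ^ n := dvd_pow_self 2 (by omega)
  have hlift : ∀ a : F, ∃ x : Heis σ, x.a = a := HermHeis.exists_heis_a hq hs hF
  have htr : ∀ c : F, σ c = c → ∃ b : F, b + σ b = c := (HermHeis.card_fixed hq hs hF).2
  obtain ⟨x₀, hx₀⟩ := hlift 1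
  have hx : ∃ x : Heis σ, x.a ≠ 0 := ⟨x₀, by rw [hx₀]; exact one_ne_zero⟩
  have hkB : π.ker ≤ borel σ := by
    intro g hg
    exact center_le_borel hx ((hk g).mp hg)
  have hD := data_map data_SUJ π hπ hkB
  have hinj : ∀ x : Heis σ, π (emb σ x) = 1 → x = 1 := fun x h => eq_one_of_mem_center ((hk _).mp h)
  have hinj2 : ∀ x y : Heis σ, π (emb σ x) = π (emb σ y) → x = y := by
    intro x y h
    have : π (emb σ (x * y⁻¹)) = 1 := by
      rw [map_mul, map_mul, map_inv, map_inv, h, mul_inv_cancel]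
    exact mul_inv_eq_one.1 (hinj _ this)
  have hV : ∀ x : Heis σ, π (emb σ x) ∈ Vs π ↔ x.a = 0 := by
    intro x
    constructor
    · rintro ⟨y, hy, h⟩
      rw [hinj2 _ _ h, hy]
    · intro h
      exact ⟨x, h, rfl⟩
  -- the torus
  have htwo : ∀ t, t ∈ two ((borel σ).map π) (π (wel σ)) ↔ ∃ α : Fˣ, t = π (gt σ α) := by
    intro t
    constructor
    · rintro ⟨h1, h2⟩
      obtain ⟨g, rfl⟩ := hπ t
      have h3 : g ∈ borel σ := mem_of_map_mem π hkB h1
      have h4 : (wel σ)⁻¹ * g * wel σ ∈ borel σ := by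
        apply mem_of_map_mem π hkB
        rw [map_mul, map_mul, map_inv]
        exact h2
      obtain ⟨α, rfl⟩ := exists_gt (mem_torus.2 ⟨h3, h4⟩)
      exact ⟨α, rfl⟩
    · rintro ⟨α, rfl⟩
      obtain ⟨h1, h2⟩ := mem_torus.1 (gt_mem_torus (σ := σ) α)
      exact ⟨⟨_, h1, rfl⟩, ⟨_, h2, by rw [map_mul, map_mul, map_inv]⟩⟩
  have hconj : ∀ (α : Fˣ) (x : Heis σ), π (gt σ α) * π (emb σ x) * (π (gt σ α))⁻¹ =
      π (emb σ (scal (α : F) α.ne_zero x)) := by
    intro α x
    rw [← gt_conj, map_mul, map_mul, map_inv]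
  have hcU : Nat.card ((emb σ).range.map π) = (2 ^ n) ^ 3 := by
    rw [← HermHeis.card_heis hq hs hF]
    symm
    refine Nat.card_congr (Equiv.ofBijective (fun x : Heis σ => (⟨π (emb σ x), mem_U.2 ⟨x, rfl⟩⟩ :
      ((emb σ).range.map π : Subgroup M))) ⟨fun x y h => hinj2 _ _ (congrArg Subtype.val h), ?_⟩)
    rintro ⟨g, hg⟩
    obtain ⟨x, rfl⟩ := mem_U.1 hg
    exact ⟨x, rfl⟩
  have hVU : Vs π ≤ (emb σ).range.map π := by
    rintro _ ⟨x, -, rfl⟩
    exact mem_U.2 ⟨x, rfl⟩
  have hodd : ¬ 2 ∣ Nat.card Fˣ := by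
    rw [Nat.card_units, hF]
    intro h
    have h2 : 2 ∣ (2 ^ n) ^ 2 := dvd_pow hqd (by norm_num)
    have h3 : 0 < (2 ^ n) ^ 2 := by positivity
    omega
  refine
    { data := hD
      pr := Nat.prime_two
      syl := ?_
      ab := ?_
      le := hVU
      char := ?_
      quot := ?_
      irr := ?_
      fr := ?_
      faith := ?_
      cnt := ?_ }
  · refine exists_syl hD Nat.prime_two (IsPGroup.of_card (n := n * 3) (by rw [hcU, pow_mul])) ?_ ?_
    · intro h
      rw [h, Subgroup.card_bot] at hcU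
      have : 1 < (2 ^ n) ^ 3 := Nat.one_lt_pow (by norm_num) hq
      omega
    · intro h
      have h1 : two ((borel σ).map π) (π (wel σ)) = (π.comp (gtHom σ)).range := by
        ext t
        rw [htwo, MonoidHom.mem_range]
        constructor
        · rintro ⟨α, rfl⟩
          exact ⟨α, rfl⟩
        · rintro ⟨α, rfl⟩
          exact ⟨α, rfl⟩
      rw [h1] at h
      exact hodd (h.trans (Subgroup.card_range_dvd _))
  · intro s hs' t ht hsw htw
    obtain ⟨α, rfl⟩ := (htwo s).1 ⟨hs', hsw⟩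
    obtain ⟨β, rfl⟩ := (htwo t).1 ⟨ht, htw⟩
    rw [← map_mul, ← map_mul, gt_mul, gt_mul, mul_comm]
  · rintro φ hφ _ ⟨x, hx0, rfl⟩
    obtain ⟨y, hy⟩ := mem_U.1 (hφ _ (mem_U.2 ⟨x, rfl⟩))
    rw [hy, hV, ← HermHeis.mul_self_eq_one_iff]
    apply hinj
    rw [map_mul, map_mul, ← hy, ← map_mul φ, ← map_mul, ← map_mul, (HermHeis.mul_self_eq_one_iff x).2 hx0, map_one, map_one,
      map_one]
  · intro x' hx' y' hy'
    obtain ⟨x, rfl⟩ := mem_U.1 hx'
    obtain ⟨y, rfl⟩ := mem_U.1 hy'
    have : π (emb σ x) * π (emb σ y) * (π (emb σ x))⁻¹ * (π (emb σ y))⁻¹ = π (emb σ (x * y * x⁻¹ * y⁻¹)) := by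
      simp only [map_mul, map_inv]
    rw [this, hV]
    simp only [mul_a, HermHeis.inv_a]
    have h2 := CharTwo.two_eq_zero (R := F)
    linear_combination (x.a + y.a) * h2
  · -- irreducibility
    intro X hVX hXU hX
    let A : AddSubgroup F :=
      { carrier := {a | ∀ x : Heis σ, x.a = a → π (emb σ x) ∈ X}
        zero_mem' := fun x h => hVX ⟨x, h, rfl⟩
        add_mem' := by
          intro a b ha hb x hx1
          obtain ⟨y, hy⟩ := hlift a
          have h1 := ha y hy
          have h2 := hb (y⁻¹ * x) (by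
            rw [mul_a, HermHeis.inv_a, hy, hx1]
            have h2 := CharTwo.two_eq_zero (R := F)
            linear_combination a * h2)
          have h3 := X.mul_mem h1 h2
          rw [← map_mul, ← map_mul, mul_inv_cancel_left] at h3
          exact h3
        neg_mem' := by
          intro a ha x hx1
          exact ha x (by rw [hx1, CharTwo.neg_eq]) }
    have hAmem : ∀ x : Heis σ, π (emb σ x) ∈ X → x.a ∈ A := by
      intro x hx1 y hy
      have h1 : π (emb σ (x⁻¹ * y)) ∈ X := hVX ⟨_, by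
        rw [mul_a, HermHeis.inv_a, hy]
        exact CharTwo.add_self_eq_zero _, rfl⟩
      have h2 := X.mul_mem hx1 h1
      rw [← map_mul, ← map_mul, mul_inv_cancel_left] at h2
      exact h2
    by_cases h0 : ∀ a ∈ A, a = 0
    · left
      refine le_antisymm ?_ hVX
      intro x' hx'
      obtain ⟨x, rfl⟩ := mem_U.1 (hXU hx')
      exact ⟨x, h0 _ (hAmem x hx'), rfl⟩
    · right
      push Not at h0
      obtain ⟨a0, ha0, ha0'⟩ := h0
      refine le_antisymm hXU ?_
      intro u hu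
      obtain ⟨x, rfl⟩ := mem_U.1 hu
      refine mem_of_cubes (by rw [hF]; nlinarith) A ?_ ha0 ha0' x.a x rfl
      intro c a ha
      by_cases hc : c = 0
      · rw [hc]
        have : (0 : F) ^ 3 * a = 0 := by ring
        rw [this]
        exact A.zero_mem
      · obtain ⟨y, hy⟩ := hlift a
        -- the torus element `c ^ 2 * σ c`
        have hsc : σ c ≠ 0 := (map_ne_zero σ).mpr hc
        let α : Fˣ := Units.mk0 (c ^ 2 * σ c) (mul_ne_zero (pow_ne_zero 2 hc) hsc)
        obtain ⟨h1, h2⟩ := (htwo (π (gt σ α))).2 ⟨α, rfl⟩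
        have h3 := hX _ h1 h2 _ (ha y hy)
        rw [hconj] at h3
        have h4 := hAmem _ h3
        have h5 : (scal (α : F) α.ne_zero y).a = c ^ 3 * a := by
          change (c ^ 2 * σ c) ^ 2 / σ (c ^ 2 * σ c) * y.a = c ^ 3 * a
          rw [map_mul, map_pow, HermHeis.sig, hy]
          field_simp
        rwa [h5] at h4
  · -- generation modulo `V`
    intro X hXU h
    refine le_antisymm hXU ?_
    have hl : ∀ a : F, ∃ x : Heis σ, x.a = a ∧ π (emb σ x) ∈ X := by
      intro a
      obtain ⟨y, hy⟩ := hlift a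
      obtain ⟨x', hx', hv⟩ := h _ (mem_U.2 ⟨y, rfl⟩)
      obtain ⟨x, rfl⟩ := mem_U.1 (hXU hx')
      refine ⟨x, ?_, hx'⟩
      rw [← map_inv, ← map_mul, ← map_inv, ← map_mul, hV, mul_a, HermHeis.inv_a, hy] at hv
      exact CharTwo.add_eq_zero.1 hv
    have hz : ∀ z : Heis σ, z.a = 0 → π (emb σ z) ∈ X := by
      intro z hz0
      obtain ⟨b, hb⟩ := htr z.b (HermHeis.b_fixed_of_a_eq_zero hz0)
      obtain ⟨x, hxa, hx1⟩ := hl b
      obtain ⟨y, hya, hy1⟩ := hl 1
      have h1 := X.mul_mem (X.mul_mem (X.mul_mem hx1 hy1) (X.inv_mem hx1)) (X.inv_mem hy1)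
      have h2 : π (emb σ x) * π (emb σ y) * (π (emb σ x))⁻¹ * (π (emb σ y))⁻¹ = π (emb σ (x * y * x⁻¹ * y⁻¹)) := by
        simp only [map_mul, map_inv]
      rw [h2] at h1
      have h3 : x * y * x⁻¹ * y⁻¹ = z := by
        have h4 : x * y = z * (y * x) := by
          ext
          · simp only [mul_a, hz0]; ring
          · simp only [mul_b, mul_a, hz0, hxa, hya, ← hb, map_one, zero_mul]
            have h5 := CharTwo.two_eq_zero (R := F)
            linear_combination (-(σ b)) * h5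
        rw [h4]
        group
      rwa [h3] at h1
    intro u hu
    obtain ⟨y, rfl⟩ := mem_U.1 hu
    obtain ⟨x, hxa, hx1⟩ := hl y.a
    have h1 := hz (x⁻¹ * y) (by rw [mul_a, HermHeis.inv_a, hxa]; exact CharTwo.add_self_eq_zero _)
    have h2 := X.mul_mem hx1 h1
    rw [← map_mul, ← map_mul, mul_inv_cancel_left] at h2
    exact h2
  · -- faithful
    intro t ht htw h
    obtain ⟨α, rfl⟩ := (htwo t).1 ⟨ht, htw⟩
    have h1 := h _ (mem_U.2 ⟨x₀, rfl⟩)
    rw [hconj, ← map_inv, ← map_inv, ← map_mul, ← map_mul, hV, mul_a, HermHeis.inv_a, hx₀] at h1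
    have h2 : (α : F) ^ 2 / σ α * x₀.a + 1 = 0 := h1
    rw [hx₀, mul_one] at h2
    have h3 := CharTwo.add_eq_zero.1 h2
    have h4 : σ (α : F) ≠ 0 := (map_ne_zero σ).mpr α.ne_zero
    rw [div_eq_one_iff_eq h4] at h3
    rw [hk]
    exact gt_mem_center h3.symm
  · -- the count
    intro r hr hrM
    have hcV : Nat.card (Vs π) = 2 ^ n := by
      rw [← (HermHeis.card_fixed (σ := σ) hq hs hF).1]
      symm
      refine Nat.card_congr (Equiv.ofBijective (fun b : {x : F // σ x = x} =>
        (⟨π (emb σ (zet b.1 b.2)), _, rfl, rfl⟩ : Vs π)) ⟨fun b c h => ?_, ?_⟩)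
      · have := hinj2 _ _ (congrArg Subtype.val h)
        exact Subtype.ext (congrArg Heis.b this)
      · rintro ⟨_, x, hx0, rfl⟩
        refine ⟨⟨x.b, HermHeis.b_fixed_of_a_eq_zero hx0⟩, Subtype.ext ?_⟩
        change π (emb σ (zet x.b _)) = π (emb σ x)
        congr 2
        ext
        · exact hx0.symm
        · rfl
    rw [relIndex_eq (b := (2 ^ n) ^ 2) hVU hcV (by rw [hcU]; ring), ← hF, ← Nat.card_units]
    intro hd
    have : Fact r.Prime := ⟨hr⟩
    obtain ⟨α, hα⟩ := exists_prime_orderOf_dvd_card' r hd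
    have h1 : (π (gt σ α)) ^ r = 1 := by
      have h2 : (gtHom σ α) ^ r = 1 := by rw [← map_pow, ← hα, pow_orderOf_eq_one, map_one]
      have h3 : (gt σ α) ^ r = 1 := h2
      rw [← map_pow, h3, map_one]
    have h2 : orderOf (π (gt σ α)) ∣ r := orderOf_dvd_of_pow_eq_one h1
    rcases (Nat.dvd_prime hr).1 h2 with h3 | h3
    · -- central
      rw [orderOf_eq_one_iff, hk] at h3
      have h4 := gt_conj (σ := σ) α x₀
      have h5 : gt σ α * emb σ x₀ * (gt σ α)⁻¹ = emb σ x₀ := by
        rw [← (Subgroup.mem_center_iff.1 h3) (emb σ x₀), mul_inv_cancel_right]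
      rw [h5] at h4
      have h6 := emb_injective h4
      have ha := congrArg Heis.a h6
      have hb := congrArg Heis.b h6
      change x₀.a = (α : F) ^ 2 / σ α * x₀.a at ha
      change x₀.b = (α : F) * σ α * x₀.b at hb
      rw [hx₀, mul_one, eq_comm, div_eq_one_iff_eq ((map_ne_zero σ).mpr α.ne_zero)] at ha
      have hx₀1 : x₀ ≠ 1 := by
        rintro rfl
        rw [one_a] at hx₀
        exact zero_ne_one hx₀
      have h7 := b_ne_zero hx₀1
      have h8 : (α : F) * σ α = 1 := by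
        have : ((α : F) * σ α - 1) * x₀.b = 0 := by linear_combination -hb
        rcases mul_eq_zero.1 this with h | h
        · exact sub_eq_zero.1 h
        · exact absurd h h7
      rw [← ha] at h8
      have h9 : α ^ 3 = 1 := by
        apply Units.ext
        rw [Units.val_pow_eq_pow_val, Units.val_one]
        linear_combination h8
      have h10 : r ∣ 3 := by rw [← hα]; exact orderOf_dvd_of_pow_eq_one h9
      have h11 : r = 3 := (Nat.prime_dvd_prime_iff_eq hr Nat.prime_three).1 h10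
      subst h11
      -- an element of order three
      apply hrM
      have hz1 : σ (1 : F) = 1 := map_one σ
      let g : SUJ σ := wel σ * emb σ (zet 1 hz1)
      have hg3 : g ^ 3 = 1 := by
        apply Subtype.ext
        apply Subtype.ext
        have h2 := CharTwo.two_eq_zero (R := F)
        have e1 : (g ^ 3).1.1 = (Jm F * umat (zet 1 hz1 : Heis σ)) * (Jm F * umat (zet 1 hz1 : Heis σ)) *
            (Jm F * umat (zet 1 hz1 : Heis σ)) := by
          rw [pow_succ, pow_two]
          rfl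
        rw [e1]
        change _ = (1 : Matrix (Fin 3) (Fin 3) F)
        ext i j
        fin_cases i <;> fin_cases j <;>
          simp [Jm, umat, Matrix.mul_apply, Fin.sum_univ_three, CharTwo.add_self_eq_zero]
      have hgne : π g ≠ 1 := by
        intro h
        have h12 : g ∈ borel σ := hkB h
        have h13 := (borel σ).mul_mem h12 ((borel σ).inv_mem (data_SUJ.le ⟨zet 1 hz1, rfl⟩ : emb σ (zet 1 hz1) ∈ borel σ))
        rw [mul_inv_cancel_right] at h13
        exact data_SUJ.w_not_mem h13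
      have : orderOf (π g) = 3 := orderOf_eq_prime (by rw [← map_pow, hg3, map_one]) hgne
      rw [← this]
      exact orderOf_dvd_natCard _
    · apply hrM
      rw [← h3]
      exact orderOf_dvd_natCard _

end Main

/-- **`PSU₃(2^n)`.** -/
theorem u3 {G : Type*} [Group G] [IsSimpleGroup G] {F : Type*} [Field F] [Fintype F] {n : ℕ} (hn : 2 ≤ n)
    (hF : Fintype.card F = (2 ^ n) ^ 2) (e : G ≃* Cfsg.PSU 3 F (2 ^ n)) : ZP G := by
  have hF' : Nat.card F = (2 ^ n) ^ 2 := by rw [Nat.card_eq_fintype_card, hF]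
  obtain ⟨hch, σ, hσ, hs, -, -⟩ := exists_heis_equiv F (n := n) (by omega) hF'
  have hq : 1 < 2 ^ n := Nat.one_lt_two_pow (by omega)
  obtain ⟨c, hc⟩ := HermHeis.exists_not_fixed (σ := σ) hq hs hF'
  obtain ⟨T, T', hTT', hT⟩ := exists_T hc
  let e' : SUJ σ ≃* Cfsg.SU 3 F (2 ^ n) :=
    ((conjT hTT').subgroupMap (SUJ σ)).trans (MulEquiv.subgroupCongr (SU_eq_map hs hTT' hT))
  let π : SUJ σ →* Cfsg.PSU 3 F (2 ^ n) :=
    (QuotientGroup.mk' (Subgroup.center (Cfsg.SU 3 F (2 ^ n)))).comp e'.toMonoidHom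
  have hπ : Function.Surjective π := (QuotientGroup.mk'_surjective _).comp e'.surjective
  have hker : ∀ g, π g = 1 ↔ g ∈ Subgroup.center (SUJ σ) := by
    intro g
    have h1 : π g = 1 ↔ e' g ∈ Subgroup.center (Cfsg.SU 3 F (2 ^ n)) := by
      rw [← QuotientGroup.eq_one_iff]
      exact Iff.rfl
    rw [h1, Subgroup.mem_center_iff, Subgroup.mem_center_iff]
    constructor
    · intro h k
      apply e'.injective
      rw [map_mul, map_mul]
      exact h (e' k)
    · intro h k
      obtain ⟨k, rfl⟩ := e'.surjective k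
      rw [← map_mul, ← map_mul, h k]
  have hfin : Finite (Cfsg.PSU 3 F (2 ^ n)) := Finite.of_surjective π hπ
  have hsim : IsSimpleGroup (Cfsg.PSU 3 F (2 ^ n)) := e.symm.isSimpleGroup
  exact (ZP.of_ro (ro hn hs hF' π hπ hker)).of_equiv e.symm

end Cfsg.Agent.H748.RoPSU
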