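import Cfsg.Agent.GenPsu.Psu
import Cfsg.Agent.Lib.Cores
import Cfsg.Agent.SignalizersComponents.PCompQuot
import Cfsg.Agent.SignalizersComponents.Components

/-!
# S3138/T3: facts on `SU_4(3)` and a lifting lemma (helper748)
-/

set_option autoImplicit false
set_option linter.unusedSectionVars false

namespace Cfsg.Agent.H748.SU43

open Subgroup Cfsg
open Cfsg.Agent.SignalizersComponents.Components
open Cfsg.Agent.LieClassical.SUBasic (suDiag mem_center_SU_iff coe_suScalar suScalar)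

universe u v

section Center

variable {E : Type v} [Field E] [Fintype E]

/-- the scalar of a central element -/
noncomputable def entry (x : SU 4 E 3) : E := ((x : Matrix.SpecialLinearGroup (Fin 4) E) : Matrix (Fin 4) (Fin 4) E) 0 0

theorem center_scalar (hE : Fintype.card E = 9) {x : SU 4 E 3} (hx : x ∈ center (SU 4 E 3)) :
    ((x : Matrix.SpecialLinearGroup (Fin 4) E) : Matrix (Fin 4) (Fin 4) E) = Matrix.diagonal (fun _ => entry x) ∧
      entry x ^ 4 = 1 := by
  obtain ⟨c, h1, h2, rfl⟩ := (mem_center_SU_iff (by rw [hE]; norm_num) (by norm_num) x).1 hx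
  have h3 : entry (suScalar 3 c h1 h2 : SU 4 E 3) = c := by
    rw [entry, coe_suScalar, Matrix.diagonal_apply_eq]
  rw [h3, coe_suScalar]
  exact ⟨rfl, h1⟩

/-- the center embeds in the units -/
noncomputable def cen (hE : Fintype.card E = 9) : center (SU 4 E 3) →* E where
  toFun x := entry (x : SU 4 E 3)
  map_one' := by
    show ((((1 : SU 4 E 3) : Matrix.SpecialLinearGroup (Fin 4) E)) : Matrix (Fin 4) (Fin 4) E) 0 0 = 1
    simp
  map_mul' x y := by
    show (((((x : SU 4 E 3) * (y : SU 4 E 3) : SU 4 E 3) : Matrix.SpecialLinearGroup (Fin 4) E)) :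
      Matrix (Fin 4) (Fin 4) E) 0 0 = _
    rw [Subgroup.coe_mul, Matrix.SpecialLinearGroup.coe_mul, (center_scalar hE x.2).1, (center_scalar hE y.2).1,
      Matrix.diagonal_mul_diagonal, Matrix.diagonal_apply_eq]

theorem cen_inj (hE : Fintype.card E = 9) : Function.Injective (cen hE) := by
  intro x y h
  apply Subtype.ext
  apply Subtype.ext
  apply Subtype.ext
  rw [(center_scalar hE x.2).1, (center_scalar hE y.2).1]
  have h1 : entry (x : SU 4 E 3) = entry (y : SU 4 E 3) := h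
  rw [h1]

theorem center_cyclic (hE : Fintype.card E = 9) : IsCyclic (center (SU 4 E 3)) :=
  isCyclic_of_injective_ringHom (cen hE) (cen_inj hE)

/-- the center has order four -/
theorem card_center (hE : Fintype.card E = 9) : Nat.card (center (SU 4 E 3)) = 4 := by
  have hcyc := center_cyclic hE
  have hfin : Finite (SU 4 E 3) := inferInstance
  -- at most four
  obtain ⟨g, hg⟩ := IsCyclic.exists_generator (α := center (SU 4 E 3))
  have h1 : orderOf g = Nat.card (center (SU 4 E 3)) := orderOf_eq_card_of_forall_mem_zpowers hg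
  have h2 : g ^ 4 = 1 := by
    apply cen_inj hE
    rw [map_pow, map_one]
    exact (center_scalar hE g.2).2
  -- an element of order four
  obtain ⟨c, hc⟩ : ∃ c : E, c ^ 4 = 1 ∧ c ^ 2 ≠ 1 := by
    obtain ⟨y, hy⟩ := IsCyclic.exists_generator (α := Eˣ)
    have h3 : orderOf y = 8 := by
      rw [orderOf_eq_card_of_forall_mem_zpowers hy, Nat.card_units, Nat.card_eq_fintype_card, hE]
    refine ⟨((y ^ 2 : Eˣ) : E), ?_, ?_⟩
    · rw [← Units.val_pow_eq_pow_val, ← pow_mul, show 2 * 4 = orderOf y by rw [h3], pow_orderOf_eq_one, Units.val_one]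
    · rw [← Units.val_pow_eq_pow_val, ← pow_mul]
      intro h4
      have h5 : y ^ (2 * 2) = 1 := Units.ext h4
      have h6 := orderOf_dvd_of_pow_eq_one h5
      rw [h3] at h6
      omega
  have h3 := (Cfsg.Agent.LieClassical.SUBasic.suScalar_mem_center (n := 4) 3 c hc.1 hc.1)
  have h4 : (⟨_, h3⟩ : center (SU 4 E 3)) ^ 2 ≠ 1 := by
    intro h5
    have h6 := congrArg (cen hE) h5
    rw [map_pow, map_one] at h6
    exact hc.2 h6
  have h5 := orderOf_dvd_of_pow_eq_one h2
  rw [← h1]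
  have h6 : orderOf g ∣ 2 ^ 2 := h5
  obtain ⟨k, hk, hk'⟩ := (Nat.dvd_prime_pow Nat.prime_two).1 h6
  have h7 : k = 2 := by
    by_contra hne
    have h8 : k ≤ 1 := by omega
    apply h4
    have h9 : orderOf (⟨_, h3⟩ : center (SU 4 E 3)) ∣ orderOf g := by
      rw [h1]
      exact orderOf_dvd_natCard _
    have h10 : orderOf (⟨_, h3⟩ : center (SU 4 E 3)) ∣ 2 := by
      refine h9.trans ?_
      rw [hk']
      exact pow_dvd_pow 2 h8
    exact orderOf_dvd_iff_pow_eq_one.1 h10
  rw [hk', h7]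
  norm_num

end Center

section Cores

variable {K : Type u} [Group K] [Finite K]

theorem pCore_ne_top (hq : IsQuasisimple K) : pCore 2 K ≠ ⊤ := by
  have : Fact (Nat.Prime 2) := ⟨Nat.prime_two⟩
  intro h
  have h1 : IsPGroup 2 K := (Lib.Cores.pCore_eq_top_iff 2).1 h
  have h2 : Group.IsNilpotent K := h1.isNilpotent
  exact quasisimple_not_isSolvable hq inferInstance

theorem pCore_le_center (hq : IsQuasisimple K) : pCore 2 K ≤ center K :=
  (quasisimple_normal hq _ (Lib.Cores.pCore_normal 2)).resolve_left (pCore_ne_top hq)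

theorem oddCore_le_center (hq : IsQuasisimple K) (h2 : 2 ∣ Nat.card K) : oddCore K ≤ center K := by
  refine (quasisimple_normal hq _ (Lib.Cores.pPrimeCore_normal 2)).resolve_left fun h => ?_
  have h1 := Lib.Cores.pPrimeCore_coprime (G := K) 2
  have h3 : Nat.card (pPrimeCore 2 K) = Nat.card K := by
    rw [show pPrimeCore 2 K = ⊤ from h]
    exact Nat.card_congr Subgroup.topEquiv.toEquiv
  rw [h3] at h1
  have h4 := Nat.dvd_gcd h2 (dvd_refl 2)
  rw [h1.gcd_eq_one] at h4
  omega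

end Cores

theorem su_facts {E : Type v} [Field E] [Fintype E] (hE : Fintype.card E = 9) :
    Cfsg.IsQuasisimple ↥(Cfsg.SU 4 E 3) ∧ Cfsg.oddCore ↥(Cfsg.SU 4 E 3) = ⊥ ∧
      IsCyclic ↥(Cfsg.pCore 2 ↥(Cfsg.SU 4 E 3)) ∧ Nat.card ↥(Cfsg.pCore 2 ↥(Cfsg.SU 4 E 3)) = 4 := by
  have : Fact (Nat.Prime 2) := ⟨Nat.prime_two⟩
  have hq : IsQuasisimple (SU 4 E 3) := ⟨⟨Cfsg.Agent.LieClassical.HermPerfect.commutator_SU_eq_top
    (by rw [hE]; norm_num) (by norm_num) (by omega)⟩, Cfsg.Agent.S0283.result (by rw [hE]; norm_num) 4 (by norm_num) (by omega)⟩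
  have hc := card_center hE
  have hcyc := center_cyclic hE
  have h2 : 2 ∣ Nat.card (SU 4 E 3) := by
    refine Dvd.dvd.trans ?_ (Subgroup.card_subgroup_dvd_card (center (SU 4 E 3)))
    rw [hc]
    norm_num
  have hp : pCore 2 (SU 4 E 3) = center (SU 4 E 3) := by
    apply le_antisymm (pCore_le_center hq)
    exact Lib.Cores.le_pCore inferInstance (IsPGroup.of_card (n := 2) (by rw [hc]; norm_num))
  refine ⟨hq, ?_, by rw [hp]; exact hcyc, by rw [hp]; exact hc⟩
  have h3 := oddCore_le_center hq h2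
  have h4 : IsPGroup 2 (oddCore (SU 4 E 3)) :=
    (IsPGroup.of_card (n := 2) (by rw [hc]; norm_num) : IsPGroup 2 (center (SU 4 E 3))).to_le h3
  obtain ⟨k, hk⟩ := IsPGroup.iff_card.1 h4
  have h5 := Lib.Cores.pPrimeCore_coprime (G := SU 4 E 3) 2
  have h6 : Nat.card (oddCore (SU 4 E 3)) = 1 := by
    rcases Nat.eq_zero_or_pos k with h7 | h7
    · rw [hk, h7, pow_zero]
    · exfalso
      rw [show Nat.card (pPrimeCore 2 (SU 4 E 3)) = 2 ^ k from hk] at h5
      have h8 := Nat.dvd_gcd (dvd_pow_self 2 h7.ne') (dvd_refl 2)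
      rw [h5.gcd_eq_one] at h8
      omega
  exact Subgroup.card_eq_one.1 h6

section Lift

open scoped commutatorElement

variable {M : Type u} [Group M] [Finite M] {S : Type v} [Group S] [Finite S]

theorem not_dvd_of_odd {n : ℕ} (h : Odd n) : ¬ 2 ∣ n := by
  rintro ⟨k, hk⟩
  obtain ⟨m, hm⟩ := h
  omega

/-- **the lifting lemma** -/
theorem lift_gen (hq : IsQuasisimple S) (ho : oddCore S = ⊥) (Z : Subgroup M) (hZ : Z ≤ center M)
    (hodd : Odd (Nat.card Z)) [Z.Normal] (e : (M ⧸ Z) ≃* S) :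
    IsQuasisimple ↥(commutator M) ∧ commutator M ⊔ Z = ⊤ ∧
      Nonempty ((↥(commutator M) ⧸ oddCore ↥(commutator M)) ≃* S) ∧
      Nonempty (↥(pCore 2 ↥(commutator M)) ≃* ↥(pCore 2 S)) := by
  have hF : Fact (Nat.Prime 2) := ⟨Nat.prime_two⟩
  set K := commutator M with hK
  set g : M →* S := e.toMonoidHom.comp (QuotientGroup.mk' Z) with hg
  have hgs : Function.Surjective g := e.surjective.comp (QuotientGroup.mk'_surjective Z)
  have hgk : g.ker = Z := by
    ext x
    rw [MonoidHom.mem_ker]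
    show e (QuotientGroup.mk' Z x) = 1 ↔ _
    rw [map_eq_one_iff _ e.injective]
    exact QuotientGroup.eq_one_iff x
  have hSp : commutator S = ⊤ := hq.1.commutator_eq_top
  have hKmap : K.map g = ⊤ := by
    rw [hK, commutator_def, map_commutator, ← MonoidHom.range_eq_map, MonoidHom.range_eq_top.2 hgs, ← commutator_def, hSp]
  have hKZ : K ⊔ Z = ⊤ := by
    rw [← hgk, ← comap_map_eq, hKmap, comap_top]
  -- `K` is perfect
  have hKK : ⁅K, K⁆ = K := by
    have h1 : ⁅K ⊔ Z, K ⊔ Z⁆ ≤ ⁅K, K⁆ := by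
      rw [commutator_le]
      intro a ha b hb
      obtain ⟨a1, ha1, a2, ha2, rfl⟩ := (mem_sup_of_normal_right).1 ha
      obtain ⟨b1, hb1, b2, hb2, rfl⟩ := (mem_sup_of_normal_right).1 hb
      have ca : ∀ m : M, m * a2 = a2 * m := fun m => mem_center_iff.1 (hZ ha2) m
      have cb : ∀ m : M, m * b2 = b2 * m := fun m => mem_center_iff.1 (hZ hb2) m
      have h3 : ⁅a1 * a2, b1 * b2⁆ = ⁅a1, b1⁆ := by
        rw [commutatorElement_def, commutatorElement_def]
        have e1 : a1 * a2 * (b1 * b2) * (a1 * a2)⁻¹ * (b1 * b2)⁻¹ = a1 * (a2 * b1) * (b2 * a2⁻¹) * a1⁻¹ * b2⁻¹ * b1⁻¹ := by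
          group
        have e2 : b2 * a2⁻¹ = a2⁻¹ * b2 := (cb a2⁻¹).symm
        rw [e1, ← ca b1, e2]
        have e3 : a1 * (b1 * a2) * (a2⁻¹ * b2) * a1⁻¹ * b2⁻¹ * b1⁻¹ = a1 * b1 * (b2 * a1⁻¹) * b2⁻¹ * b1⁻¹ := by group
        rw [e3, ← cb a1⁻¹]
        group
      rw [h3]
      exact commutator_mem_commutator ha1 hb1
    rw [hKZ] at h1
    exact le_antisymm (commutator_le_self K) h1
  have hKp : Group.IsPerfect K := isPerfect_iff.2 hKK
  -- the restriction
  set f : K →* S := g.comp K.subtype with hf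
  have hfs : Function.Surjective f := by
    rw [← MonoidHom.range_eq_top, MonoidHom.range_comp, K.range_subtype, hKmap]
  have hfk : ∀ k : K, f k = 1 ↔ (k : M) ∈ Z := fun k => by
    rw [← hgk, MonoidHom.mem_ker]
    rfl
  have hkc : f.ker ≤ center K := by
    intro k hk
    rw [mem_center_iff]
    intro m
    exact Subtype.ext (mem_center_iff.1 (hZ ((hfk k).1 hk)) m)
  have hKq : IsQuasisimple K := by
    have h1 : IsQuasisimple (K ⧸ f.ker) :=
      isQuasisimple_of_mulEquiv (QuotientGroup.quotientKerEquivOfSurjective f hfs).symm hq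
    exact Cfsg.Agent.SignalizersComponents.PCompQuot.quasisimple_of_central_quotient hKp hkc h1
  have hcop : (Nat.card f.ker).Coprime 2 := by
    have h1 : Nat.card f.ker ∣ Nat.card Z := by
      let ψ : f.ker →* Z := ⟨⟨fun k => (⟨(k : K), (hfk k).1 k.2⟩ : Z), rfl⟩, fun a b => rfl⟩
      have h2 : Function.Injective ψ := by
        intro a b hab
        have h3 : ((a : K) : M) = ((b : K) : M) := congrArg (fun z : Z => (z : M)) hab
        exact Subtype.ext (Subtype.ext h3)
      exact Subgroup.card_dvd_of_injective ψ h2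
    have h2 : (Nat.card Z).Coprime 2 := hodd.coprime_two_right
    exact Nat.Coprime.coprime_dvd_left h1 h2
  -- the odd core
  have hoc : oddCore K = f.ker := by
    apply le_antisymm
    · intro k hk
      have h1 : (oddCore K).map f ≤ oddCore S := by
        apply Lib.Cores.le_pPrimeCore
        · exact (Lib.Cores.pPrimeCore_normal 2).map f hfs
        · exact Nat.Coprime.coprime_dvd_left (Subgroup.card_map_dvd _ _) (Lib.Cores.pPrimeCore_coprime 2)
      rw [ho] at h1
      exact (mem_bot.1 (h1 ⟨k, hk, rfl⟩) : f k = 1)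
    · exact Lib.Cores.le_pPrimeCore inferInstance hcop
  refine ⟨hKq, hKZ, ⟨(QuotientGroup.quotientMulEquivOfEq hoc).trans (QuotientGroup.quotientKerEquivOfSurjective f hfs)⟩, ?_⟩
  -- the core
  have hPK : IsPGroup 2 (pCore 2 K) := Lib.Cores.pCore_isPGroup 2
  have hmap : ∀ k ∈ pCore 2 K, f k ∈ pCore 2 S := by
    intro k hk
    have h1 : (pCore 2 K).map f ≤ pCore 2 S :=
      Lib.Cores.le_pCore ((Lib.Cores.pCore_normal 2).map f hfs) (hPK.map f)
    exact h1 ⟨k, hk, rfl⟩
  let ψ : pCore 2 K →* pCore 2 S := (f.comp (pCore 2 K).subtype).codRestrict _ (fun k => hmap k k.2)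
  have hinj : Function.Injective ψ := by
    rw [injective_iff_map_eq_one]
    intro k hk
    have h1 : f k = 1 := congrArg Subtype.val hk
    have h2 : (k : K) ∈ pCore 2 K ⊓ f.ker := ⟨k.2, h1⟩
    have h3 : IsPGroup 2 (pCore 2 K ⊓ f.ker : Subgroup K) := hPK.to_le inf_le_left
    have h4 : (Nat.card (pCore 2 K ⊓ f.ker : Subgroup K)).Coprime 2 :=
      Nat.Coprime.coprime_dvd_left (Subgroup.card_dvd_of_le inf_le_right) hcop
    obtain ⟨m, hm⟩ := IsPGroup.iff_card.1 h3
    have h5 : m = 0 := by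
      by_contra h6
      rw [hm] at h4
      have h7 := Nat.dvd_gcd (dvd_pow_self 2 h6) (dvd_refl 2)
      rw [h4.gcd_eq_one] at h7
      omega
    rw [h5, pow_zero, Subgroup.card_eq_one] at hm
    rw [hm, mem_bot] at h2
    exact Subtype.ext h2
  have hsur : Function.Surjective ψ := by
    rintro ⟨z, hz⟩
    obtain ⟨k, rfl⟩ := hfs z
    -- `k` is central
    have hkcen : k ∈ center K := by
      have h1 : (pCore 2 S).comap f ≤ center K := by
        have hnorm : ((pCore 2 S).comap f).Normal := (Lib.Cores.pCore_normal 2).comap f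
        refine (quasisimple_normal hKq _ hnorm).resolve_left fun h => ?_
        apply pCore_ne_top hq
        rw [eq_top_iff]
        intro s _
        obtain ⟨k, rfl⟩ := hfs s
        exact (h ▸ mem_top k : k ∈ (pCore 2 S).comap f)
      exact h1 hz
    obtain ⟨a, ha⟩ := (Lib.Cores.pCore_isPGroup 2 : IsPGroup 2 (pCore 2 S)) ⟨f k, hz⟩
    have ha' : (f k) ^ 2 ^ a = 1 := congrArg Subtype.val ha
    -- the odd multiple
    set m := Nat.card f.ker with hm
    have hcm : Nat.Coprime m (2 ^ a) := Nat.Coprime.pow_right a hcop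
    obtain ⟨b, hb1, hb2⟩ : ∃ b : ℕ, b ≡ 0 [MOD m] ∧ b ≡ 1 [MOD 2 ^ a] := ⟨_, (Nat.chineseRemainder hcm 0 1).2⟩
    have h1 : f (k ^ b) = f k := by
      rw [map_pow]
      have h2 := (pow_eq_pow_iff_modEq (x := f k) (n := b) (m := 1)).2
        (hb2.of_dvd (orderOf_dvd_of_pow_eq_one ha'))
      rw [h2, pow_one]
    have h2 : (k ^ b) ^ 2 ^ a = 1 := by
      obtain ⟨c, hc⟩ := (Nat.modEq_zero_iff_dvd).1 hb1
      have h3 : k ^ 2 ^ a ∈ f.ker := by rw [MonoidHom.mem_ker, map_pow, ha']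
      have h4 : (k ^ 2 ^ a) ^ m = 1 := by
        have h5 : (⟨_, h3⟩ : f.ker) ^ m = 1 := by rw [hm]; exact pow_card_eq_one'
        exact congrArg Subtype.val h5
      rw [← pow_mul, mul_comm, pow_mul, hc, pow_mul, h4, one_pow]
    have h3 : zpowers (k ^ b) ≤ pCore 2 K := by
      apply Lib.Cores.le_pCore
      · refine ⟨fun x hx y => ?_⟩
        have h4 : x ∈ center K := (zpowers_le.2 (pow_mem hkcen b)) hx
        have h5 : y * x * y⁻¹ = x := by rw [mem_center_iff.1 h4 y, mul_inv_cancel_right]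
        rw [h5]
        exact hx
      · exact IsPGroup.of_card (n := _) (by
          rw [Nat.card_zpowers]
          exact ((Nat.dvd_prime_pow Nat.prime_two).1 (orderOf_dvd_of_pow_eq_one h2)).choose_spec.2)
    exact ⟨⟨k ^ b, h3 (mem_zpowers _)⟩, Subtype.ext h1⟩
  exact ⟨MulEquiv.ofBijective ψ ⟨hinj, hsur⟩⟩

end Lift

/-- **the lifting lemma for `SU_4(3)`** -/
theorem lift {E : Type v} [Field E] [Fintype E] (hE : Fintype.card E = 9) {M : Type u} [Group M] [Finite M]
    (Z : Subgroup M) (hZ : Z ≤ Subgroup.center M) (hodd : Odd (Nat.card Z)) [Z.Normal] (e : (M ⧸ Z) ≃* ↥(Cfsg.SU 4 E 3)) :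
    let K := commutator M
    Cfsg.IsQuasisimple ↥K ∧ K ⊔ Z = ⊤ ∧ Nonempty ((↥K ⧸ Cfsg.oddCore ↥K) ≃* ↥(Cfsg.SU 4 E 3)) ∧
      IsCyclic ↥(Cfsg.pCore 2 ↥K) ∧ Nat.card ↥(Cfsg.pCore 2 ↥K) = 4 := by
  intro K
  obtain ⟨h1, h2, h3, h4⟩ := su_facts hE
  obtain ⟨k1, k2, k3, ⟨k4⟩⟩ := lift_gen h1 h2 Z hZ hodd e
  exact ⟨k1, k2, k3, isCyclic_of_surjective k4.symm k4.symm.surjective, (Nat.card_congr k4.toEquiv).trans h4⟩

end Cfsg.Agent.H748.SU43
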